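import Mathlib
import Cfsg.Prelude.Def_Characters
import Cfsg.Agent.Lib.Helper26.CharBase

/-!
# Virtual characters as integer combinations of irreducible characters

`classInner` algebra, expansion of (generalized) characters with integer coefficients,
norm-one generalized characters are irreducible up to sign, closure properties.
-/

set_option autoImplicit false

namespace Cfsg.Agent.Lib.Helper26

open scoped ComplexConjugate

universe u

variable {G : Type u} [Group G]

section algebra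

variable [Fintype G]

theorem classInner_add_left (φ₁ φ₂ ψ : G → ℂ) :
    Cfsg.classInner (φ₁ + φ₂) ψ = Cfsg.classInner φ₁ ψ + Cfsg.classInner φ₂ ψ := by
  simp only [Cfsg.classInner, Pi.add_apply, add_mul, Finset.sum_add_distrib, mul_add]

theorem classInner_add_right (φ ψ₁ ψ₂ : G → ℂ) :
    Cfsg.classInner φ (ψ₁ + ψ₂) = Cfsg.classInner φ ψ₁ + Cfsg.classInner φ ψ₂ := by
  simp only [Cfsg.classInner, Pi.add_apply, map_add, mul_add, Finset.sum_add_distrib]

theorem classInner_smul_left (c : ℂ) (φ ψ : G → ℂ) :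
    Cfsg.classInner (c • φ) ψ = c * Cfsg.classInner φ ψ := by
  simp only [Cfsg.classInner, Pi.smul_apply, smul_eq_mul, Finset.mul_sum]
  refine Finset.sum_congr rfl (fun g _ => ?_)
  ring

theorem classInner_smul_right (c : ℂ) (φ ψ : G → ℂ) :
    Cfsg.classInner φ (c • ψ) = conj c * Cfsg.classInner φ ψ := by
  simp only [Cfsg.classInner, Pi.smul_apply, smul_eq_mul, Finset.mul_sum, map_mul]
  refine Finset.sum_congr rfl (fun g _ => ?_)
  ring

theorem classInner_zero_left (ψ : G → ℂ) : Cfsg.classInner (0 : G → ℂ) ψ = 0 := by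
  simp [Cfsg.classInner]

theorem classInner_zero_right (φ : G → ℂ) : Cfsg.classInner φ (0 : G → ℂ) = 0 := by
  simp [Cfsg.classInner]

theorem classInner_neg_left (φ ψ : G → ℂ) : Cfsg.classInner (-φ) ψ = -Cfsg.classInner φ ψ := by
  have := classInner_smul_left (-1) φ ψ
  simpa using this

theorem classInner_neg_right (φ ψ : G → ℂ) : Cfsg.classInner φ (-ψ) = -Cfsg.classInner φ ψ := by
  have := classInner_smul_right (-1) φ ψ
  simpa using this

theorem classInner_sub_left (φ₁ φ₂ ψ : G → ℂ) :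
    Cfsg.classInner (φ₁ - φ₂) ψ = Cfsg.classInner φ₁ ψ - Cfsg.classInner φ₂ ψ := by
  rw [sub_eq_add_neg, classInner_add_left, classInner_neg_left, sub_eq_add_neg]

theorem classInner_sub_right (φ ψ₁ ψ₂ : G → ℂ) :
    Cfsg.classInner φ (ψ₁ - ψ₂) = Cfsg.classInner φ ψ₁ - Cfsg.classInner φ ψ₂ := by
  rw [sub_eq_add_neg, classInner_add_right, classInner_neg_right, sub_eq_add_neg]

omit [Group G] [Fintype G] in
theorem zsmul_eq_smul (n : ℤ) (φ : G → ℂ) : n • φ = (n : ℂ) • φ := by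
  funext g
  simp [zsmul_eq_mul]

theorem classInner_zsmul_left (n : ℤ) (φ ψ : G → ℂ) :
    Cfsg.classInner (n • φ) ψ = n * Cfsg.classInner φ ψ := by
  rw [zsmul_eq_smul, classInner_smul_left]

theorem classInner_zsmul_right (n : ℤ) (φ ψ : G → ℂ) :
    Cfsg.classInner φ (n • ψ) = n * Cfsg.classInner φ ψ := by
  rw [zsmul_eq_smul, classInner_smul_right]
  simp

theorem classInner_sum_left {ι : Type*} (s : Finset ι) (f : ι → G → ℂ) (ψ : G → ℂ) :
    Cfsg.classInner (∑ i ∈ s, f i) ψ = ∑ i ∈ s, Cfsg.classInner (f i) ψ := by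
  classical
  induction s using Finset.induction_on with
  | empty => simp [classInner_zero_left]
  | insert a s ha ih => rw [Finset.sum_insert ha, Finset.sum_insert ha, classInner_add_left, ih]

theorem classInner_sum_right {ι : Type*} (s : Finset ι) (φ : G → ℂ) (f : ι → G → ℂ) :
    Cfsg.classInner φ (∑ i ∈ s, f i) = ∑ i ∈ s, Cfsg.classInner φ (f i) := by
  classical
  induction s using Finset.induction_on with
  | empty => simp [classInner_zero_right]
  | insert a s ha ih => rw [Finset.sum_insert ha, Finset.sum_insert ha, classInner_add_right, ih]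

theorem classInner_conj_symm (φ ψ : G → ℂ) :
    conj (Cfsg.classInner φ ψ) = Cfsg.classInner ψ φ := by
  simp only [Cfsg.classInner, map_mul, map_inv₀, map_natCast, map_sum, Complex.conj_conj]
  congr 1
  refine Finset.sum_congr rfl (fun g _ => ?_)
  ring

end algebra

section degree

theorem char_inv_eq_conj [Finite G] {χ : G → ℂ} (h : Cfsg.IsCharacter G χ) (g : G) :
    χ g⁻¹ = conj (χ g) := by
  obtain ⟨n, ρ, rfl⟩ := h
  exact char_inv ρ g

/-- The degree of a character is a natural number. -/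
theorem char_degree {χ : G → ℂ} (hχ : Cfsg.IsCharacter G χ) :
    ∃ n : ℕ, χ 1 = n := by
  obtain ⟨n, ρ, rfl⟩ := hχ
  exact ⟨n, by rw [Representation.char_one]; simp⟩

/-- The degree of an irreducible character is a positive natural number. -/
theorem irr_degree {χ : G → ℂ} (hχ : Cfsg.IsIrrCharacter G χ) :
    ∃ n : ℕ, 0 < n ∧ χ 1 = n := by
  obtain ⟨n, ρ, hirr, rfl⟩ := hχ
  refine ⟨n, ?_, by rw [Representation.char_one]; simp⟩
  have hnt : Nontrivial (Fin n → ℂ) := by
    by_contra hV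
    rw [not_nontrivial_iff_subsingleton] at hV
    have : (⊥ : Subrepresentation ρ) = ⊤ := by
      apply Subrepresentation.toSubmodule_injective
      exact Subsingleton.elim _ _
    exact bot_ne_top this
  have := Module.finrank_pos (R := ℂ) (M := Fin n → ℂ)
  simpa using this

end degree

section chars

variable [Fintype G]

theorem classInner_eq_pair (φ : G → ℂ) {ψ : G → ℂ} (hψ : Cfsg.IsCharacter G ψ) :
    Cfsg.classInner φ ψ = pair φ ψ := by
  unfold Cfsg.classInner pair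
  congr 1
  refine Finset.sum_congr rfl (fun g _ => ?_)
  rw [char_inv_eq_conj hψ]

theorem classInner_irr_self {χ : G → ℂ} (hχ : Cfsg.IsIrrCharacter G χ) :
    Cfsg.classInner χ χ = 1 := by
  rw [classInner_eq_pair _ (isCharacter_of_irr hχ)]
  exact pair_irr_self hχ

theorem classInner_irr_ne {χ ψ : G → ℂ} (hχ : Cfsg.IsIrrCharacter G χ)
    (hψ : Cfsg.IsIrrCharacter G ψ) (h : χ ≠ ψ) : Cfsg.classInner χ ψ = 0 := by
  rw [classInner_eq_pair _ (isCharacter_of_irr hψ)]
  exact pair_irr_ne hχ hψ h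

theorem pair_char_nat {χ ψ : G → ℂ} (hχ : Cfsg.IsCharacter G χ) (hψ : Cfsg.IsCharacter G ψ) :
    ∃ m : ℕ, pair χ ψ = m := by
  obtain ⟨n, ρ, rfl⟩ := hχ
  obtain ⟨k, σ, rfl⟩ := hψ
  have : Invertible (Nat.card G : ℂ) := invertibleOfNonzero card_ne_zero'
  exact ⟨_, Representation.card_inv_mul_sum_char_mul_char_eq_finrank σ ρ⟩

variable [Fintype (Cfsg.IrrCharacter G)]

/-- A character is a combination of irreducible characters with natural coefficients. -/
theorem character_expansion {χ : G → ℂ} (hχ : Cfsg.IsCharacter G χ) :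
    ∃ m : Cfsg.IrrCharacter G → ℕ, χ = ∑ ψ : Cfsg.IrrCharacter G, (m ψ : ℂ) • (ψ : G → ℂ) := by
  have h := fun ψ : Cfsg.IrrCharacter G => pair_char_nat hχ (isCharacter_of_irr ψ.2)
  choose m hm using h
  refine ⟨m, ?_⟩
  have := classFunction_expansion (isClassFunction_of_isCharacter hχ)
  simp only [hm] at this
  exact this

/-- A generalized character is a combination of irreducible characters with integer
coefficients. -/
theorem gen_expansion {θ : G → ℂ} (hθ : Cfsg.IsGeneralizedCharacter G θ) :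
    ∃ n : Cfsg.IrrCharacter G → ℤ, θ = ∑ ψ : Cfsg.IrrCharacter G, (n ψ : ℂ) • (ψ : G → ℂ) := by
  obtain ⟨χ₁, χ₂, h₁, h₂, rfl⟩ := hθ
  obtain ⟨m₁, e₁⟩ := character_expansion h₁
  obtain ⟨m₂, e₂⟩ := character_expansion h₂
  refine ⟨fun ψ => (m₁ ψ : ℤ) - (m₂ ψ : ℤ), ?_⟩
  conv_lhs => rw [e₁, e₂]
  rw [← Finset.sum_sub_distrib]
  refine Finset.sum_congr rfl (fun ψ _ => ?_)
  push_cast
  rw [sub_smul]

theorem classInner_expansion (a b : Cfsg.IrrCharacter G → ℂ) :
    Cfsg.classInner (∑ ψ : Cfsg.IrrCharacter G, a ψ • (ψ : G → ℂ))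
      (∑ ψ : Cfsg.IrrCharacter G, b ψ • (ψ : G → ℂ)) = ∑ ψ : Cfsg.IrrCharacter G, a ψ * conj (b ψ) := by
  classical
  rw [classInner_sum_left]
  refine Finset.sum_congr rfl (fun ψ _ => ?_)
  rw [classInner_sum_right, Finset.sum_eq_single ψ]
  · rw [classInner_smul_left, classInner_smul_right, classInner_irr_self ψ.2]
    ring
  · intro ψ' _ hne
    rw [classInner_smul_left, classInner_smul_right,
      classInner_irr_ne ψ.2 ψ'.2 (fun h => hne (Subtype.ext h.symm))]
    ring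
  · intro h; exact absurd (Finset.mem_univ ψ) h

theorem classInner_expansion_irr (a : Cfsg.IrrCharacter G → ℂ) (χ : Cfsg.IrrCharacter G) :
    Cfsg.classInner (∑ ψ : Cfsg.IrrCharacter G, a ψ • (ψ : G → ℂ)) (χ : G → ℂ) = a χ := by
  classical
  rw [classInner_sum_left, Finset.sum_eq_single χ]
  · rw [classInner_smul_left, classInner_irr_self χ.2, mul_one]
  · intro ψ' _ hne
    rw [classInner_smul_left, classInner_irr_ne ψ'.2 χ.2 (fun h => hne (Subtype.ext h)), mul_zero]
  · intro h; exact absurd (Finset.mem_univ χ) h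

/-- The inner product of two generalized characters is an integer. -/
theorem classInner_gen_int {θ θ' : G → ℂ} (hθ : Cfsg.IsGeneralizedCharacter G θ)
    (hθ' : Cfsg.IsGeneralizedCharacter G θ') : ∃ k : ℤ, Cfsg.classInner θ θ' = k := by
  obtain ⟨n, rfl⟩ := gen_expansion hθ
  obtain ⟨n', rfl⟩ := gen_expansion hθ'
  refine ⟨∑ ψ : Cfsg.IrrCharacter G, n ψ * n' ψ, ?_⟩
  rw [classInner_expansion]
  push_cast
  refine Finset.sum_congr rfl (fun ψ _ => ?_)
  simp

/-- A generalized character of norm one is an irreducible character up to sign. -/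
theorem irr_or_neg_of_norm_one {θ : G → ℂ} (hθ : Cfsg.IsGeneralizedCharacter G θ)
    (h1 : Cfsg.classInner θ θ = 1) : Cfsg.IsIrrCharacter G θ ∨ Cfsg.IsIrrCharacter G (-θ) := by
  classical
  obtain ⟨n, rfl⟩ := gen_expansion hθ
  rw [classInner_expansion] at h1
  have h2 : ∑ ψ : Cfsg.IrrCharacter G, (n ψ) ^ 2 = 1 := by
    have : ((∑ ψ : Cfsg.IrrCharacter G, (n ψ) ^ 2 : ℤ) : ℂ) = ((1 : ℤ) : ℂ) := by
      push_cast
      rw [← h1]
      refine Finset.sum_congr rfl (fun ψ _ => ?_)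
      simp [sq]
    exact_mod_cast this
  have hex : ∃ ψ₀, n ψ₀ ≠ 0 := by
    by_contra hcon
    simp only [not_exists, not_not] at hcon
    simp [hcon] at h2
  obtain ⟨ψ₀, hψ₀⟩ := hex
  have hsplit : (n ψ₀) ^ 2 + ∑ ψ ∈ Finset.univ.erase ψ₀, (n ψ) ^ 2 = 1 :=
    (Finset.add_sum_erase Finset.univ (fun ψ => (n ψ) ^ 2) (Finset.mem_univ ψ₀)).trans h2
  have hnn : 0 ≤ ∑ ψ ∈ Finset.univ.erase ψ₀, (n ψ) ^ 2 :=
    Finset.sum_nonneg (fun ψ _ => sq_nonneg _)
  have hge : 1 ≤ (n ψ₀) ^ 2 := by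
    have : 0 < (n ψ₀) ^ 2 := by positivity
    omega
  have hsq : (n ψ₀) ^ 2 = 1 := by omega
  have hrest : ∑ ψ ∈ Finset.univ.erase ψ₀, (n ψ) ^ 2 = 0 := by omega
  have hzero : ∀ ψ, ψ ≠ ψ₀ → n ψ = 0 := by
    intro ψ hne
    have := (Finset.sum_eq_zero_iff_of_nonneg (fun ψ _ => sq_nonneg (n ψ))).mp hrest ψ
      (Finset.mem_erase.mpr ⟨hne, Finset.mem_univ ψ⟩)
    exact pow_eq_zero_iff (two_ne_zero) |>.mp this
  have hsum : ∑ ψ : Cfsg.IrrCharacter G, (n ψ : ℂ) • (ψ : G → ℂ) = (n ψ₀ : ℂ) • (ψ₀ : G → ℂ) := by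
    rw [Finset.sum_eq_single ψ₀]
    · intro ψ _ hne
      rw [hzero ψ hne]; simp
    · intro h; exact absurd (Finset.mem_univ ψ₀) h
  rw [hsum]
  have hpm : n ψ₀ = 1 ∨ n ψ₀ = -1 := by
    have : (n ψ₀ - 1) * (n ψ₀ + 1) = 0 := by ring_nf; omega
    rcases mul_eq_zero.mp this with h | h
    · left; omega
    · right; omega
  rcases hpm with h | h
  · left; rw [h]; simpa using ψ₀.2
  · right; rw [h]; simpa using ψ₀.2

end chars

section closure

theorem isCharacter_zero : Cfsg.IsCharacter G (0 : G → ℂ) := by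
  refine ⟨0, 1, ?_⟩
  funext g
  simp [Representation.character]

theorem isCharacter_add {χ₁ χ₂ : G → ℂ} (h₁ : Cfsg.IsCharacter G χ₁)
    (h₂ : Cfsg.IsCharacter G χ₂) : Cfsg.IsCharacter G (χ₁ + χ₂) := by
  obtain ⟨n, ρ, rfl⟩ := h₁
  obtain ⟨m, σ, rfl⟩ := h₂
  have := isCharacter_character (ρ.prod σ)
  convert this using 1
  funext g
  show LinearMap.trace ℂ _ (ρ g) + LinearMap.trace ℂ _ (σ g) =
    LinearMap.trace ℂ _ ((ρ g).prodMap (σ g))
  rw [LinearMap.trace_prodMap']

theorem isGen_of_isCharacter {χ : G → ℂ} (h : Cfsg.IsCharacter G χ) :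
    Cfsg.IsGeneralizedCharacter G χ :=
  ⟨χ, 0, h, isCharacter_zero, (sub_zero χ).symm⟩

theorem isGen_of_irr {χ : G → ℂ} (h : Cfsg.IsIrrCharacter G χ) :
    Cfsg.IsGeneralizedCharacter G χ :=
  isGen_of_isCharacter (isCharacter_of_irr h)

theorem isGen_zero : Cfsg.IsGeneralizedCharacter G (0 : G → ℂ) :=
  isGen_of_isCharacter isCharacter_zero

theorem isGen_add {θ₁ θ₂ : G → ℂ} (h₁ : Cfsg.IsGeneralizedCharacter G θ₁)
    (h₂ : Cfsg.IsGeneralizedCharacter G θ₂) : Cfsg.IsGeneralizedCharacter G (θ₁ + θ₂) := by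
  obtain ⟨χ₁, ψ₁, a₁, b₁, rfl⟩ := h₁
  obtain ⟨χ₂, ψ₂, a₂, b₂, rfl⟩ := h₂
  exact ⟨χ₁ + χ₂, ψ₁ + ψ₂, isCharacter_add a₁ a₂, isCharacter_add b₁ b₂, by abel⟩

theorem isGen_neg {θ : G → ℂ} (h : Cfsg.IsGeneralizedCharacter G θ) :
    Cfsg.IsGeneralizedCharacter G (-θ) := by
  obtain ⟨χ, ψ, a, b, rfl⟩ := h
  exact ⟨ψ, χ, b, a, by abel⟩

theorem isGen_sub {θ₁ θ₂ : G → ℂ} (h₁ : Cfsg.IsGeneralizedCharacter G θ₁)
    (h₂ : Cfsg.IsGeneralizedCharacter G θ₂) : Cfsg.IsGeneralizedCharacter G (θ₁ - θ₂) := by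
  rw [sub_eq_add_neg]
  exact isGen_add h₁ (isGen_neg h₂)

theorem isGen_nsmul {θ : G → ℂ} (h : Cfsg.IsGeneralizedCharacter G θ) (n : ℕ) :
    Cfsg.IsGeneralizedCharacter G (n • θ) := by
  induction n with
  | zero => rw [zero_smul]; exact isGen_zero
  | succ n ih => rw [succ_nsmul]; exact isGen_add ih h

theorem isGen_zsmul {θ : G → ℂ} (h : Cfsg.IsGeneralizedCharacter G θ) (n : ℤ) :
    Cfsg.IsGeneralizedCharacter G (n • θ) := by
  cases n with
  | ofNat n => rw [Int.ofNat_eq_natCast, natCast_zsmul]; exact isGen_nsmul h n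
  | negSucc n => rw [negSucc_zsmul]; exact isGen_neg (isGen_nsmul h (n + 1))

theorem isGen_sum {ι : Type*} (s : Finset ι) (f : ι → G → ℂ)
    (h : ∀ i ∈ s, Cfsg.IsGeneralizedCharacter G (f i)) :
    Cfsg.IsGeneralizedCharacter G (∑ i ∈ s, f i) := by
  classical
  induction s using Finset.induction_on with
  | empty => rw [Finset.sum_empty]; exact isGen_zero
  | insert a s ha ih =>
    rw [Finset.sum_insert ha]
    exact isGen_add (h a (Finset.mem_insert_self a s))
      (ih (fun i hi => h i (Finset.mem_insert_of_mem hi)))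

end closure

end Cfsg.Agent.Lib.Helper26
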