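import Mathlib
import Cfsg.Prelude.Def_Characters
import Cfsg.Prelude.Def_OddOrderChar
import Cfsg.Agent.Lib.Helper26.VChar

/-!
# Tools for coherence statements

Integer spans as submodules, linearity consequences of `IsLinearIsometryOn`, and the
extension of an inner-product preserving assignment on an orthogonal family to a linear
isometry on its integer span.
-/

set_option autoImplicit false

namespace Cfsg.Agent.Lib.Helper26

open scoped ComplexConjugate

universe u v

/-- `zspanOn S A` as a submodule. -/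
def zspanOnSub {X : Type u} (S : Set (X → ℂ)) (A : Set X) : Submodule ℤ (X → ℂ) where
  carrier := Cfsg.zspanOn S A
  zero_mem' := ⟨Submodule.zero_mem _, fun x _ => rfl⟩
  add_mem' := by
    rintro a b ⟨ha, ha'⟩ ⟨hb, hb'⟩
    exact ⟨Submodule.add_mem _ ha hb, fun x hx => by simp [ha' x hx, hb' x hx]⟩
  smul_mem' := by
    rintro c a ⟨ha, ha'⟩
    exact ⟨Submodule.smul_mem _ c ha, fun x hx => by simp [ha' x hx]⟩

theorem coe_zspanOnSub {X : Type u} (S : Set (X → ℂ)) (A : Set X) :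
    ((zspanOnSub S A : Submodule ℤ (X → ℂ)) : Set (X → ℂ)) = Cfsg.zspanOn S A := rfl

theorem mem_zspanOnSub {X : Type u} {S : Set (X → ℂ)} {A : Set X} {α : X → ℂ} :
    α ∈ zspanOnSub S A ↔ α ∈ Submodule.span ℤ S ∧ ∀ x, x ∉ A → α x = 0 := Iff.rfl

theorem mem_zspanOn_one {X : Type u} [One X] {S : Set (X → ℂ)} {α : X → ℂ} :
    α ∈ Cfsg.zspanOn S {1}ᶜ ↔ α ∈ Submodule.span ℤ S ∧ α 1 = 0 := by
  constructor
  · rintro ⟨h1, h2⟩
    exact ⟨h1, h2 1 (by simp)⟩
  · rintro ⟨h1, h2⟩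
    refine ⟨h1, fun x hx => ?_⟩
    have : x = 1 := by simpa using hx
    rw [this]; exact h2

theorem zsmul_apply' {X : Type*} (n : ℤ) (f : X → ℂ) (x : X) : (n • f) x = (n : ℂ) * f x := by
  rw [Pi.smul_apply, zsmul_eq_mul]

variable {L : Type u} [Group L] [Fintype L] {G : Type v} [Group G] [Fintype G]

section lin

variable {E : Submodule ℤ (L → ℂ)} {τ : (L → ℂ) → (G → ℂ)}

theorem lin_add (hτ : Cfsg.IsLinearIsometryOn (E : Set (L → ℂ)) τ) {a b : L → ℂ} (ha : a ∈ E)
    (hb : b ∈ E) : τ (a + b) = τ a + τ b := hτ.1 a ha b hb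

theorem lin_zsmul (hτ : Cfsg.IsLinearIsometryOn (E : Set (L → ℂ)) τ) {a : L → ℂ} (ha : a ∈ E)
    (n : ℤ) : τ (n • a) = n • τ a := hτ.2.1 a ha n

theorem lin_zero (hτ : Cfsg.IsLinearIsometryOn (E : Set (L → ℂ)) τ) : τ 0 = 0 := by
  have := hτ.2.1 0 E.zero_mem 0
  simpa using this

theorem lin_neg (hτ : Cfsg.IsLinearIsometryOn (E : Set (L → ℂ)) τ) {a : L → ℂ} (ha : a ∈ E) :
    τ (-a) = -τ a := by
  have := hτ.2.1 a ha (-1)
  simpa using this

theorem lin_sub (hτ : Cfsg.IsLinearIsometryOn (E : Set (L → ℂ)) τ) {a b : L → ℂ} (ha : a ∈ E)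
    (hb : b ∈ E) : τ (a - b) = τ a - τ b := by
  rw [sub_eq_add_neg, lin_add hτ ha (E.neg_mem hb), lin_neg hτ hb, sub_eq_add_neg]

theorem lin_sum (hτ : Cfsg.IsLinearIsometryOn (E : Set (L → ℂ)) τ) {ι : Type*} (s : Finset ι)
    (f : ι → L → ℂ) (hf : ∀ i ∈ s, f i ∈ E) : τ (∑ i ∈ s, f i) = ∑ i ∈ s, τ (f i) := by
  classical
  induction s using Finset.induction_on with
  | empty => simp [lin_zero hτ]
  | insert a s ha ih =>
    rw [Finset.sum_insert ha, Finset.sum_insert ha,
      lin_add hτ (hf a (Finset.mem_insert_self a s))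
        (E.sum_mem (fun i hi => hf i (Finset.mem_insert_of_mem hi))),
      ih (fun i hi => hf i (Finset.mem_insert_of_mem hi))]

theorem lin_inner (hτ : Cfsg.IsLinearIsometryOn (E : Set (L → ℂ)) τ) {a b : L → ℂ} (ha : a ∈ E)
    (hb : b ∈ E) : Cfsg.classInner (τ a) (τ b) = Cfsg.classInner a b := hτ.2.2.1 a ha b hb

theorem lin_gen (hτ : Cfsg.IsLinearIsometryOn (E : Set (L → ℂ)) τ) {a : L → ℂ} (ha : a ∈ E) :
    Cfsg.IsGeneralizedCharacter G (τ a) := hτ.2.2.2 a ha

end lin

section ext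

/-- Extension by prescribed images on an orthogonal family. -/
noncomputable def extMap (F : Finset (L → ℂ)) (T : (L → ℂ) → (G → ℂ)) (θ : L → ℂ) : G → ℂ :=
  ∑ χ ∈ F, (Cfsg.classInner θ χ / Cfsg.classInner χ χ) • T χ

omit [Group G] [Fintype G] in
theorem extMap_add (F : Finset (L → ℂ)) (T : (L → ℂ) → (G → ℂ)) (a b : L → ℂ) :
    extMap F T (a + b) = extMap F T a + extMap F T b := by
  unfold extMap
  rw [← Finset.sum_add_distrib]
  refine Finset.sum_congr rfl (fun χ _ => ?_)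
  rw [classInner_add_left, add_div, add_smul]

omit [Group G] [Fintype G] in
theorem extMap_zsmul (F : Finset (L → ℂ)) (T : (L → ℂ) → (G → ℂ)) (n : ℤ) (a : L → ℂ) :
    extMap F T (n • a) = n • extMap F T a := by
  unfold extMap
  rw [Finset.smul_sum]
  refine Finset.sum_congr rfl (fun χ _ => ?_)
  rw [classInner_zsmul_left, mul_div_assoc, mul_smul, zsmul_eq_smul]

theorem mem_zspan_finset {F : Finset (L → ℂ)} {θ : L → ℂ} :
    θ ∈ Cfsg.zspan (↑F : Set (L → ℂ)) ↔ ∃ f : (L → ℂ) → ℤ, θ = ∑ a ∈ F, f a • a := by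
  show θ ∈ Submodule.span ℤ (↑F : Set (L → ℂ)) ↔ _
  rw [Submodule.mem_span_finset]
  constructor
  · rintro ⟨f, -, rfl⟩
    exact ⟨f, rfl⟩
  · rintro ⟨f, rfl⟩
    classical
    refine ⟨fun a => if a ∈ F then f a else 0, ?_, ?_⟩
    · intro a ha
      by_contra hna
      have hna' : a ∉ F := hna
      simp [hna'] at ha
    · refine Finset.sum_congr rfl (fun a ha => ?_)
      simp [ha]

variable {F : Finset (L → ℂ)}

theorem classInner_comb_left (horth : ∀ χ ∈ F, ∀ ψ ∈ F, χ ≠ ψ → Cfsg.classInner χ ψ = 0)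
    (f : (L → ℂ) → ℤ) {χ : L → ℂ} (hχ : χ ∈ F) :
    Cfsg.classInner (∑ a ∈ F, f a • a) χ = f χ * Cfsg.classInner χ χ := by
  classical
  rw [classInner_sum_left, Finset.sum_eq_single χ]
  · rw [classInner_zsmul_left]
  · intro b hb hne
    rw [classInner_zsmul_left, horth b hb χ hχ hne, mul_zero]
  · intro h; exact absurd hχ h

theorem classInner_comb_comb (horth : ∀ χ ∈ F, ∀ ψ ∈ F, χ ≠ ψ → Cfsg.classInner χ ψ = 0)
    (f g : (L → ℂ) → ℤ) :
    Cfsg.classInner (∑ a ∈ F, f a • a) (∑ a ∈ F, g a • a) =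
      ∑ a ∈ F, (f a : ℂ) * (g a : ℂ) * Cfsg.classInner a a := by
  rw [classInner_sum_right]
  refine Finset.sum_congr rfl (fun a ha => ?_)
  rw [classInner_zsmul_right, classInner_comb_left horth f ha]
  ring

omit [Group G] [Fintype G] in
theorem extMap_comb (horth : ∀ χ ∈ F, ∀ ψ ∈ F, χ ≠ ψ → Cfsg.classInner χ ψ = 0)
    (hnorm : ∀ χ ∈ F, Cfsg.classInner χ χ ≠ 0) (T : (L → ℂ) → (G → ℂ))
    (f : (L → ℂ) → ℤ) : extMap F T (∑ a ∈ F, f a • a) = ∑ a ∈ F, f a • T a := by
  unfold extMap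
  refine Finset.sum_congr rfl (fun χ hχ => ?_)
  rw [classInner_comb_left horth f hχ, mul_div_assoc, div_self (hnorm χ hχ), mul_one,
    zsmul_eq_smul]

theorem extMap_apply_mem (horth : ∀ χ ∈ F, ∀ ψ ∈ F, χ ≠ ψ → Cfsg.classInner χ ψ = 0)
    (hnorm : ∀ χ ∈ F, Cfsg.classInner χ χ ≠ 0) (T : (L → ℂ) → (G → ℂ)) {χ : L → ℂ}
    (hχ : χ ∈ F) : extMap F T χ = T χ := by
  classical
  have h := extMap_comb horth hnorm T (fun a => if a = χ then 1 else 0)
  simp only [ite_smul, one_smul, zero_smul, Finset.sum_ite_eq', hχ, if_true] at h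
  exact h

/-- The extension is a linear isometry on the integer span as soon as the prescribed images have
the right inner products and are generalized characters. -/
theorem extMap_isometry (horth : ∀ χ ∈ F, ∀ ψ ∈ F, χ ≠ ψ → Cfsg.classInner χ ψ = 0)
    (hnorm : ∀ χ ∈ F, Cfsg.classInner χ χ ≠ 0) (T : (L → ℂ) → (G → ℂ))
    (hT : ∀ χ ∈ F, ∀ ψ ∈ F, Cfsg.classInner (T χ) (T ψ) = Cfsg.classInner χ ψ)
    (hgen : ∀ χ ∈ F, Cfsg.IsGeneralizedCharacter G (T χ)) :
    Cfsg.IsLinearIsometryOn (Cfsg.zspan (↑F : Set (L → ℂ))) (extMap F T) := by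
  classical
  refine ⟨fun a _ b _ => extMap_add F T a b, fun a _ n => extMap_zsmul F T n a, ?_, ?_⟩
  · intro a ha b hb
    obtain ⟨f, rfl⟩ := mem_zspan_finset.mp ha
    obtain ⟨g, rfl⟩ := mem_zspan_finset.mp hb
    rw [extMap_comb horth hnorm, extMap_comb horth hnorm, classInner_comb_comb horth,
      classInner_sum_left]
    refine Finset.sum_congr rfl (fun a ha => ?_)
    rw [classInner_zsmul_left, classInner_sum_right, Finset.sum_eq_single a]
    · rw [classInner_zsmul_right, hT a ha a ha]; ring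
    · intro b hb hne
      rw [classInner_zsmul_right, hT a ha b hb, horth a ha b hb (Ne.symm hne), mul_zero]
    · intro h; exact absurd ha h
  · intro a ha
    obtain ⟨f, rfl⟩ := mem_zspan_finset.mp ha
    rw [extMap_comb horth hnorm]
    exact isGen_sum _ _ (fun a ha => isGen_zsmul (hgen a ha) _)

end ext

section posdef

theorem classInner_self_eq_zero {f : G → ℂ} (h : Cfsg.classInner f f = 0) : f = 0 := by
  unfold Cfsg.classInner at h
  have hne : (Nat.card G : ℂ)⁻¹ ≠ 0 := by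
    apply inv_ne_zero
    exact_mod_cast (Nat.card_pos (α := G)).ne'
  have h2 : ∑ g : G, f g * conj (f g) = 0 := by
    rcases mul_eq_zero.mp h with h | h
    · exact absurd h hne
    · exact h
  have h3 : ∑ g : G, (Complex.normSq (f g) : ℂ) = 0 := by
    rw [← h2]
    refine Finset.sum_congr rfl (fun g _ => ?_)
    rw [Complex.mul_conj]
  have h4 : ∑ g : G, Complex.normSq (f g) = 0 := by
    exact_mod_cast h3
  funext g
  have := (Finset.sum_eq_zero_iff_of_nonneg (fun g _ => Complex.normSq_nonneg (f g))).mp h4 g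
    (Finset.mem_univ g)
  exact Complex.normSq_eq_zero.mp this

end posdef

section irr

open Classical in
/-- The degree of an irreducible character as a natural number (zero for other functions). -/
noncomputable def deg (a : L → ℂ) : ℕ :=
  if h : Cfsg.IsIrrCharacter L a then Classical.choose (irr_degree h) else 0

omit [Fintype L] in
theorem deg_pos {a : L → ℂ} (h : Cfsg.IsIrrCharacter L a) : 0 < deg a := by
  unfold deg
  rw [dif_pos h]
  exact (Classical.choose_spec (irr_degree h)).1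

omit [Fintype L] in
theorem deg_eq {a : L → ℂ} (h : Cfsg.IsIrrCharacter L a) : a 1 = (deg a : ℂ) := by
  unfold deg
  rw [dif_pos h]
  exact (Classical.choose_spec (irr_degree h)).2

theorem finite_of_irr {S : Set (L → ℂ)} (h : ∀ ξ ∈ S, Cfsg.IsIrrCharacter L ξ) : S.Finite := by
  have h1 : Finite ↥{χ : L → ℂ | Cfsg.IsIrrCharacter L χ} := irr_finite (G := L)
  exact (Set.finite_coe_iff.mp h1).subset h

theorem classInner_irr {χ ψ : L → ℂ} (hχ : Cfsg.IsIrrCharacter L χ)
    (hψ : Cfsg.IsIrrCharacter L ψ) [Decidable (χ = ψ)] :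
    Cfsg.classInner χ ψ = if χ = ψ then 1 else 0 := by
  split_ifs with h
  · subst h; exact classInner_irr_self hχ
  · exact classInner_irr_ne hχ hψ h

end irr

section mono

theorem zspan_mono {X : Type u} {S S' : Set (X → ℂ)} (h : S ⊆ S') :
    Cfsg.zspan S ⊆ Cfsg.zspan S' := Submodule.span_mono h

theorem zspanOn_mono {X : Type u} {S S' : Set (X → ℂ)} (h : S ⊆ S') (A : Set X) :
    Cfsg.zspanOn S A ⊆ Cfsg.zspanOn S' A := fun _ ha => ⟨Submodule.span_mono h ha.1, ha.2⟩

end mono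

end Cfsg.Agent.Lib.Helper26
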