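import Cfsg.Agent.Lib.Helper26.M24Cert

set_option autoImplicit false

open scoped Pointwise

namespace Cfsg.Agent.Lib.Helper26

open Cfsg.Agent.Lib.Helper7

/-- `f i` holds for all `i < n`. -/
def allB (f : ℕ → Bool) : ℕ → Bool
  | 0 => true
  | n + 1 => f n && allB f n

theorem allB_spec {f : ℕ → Bool} {n : ℕ} (h : allB f n = true) : ∀ i < n, f i = true := by
  induction n with
  | zero => intro i hi; omega
  | succ n ih =>
    simp only [allB, Bool.and_eq_true] at h
    intro i hi
    rcases Nat.lt_succ_iff_lt_or_eq.mp hi with hi | rfl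
    · exact ih h.2 i hi
    · exact h.1

/-- Field of width `w` at offset `off` of record number `i` of a table packed in records of
width `W`. -/
def fld (big W off w i : ℕ) : ℕ :=
  Nat.mod (Nat.shiftRight big (Nat.add (Nat.mul W i) off)) (Nat.pow 2 w)

/-- The check at one position of a labelled orbit certificate: the position is the root of its
class, or its parent (of smaller depth and the same class) is carried to it by a generator. -/
def stepOK (act : ℕ → ℕ → ℕ) (rel : ℕ → ℕ → Bool) (Tinv : List ℕ) (N : ℕ)
    (obj lab par gen dep root : ℕ → ℕ) (i : ℕ) : Bool :=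
  (root (lab i) == i) ||
    (decide (par i < N) && decide (dep (par i) < dep i) && (lab (par i) == lab i) &&
      rel (act (Tinv.getD (gen i) idT) (obj (par i))) (obj i))

/-- Soundness of labelled orbit certificates: positions with equal labels denote objects in one
orbit. -/
theorem cert_trans {X : Type*} [MulAction (Equiv.Perm Cfsg.GolayPt) X]
    (S : Subgroup (Equiv.Perm Cfsg.GolayPt)) (den : ℕ → X) (act : ℕ → ℕ → ℕ)
    (rel : ℕ → ℕ → Bool)
    (hact : ∀ σ ∈ S, ∀ (t c : ℕ), RepT σ⁻¹ t → σ • den c = den (act t c))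
    (hrel : ∀ a b, rel a b = true → den a = den b)
    {L : List (Equiv.Perm Cfsg.GolayPt)} {Tinv : List ℕ}
    (hrep : List.Forall₂ (fun σ t => RepT σ⁻¹ t) L Tinv) (hL : ∀ σ ∈ L, σ ∈ S)
    (N : ℕ) (obj lab par gen dep root : ℕ → ℕ)
    (hchk : allB (stepOK act rel Tinv N obj lab par gen dep root) N = true) :
    ∀ i < N, ∀ j < N, lab i = lab j → ∃ u ∈ S, u • den (obj i) = den (obj j) := by
  have key : ∀ d, ∀ i < N, dep i = d →
      ∃ u ∈ S, u • den (obj (root (lab i))) = den (obj i) := by
    intro d
    induction d using Nat.strong_induction_on with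
    | _ d ih =>
      intro i hi hd
      have h := allB_spec hchk i hi
      unfold stepOK at h
      rw [Bool.or_eq_true] at h
      rcases h with h | h
      · rw [beq_iff_eq] at h
        rw [h]
        exact ⟨1, S.one_mem, one_smul _ _⟩
      · simp only [Bool.and_eq_true, decide_eq_true_eq, beq_iff_eq] at h
        obtain ⟨⟨⟨h1, h2⟩, h3⟩, h4⟩ := h
        obtain ⟨u, hu, hu2⟩ := ih (dep (par i)) (by omega) (par i) h1 rfl
        have hσ : L.getD (gen i) 1 ∈ S := getD_mem_subgroup S hL _
        refine ⟨L.getD (gen i) 1 * u, S.mul_mem hσ hu, ?_⟩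
        rw [mul_smul, ← h3, hu2, hact _ hσ _ _ (repInv_getD hrep _)]
        exact hrel _ _ h4
  intro i hi j hj hij
  obtain ⟨u, hu, hu2⟩ := key _ i hi rfl
  obtain ⟨v, hv, hv2⟩ := key _ j hj rfl
  refine ⟨v * u⁻¹, S.mul_mem hv (S.inv_mem hu), ?_⟩
  rw [← hu2, mul_smul, inv_smul_smul, hij, hv2]

/-- A strictly increasing table is injective. -/
theorem inj_of_sorted {obj : ℕ → ℕ} {N : ℕ}
    (h : allB (fun i => decide (obj i < obj (i + 1))) (N - 1) = true) :
    ∀ i < N, ∀ j < N, obj i = obj j → i = j := by
  have hstep : ∀ i, i + 1 < N → obj i < obj (i + 1) := by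
    intro i hi
    have := allB_spec h i (by omega)
    simpa using this
  have hmono : ∀ i j, i < j → j < N → obj i < obj j := by
    intro i j hij
    induction j with
    | zero => omega
    | succ j ih =>
      intro hj
      rcases Nat.lt_succ_iff_lt_or_eq.mp hij with h1 | rfl
      · exact lt_trans (ih h1 (by omega)) (hstep j hj)
      · exact hstep i hj
  intro i hi j hj hij
  rcases lt_trichotomy i j with h1 | h1 | h1
  · exact absurd hij (ne_of_lt (hmono i j h1 hj))
  · exact h1
  · exact absurd hij.symm (ne_of_lt (hmono j i h1 hi))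

theorem cntL_eq' (f : ℕ → ℕ) (j N : ℕ) :
    ((Finset.range N).filter (fun i => f i = j)).card = cntL (fun i => f i == j) N := by
  rw [cntL_eq]
  congr 1
  ext i
  simp

end Cfsg.Agent.Lib.Helper26
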