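import Cfsg.Agent.Lib.Helper26.Co3Rel

set_option autoImplicit false

/-! # The two elements `X` and `Z` generate `Co3` -/

namespace Cfsg.Agent.Lib.Helper26.Co3

open Cfsg Cfsg.Spor Cfsg.Agent.Lib.Helper7 Cfsg.Agent.Lib.Helper92

/-- Instructions: product or inverse of earlier tables (counted backwards). -/
inductive Ins where
  | mul (a b : ℕ)
  | inv (a : ℕ)

/-- Table of the inverse, if the table is a permutation. -/
def invAux (T : ℕ) : ℕ → ℕ → ℕ
  | 0, acc => acc
  | k + 1, acc => invAux T k (Nat.add acc (Nat.shiftLeft k (Nat.mul 10 (ln T k))))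

/-- Table of the inverse, if the table is a permutation. -/
def invTb (T : ℕ) : ℕ := invAux T 552 0

/-- One instruction. -/
def step (acc : List ℕ) : Ins → List ℕ
  | Ins.mul a b => compT (acc.getD a idT) (acc.getD b idT) :: acc
  | Ins.inv a =>
    if tabOK (invTb (acc.getD a idT)) &&
        Nat.beq (compT (acc.getD a idT) (invTb (acc.getD a idT))) idT then
      invTb (acc.getD a idT) :: acc
    else idT :: acc

/-- Run a program. -/
def run (prog : List Ins) (acc : List ℕ) : List ℕ := prog.foldl step acc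

/-- The table is the table of an element of the subgroup. -/
def Real (H : Subgroup ↥Spor.Co3) (T : ℕ) : Prop := ∃ g ∈ H, Acts g.1 T

theorem real_one (H : Subgroup ↥Spor.Co3) : Real H idT := ⟨1, H.one_mem, acts_one⟩

theorem real_getD {H : Subgroup ↥Spor.Co3} {acc : List ℕ} (h : ∀ T ∈ acc, Real H T) (a : ℕ) :
    Real H (acc.getD a idT) := by
  by_cases ha : a < acc.length
  · rw [List.getD_eq_getElem _ _ ha]
    exact h _ (List.getElem_mem ha)
  · rw [List.getD_eq_default _ _ (by omega)]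
    exact real_one H

theorem real_step {H : Subgroup ↥Spor.Co3} {acc : List ℕ} (h : ∀ T ∈ acc, Real H T) (i : Ins) :
    ∀ T ∈ step acc i, Real H T := by
  cases i with
  | mul a b =>
    intro T hT
    simp only [step, List.mem_cons] at hT
    rcases hT with hT | hT
    · rw [hT]
      obtain ⟨g, hg, hga⟩ := real_getD h a
      obtain ⟨g', hg', hga'⟩ := real_getD h b
      exact ⟨g * g', H.mul_mem hg hg', acts_mul hga hga'⟩
    · exact h T hT
  | inv a =>
    intro T hT
    simp only [step] at hT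
    split_ifs at hT with hc
    · rw [List.mem_cons] at hT
      rcases hT with hT | hT
      · rw [hT]
        rw [Bool.and_eq_true] at hc
        obtain ⟨g, hg, hga⟩ := real_getD h a
        exact ⟨g⁻¹, H.inv_mem hg, hga.inv hc.1 (Nat.eq_of_beq_eq_true hc.2)⟩
      · exact h T hT
    · rw [List.mem_cons] at hT
      rcases hT with hT | hT
      · rw [hT]
        exact real_one H
      · exact h T hT

theorem real_run {H : Subgroup ↥Spor.Co3} (prog : List Ins) : ∀ {acc : List ℕ},
    (∀ T ∈ acc, Real H T) → ∀ T ∈ run prog acc, Real H T := by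
  induction prog with
  | nil => intro acc h; exact h
  | cons i prog ih =>
    intro acc h
    exact ih (real_step h i)

/-- The elements of a subgroup fixing a point. -/
def fixS (K : Subgroup ↥Spor.Co3) (p : ℕ) : Subgroup ↥Spor.Co3 where
  carrier := {g | g ∈ K ∧ g.1 (P p) = P p}
  one_mem' := ⟨K.one_mem, rfl⟩
  mul_mem' := by
    intro a b ha hb
    refine ⟨K.mul_mem ha.1 hb.1, ?_⟩
    show a.1 (b.1 (P p)) = P p
    rw [hb.2, ha.2]
  inv_mem' := by
    intro a ha
    refine ⟨K.inv_mem ha.1, ?_⟩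
    show (a.1)⁻¹ (P p) = P p
    rw [Equiv.Perm.inv_eq_iff_eq, ha.2]

theorem mem_fixS {K : Subgroup ↥Spor.Co3} {p : ℕ} {g : ↥Spor.Co3} :
    g ∈ fixS K p ↔ g ∈ K ∧ g.1 (P p) = P p := Iff.rfl

theorem orbit_step (K : Subgroup ↥Spor.Co3) (b : ℕ) (ys : List ℕ) (hnd : ys.Nodup)
    (hlt : ∀ y ∈ ys, y < 552) (h : ∀ y ∈ ys, ∃ g ∈ K, g.1 (P b) = P y) :
    ys.length * Nat.card (fixS K b) ≤ Nat.card K := by
  choose! w hwK hwy using h
  let F : Fin ys.length × fixS K b → K :=
    fun q => ⟨w (ys.get q.1) * q.2.1, K.mul_mem (hwK _ (List.get_mem ys q.1)) q.2.2.1⟩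
  have hF : Function.Injective F := by
    rintro ⟨c, s⟩ ⟨c', s'⟩ heq
    have heq' : w (ys.get c) * s.1 = w (ys.get c') * s'.1 := congrArg Subtype.val heq
    have h1 : (w (ys.get c) * s.1).1 (P b) = P (ys.get c) := by
      show (w (ys.get c)).1 (s.1.1 (P b)) = _
      rw [s.2.2, hwy _ (List.get_mem ys c)]
    have h2 : (w (ys.get c') * s'.1).1 (P b) = P (ys.get c') := by
      show (w (ys.get c')).1 (s'.1.1 (P b)) = _
      rw [s'.2.2, hwy _ (List.get_mem ys c')]
    rw [heq', h2] at h1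
    have h3 : ys.get c' = ys.get c :=
      P_inj (hlt _ (List.get_mem ys c')) (hlt _ (List.get_mem ys c)) h1
    have hcc : c = c' := (List.Nodup.get_inj_iff hnd).mp h3.symm
    subst hcc
    have h4 := mul_left_cancel heq'
    rw [Subtype.ext h4]
  have := Nat.card_le_card_of_injective F hF
  rwa [Nat.card_prod, Nat.card_fin] at this

/-- Distinctness of the entries of a list. -/
def nodupN : List ℕ → Bool
  | [] => true
  | a :: as => !(as.any (Nat.beq a)) && nodupN as

theorem nodupN_sound : ∀ l : List ℕ, nodupN l = true → l.Nodup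
  | [], _ => List.nodup_nil
  | a :: as, h => by
    simp only [nodupN, Bool.and_eq_true, Bool.not_eq_true', List.any_eq_false] at h
    refine List.nodup_cons.mpr ⟨fun hmem => ?_, nodupN_sound as h.2⟩
    have := h.1 a hmem
    simp at this

/-- The check for the orbit tree of one level: every new point is the image of an earlier point
under one of the generators. -/
def orbOK (acc : List ℕ) (gs : List ℕ) : List ℕ → List (ℕ × ℕ × ℕ) → Bool
  | _, [] => true
  | seen, (y, py, t) :: rest =>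
    seen.any (Nat.beq py) && Nat.blt t gs.length &&
      Nat.beq (ln (acc.getD (gs.getD t 0) idT) py) y && orbOK acc gs (y :: seen) rest

/-- The check for one level of the chain. -/
def lvOK (acc : List ℕ) (pre : List ℕ) (b : ℕ) (gs : List ℕ) (orb : List (ℕ × ℕ × ℕ)) : Bool :=
  gs.all (fun k => pre.all (fun p => Nat.beq (ln (acc.getD k idT) p) p)) &&
    orbOK acc gs [b] orb && nodupN (b :: orb.map (fun q => q.1))

/-- The check for the chain. -/
def chainOK (acc : List ℕ) : List ℕ → List (ℕ × List ℕ × List (ℕ × ℕ × ℕ)) → Bool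
  | _, [] => true
  | pre, (b, gs, orb) :: rest =>
    Nat.blt b 552 && lvOK acc pre b gs orb && chainOK acc (b :: pre) rest

theorem orb_reach {H K : Subgroup ↥Spor.Co3} {acc : List ℕ} (hacc : ∀ T ∈ acc, Real H T)
    {pre : List ℕ} (hpre : ∀ p ∈ pre, p < 552)
    (hK : ∀ g ∈ H, (∀ p ∈ pre, g.1 (P p) = P p) → g ∈ K) {b : ℕ} {gs : List ℕ}
    (hgs : gs.all (fun k => pre.all (fun p => Nat.beq (ln (acc.getD k idT) p) p)) = true) :
    ∀ (orb : List (ℕ × ℕ × ℕ)) (seen : List ℕ),
      (∀ y ∈ seen, y < 552 ∧ ∃ g ∈ K, g.1 (P b) = P y) → orbOK acc gs seen orb = true →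
      ∀ y ∈ orb.map (fun q => q.1), y < 552 ∧ ∃ g ∈ K, g.1 (P b) = P y := by
  intro orb
  induction orb with
  | nil => intro seen _ _ y hy; simp at hy
  | cons q rest ih =>
    obtain ⟨y0, py, t⟩ := q
    intro seen hseen hc y hy
    simp only [orbOK, Bool.and_eq_true] at hc
    obtain ⟨⟨⟨h1, h2⟩, h3⟩, h4⟩ := hc
    have ht : t < gs.length := Nat.blt_eq.mp h2
    obtain ⟨py', hpy', hpe⟩ := List.any_eq_true.mp h1
    have hpe' : py = py' := Nat.eq_of_beq_eq_true hpe
    subst hpe'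
    obtain ⟨hpylt, g, hgK, hg⟩ := hseen py hpy'
    have hy0 : y0 < 552 ∧ ∃ g ∈ K, g.1 (P b) = P y0 := by
      obtain ⟨s, hsH, hs⟩ := real_getD hacc (gs.getD t 0)
      have hmem : gs.getD t 0 ∈ gs := by
        rw [List.getD_eq_getElem _ _ ht]
        exact List.getElem_mem ht
      have hfix := List.all_eq_true.mp hgs _ hmem
      have hsK : s ∈ K := by
        apply hK s hsH
        intro p hp
        rw [(hs p (hpre p hp)).2, Nat.eq_of_beq_eq_true (List.all_eq_true.mp hfix p hp)]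
      have e := Nat.eq_of_beq_eq_true h3
      refine ⟨?_, s * g, K.mul_mem hsK hgK, ?_⟩
      · rw [← e]; exact (hs py hpylt).1
      · show s.1 (g.1 (P b)) = P y0
        rw [hg, (hs py hpylt).2, e]
    rw [List.map_cons, List.mem_cons] at hy
    rcases hy with rfl | hy
    · exact hy0
    · apply ih (y0 :: seen) _ h4 y hy
      intro z hz
      rcases List.mem_cons.mp hz with rfl | hz
      · exact hy0
      · exact hseen z hz

theorem chain_card {H : Subgroup ↥Spor.Co3} {acc : List ℕ} (hacc : ∀ T ∈ acc, Real H T) :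
    ∀ (levels : List (ℕ × List ℕ × List (ℕ × ℕ × ℕ))) (pre : List ℕ) (K : Subgroup ↥Spor.Co3),
      (∀ p ∈ pre, p < 552) → (∀ g ∈ H, (∀ p ∈ pre, g.1 (P p) = P p) → g ∈ K) →
      chainOK acc pre levels = true →
      (levels.map (fun l => l.2.2.length + 1)).prod ≤ Nat.card K := by
  intro levels
  induction levels with
  | nil =>
    intro pre K _ _ _
    simp only [List.map_nil, List.prod_nil]
    exact Nat.card_pos
  | cons l rest ih =>
    obtain ⟨b, gs, orb⟩ := l
    intro pre K hpre hK hc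
    simp only [chainOK, Bool.and_eq_true] at hc
    obtain ⟨⟨hb, hlv⟩, hrest⟩ := hc
    have hb' : b < 552 := Nat.blt_eq.mp hb
    unfold lvOK at hlv
    simp only [Bool.and_eq_true] at hlv
    obtain ⟨⟨hgs, horb⟩, hnd⟩ := hlv
    have hreach := orb_reach hacc hpre hK hgs orb [b]
      (by
        intro y hy
        rw [List.mem_singleton] at hy
        subst hy
        exact ⟨hb', 1, K.one_mem, rfl⟩) horb
    have hstep : (b :: orb.map (fun q => q.1)).length * Nat.card (fixS K b) ≤ Nat.card K := by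
      apply orbit_step K b _ (nodupN_sound _ hnd)
      · intro y hy
        rcases List.mem_cons.mp hy with rfl | hy
        · exact hb'
        · exact (hreach y hy).1
      · intro y hy
        rcases List.mem_cons.mp hy with rfl | hy
        · exact ⟨1, K.one_mem, rfl⟩
        · exact (hreach y hy).2
    have hrec := ih (b :: pre) (fixS K b)
      (by
        intro p hp
        rcases List.mem_cons.mp hp with rfl | hp
        · exact hb'
        · exact hpre p hp)
      (by
        intro g hgH hfix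
        exact ⟨hK g hgH (fun p hp => hfix p (List.mem_cons_of_mem _ hp)),
          hfix b List.mem_cons_self⟩)
      hrest
    rw [List.map_cons, List.prod_cons]
    rw [List.length_cons, List.length_map] at hstep
    calc (orb.length + 1) * (rest.map (fun l => l.2.2.length + 1)).prod
        ≤ (orb.length + 1) * Nat.card (fixS K b) := Nat.mul_le_mul_left _ hrec
      _ ≤ Nat.card K := hstep

/-- The program. -/
def prog : List Ins := [.mul 1 1, .mul 2 0, .mul 3 0, .mul 4 0, .mul 5 0, .mul 6 0, .mul 7 0, .mul 8 0, .mul 9 0, .mul 10 0, .mul 11 0, .mul 12 0, .mul 13 0, .mul 14 0, .mul 15 0, .mul 16 0, .mul 17 0, .mul 18 0, .mul 18 19, .mul 19 18, .mul 20 18, .mul 21 17, .mul 22 13, .mul 23 11, .mul 24 11, .mul 25 10, .mul 26 9, .mul 27 9, .mul 29 28, .mul 30 9, .mul 31 9, .mul 32 9, .mul 33 9, .mul 34 9, .mul 35 9, .mul 36 9, .mul 37 9, .mul 38 9, .mul 39 9, .mul 40 9, .mul 41 8, .mul 42 8, .mul 43 8, .mul 44 8, .mul 45 8, .mul 46 8, .mul 47 8, .mul 47 9, .mul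 48 9, .mul 50 9, .mul 51 9, .mul 52 9, .mul 53 9, .mul 53 9, .mul 55 9, .mul 56 9, .mul 57 9, .mul 58 9, .mul 59 9, .mul 59 9, .mul 61 9, .mul 61 9, .mul 63 9, .mul 64 9, .mul 64 9, .mul 65 9, .mul 67 9, .mul 68 9, .mul 68 7, .mul 70 6, .mul 70 6, .mul 72 4, .mul 73 3, .mul 74 3, .mul 75 3, .mul 76 3, .mul 77 2, .mul 78 2, .mul 78 2, .mul 80 1, .mul 51 79, .mul 82 0, .mul 63 53, .mul 1 0, .mul 1 65, .mul 0 66, .mul 1 47, .mul 1 2, .mul 3 1, .mul 4 5, .mul 0 6, .mul 0 3, .mul 63 4, .mul 1 0, .mul 5 1, .mul 0 6, .mul 8 0, .mul 3 9, .mul 0 9, .mul 2 10, .mul 0 12, .mul 17 0, .mul 3 0, .mul 0 15, .mul 2 7, .mul 0 4, .mul 18 0, .mul 0 3, .inv 31, .mul 0 1, .mul 0 0, .mul 1 0, .mul 2 0, .mul 3 0, .mul 4 0, .mul 5 0, .mul 6 0, .mul 7 0, .mul 8 0, .mul 9 0, .mul 10 0, .mul 11 0, .mul 12 0, .mul 18 21, .inv 62, .mul 0 1, .mul 0 16, .mul 1 14, .mul 2 13, .mul 3 12, .mul 4 12, .mul 5 12, .mul 22 6, .mul 23 6, .mul 8 6, .mul 25 6, .mul 26 6, .mul 11 6, .mul 28 6, .mul 13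 6, .mul 30 6, .mul 15 6, .mul 32 6, .mul 33 6, .mul 18 6, .mul 35 6, .mul 36 6, .mul 37 6, .mul 38 6, .mul 39 6, .mul 24 6, .mul 41 6, .mul 42 6, .mul 43 6, .mul 44 6, .mul 29 6, .mul 30 6, .mul 31 4, .mul 32 3, .mul 33 2, .mul 36 55, .inv 95, .mul 0 1, .inv 9, .mul 0 1, .mul 41 57, .inv 106, .mul 0 1, .inv 8, .mul 0 1, .mul 0 5, .mul 6 1, .mul 7 1, .mul 3 2, .mul 4 2, .mul 5 2, .mul 11 2, .mul 7 3, .mul 8 3, .mul 14 3, .mul 10 3, .mul 16 3, .mul 17 3, .mul 13 3, .mul 14 2, .mul 15 2, .mul 21 2, .mul 17 1, .mul 18 1, .mul 19 1, .mul 20 1, .mul 21 1, .mul 22 1, .mul 28 0, .mul 24 0, .mul 34 29, .inv 117, .mul 0 1, .inv 42, .mul 0 1, .inv 19, .mul 0 1, .mul 0 0, .mul 1 0, .mul 2 0, .mul 101 97, .inv 133, .mul 0 1, .inv 87, .mul 0 1, .mul 9 0, .mul 0 9, .mul 1 8, .mul 2 8, .mul 3 2, .mul 13 2, .mul 5 2, .mul 15 2, .mul 16 2, .mul 8 3, .mul 18 3, .mul 19 3, .mul 20 3, .mul 12 1, .mul 22 1, .mul 23 0, .mul 30 138, .inv 196, .mul 0 1, .inv 78, .mul 0 1, .inv 49, .mul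 0 1, .inv 11, .mul 0 1, .mul 69 29, .inv 168, .mul 0 1, .inv 79, .mul 0 1, .inv 45, .mul 0 1, .inv 21, .mul 0 1, .mul 9 0, .mul 1 0, .mul 2 0, .mul 3 0, .mul 82 160, .inv 169, .mul 0 1, .inv 93, .mul 0 1, .inv 27, .mul 0 1, .mul 28 6, .inv 197, .mul 0 1, .inv 135, .mul 0 1, .inv 75, .mul 0 1, .inv 38, .mul 0 1, .mul 0 16, .mul 21 0, .mul 178 10, .inv 202, .mul 0 1, .inv 117, .mul 0 1, .inv 79, .mul 0 1, .inv 53, .mul 0 1, .inv 9, .mul 0 1]

/-- The chain of transversals. -/
def levels : List (ℕ × List ℕ × List (ℕ × ℕ × ℕ)) := [(0, [278, 277, 167, 151, 112, 107, 75, 66, 42, 33, 22, 13, 0], [(1, 0, 0), (276, 0, 1), (2, 1, 0), (488, 1, 1), (539, 1, 2), (495, 1, 3), (277, 276, 0), (3, 2, 0), (547, 2, 1), (470, 2, 2), (302, 2, 3), (396, 2, 4), (402, 2, 5), (333, 488, 0), (99, 488, 2), (352, 488, 3), (378, 488, 4), (149, 488, 5), (164, 488, 6), (213, 488, 7), (74, 488, 8), (467, 488, 9), (320, 488, 10), (78, 488, 11), (360, 488, 12), (502, 539, 0), (445, 539, 1), (538,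 539, 2), (372, 539, 3), (163, 539, 5), (12, 539, 6), (438, 539, 7), (546, 539, 8), (19, 539, 9), (7, 539, 10), (510, 539, 11), (514, 539, 12), (356, 495, 0), (181, 495, 1), (390, 495, 2), (25, 495, 3), (532, 495, 4), (449, 495, 5), (342, 495, 6), (394, 495, 7), (325, 495, 8), (259, 495, 9), (437, 495, 12), (278, 277, 0), (212, 277, 1), (263, 277, 2), (219, 277, 3), (4, 3, 0), (459, 3, 1), (62, 3, 2), (544, 3, 5), (466, 3, 6), (535, 547, 0), (64, 547, 2), (371, 547, 3), (444, 547, 4), (368, 547, 5), (24, 547, 6), (33, 547, 7), (38, 547, 8), (81, 547, 9), (476, 547, 11), (350, 470, 2), (108, 470, 3), (472, 470, 5), (525, 470, 6), (494, 470, 7), (491, 470, 9), (305, 302, 0), (283, 302, 1), (453, 302, 2), (523, 302, 3), (424, 302, 6), (408, 302, 7), (373, 302, 9), (457, 302, 11), (534, 302, 12), (443, 396, 0), (404, 396, 1), (329, 396, 2), (500, 396, 3), (520, 396, 5), (45, 396, 7), (471, 396, 8), (13, 396, 9), (22, 396, 10), (540, 396, 12), (454, 402, 0), (349,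 402, 2), (461, 402, 4), (465, 402, 5), (400, 402, 6), (481, 402, 7), (362, 402, 9), (423, 402, 12), (353, 333, 0), (57, 333, 1), (50, 333, 2), (218, 333, 3), (34, 333, 4), (63, 333, 5), (29, 333, 6), (224, 333, 7), (262, 333, 8), (67, 333, 10), (447, 333, 12), (139, 99, 0), (264, 99, 2), (150, 99, 3), (132, 99, 4), (109, 99, 5), (285, 99, 6), (209, 99, 9), (231, 99, 10), (136, 99, 11), (140, 99, 12), (381, 352, 0), (56, 352, 2), (179, 352, 3), (184, 352, 4), (541, 352, 5), (142, 352, 6), (403, 352, 7), (516, 352, 8), (450, 352, 9), (338, 352, 10), (463, 352, 11), (418, 378, 0), (473, 378, 1), (91, 378, 2), (289, 378, 3), (72, 378, 5), (233, 378, 7), (43, 378, 8), (524, 378, 12), (210, 149, 0), (42, 149, 1), (205, 149, 3), (110, 149, 4), (122, 149, 5), (287, 149, 6), (101, 149, 7), (225, 149, 8), (252, 149, 11), (398, 164, 1), (290, 164, 2), (261, 164, 3), (190, 164, 5), (250, 164, 6), (505, 164, 8), (439, 164, 9), (318, 164, 10), (59, 213, 0), (460, 213, 1),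 (258, 213, 2), (282, 213, 3), (100, 213, 4), (87, 213, 6), (173, 213, 7), (83, 213, 12), (17, 74, 1), (223, 74, 2), (379, 74, 3), (291, 74, 4), (222, 74, 6), (148, 74, 7), (197, 74, 10), (383, 74, 11), (256, 74, 12), (542, 467, 0), (272, 467, 3), (292, 467, 5), (31, 467, 6), (106, 467, 7), (421, 467, 12), (334, 320, 0), (44, 320, 1), (51, 320, 2), (270, 320, 3), (293, 320, 4), (135, 320, 5), (211, 320, 11), (306, 320, 12), (468, 78, 1), (321, 78, 2), (230, 78, 3), (268, 78, 6), (393, 360, 0), (281, 360, 2), (162, 360, 4), (215, 360, 5), (251, 360, 7), (86, 502, 2), (242, 502, 3), (433, 502, 4), (220, 502, 5), (422, 502, 7), (239, 502, 8), (328, 502, 9), (545, 502, 10), (345, 502, 11), (513, 445, 0), (130, 445, 3), (529, 445, 6), (88, 445, 8), (521, 445, 9), (497, 538, 0), (11, 538, 4), (392, 538, 9), (436, 538, 10), (501, 538, 11), (411, 372, 0), (202, 372, 2), (28, 372, 3), (485, 372, 4), (415, 372, 8), (503, 372, 9), (451, 372, 10), (549, 372, 12), (189, 163,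 1), (133, 163, 2), (351, 163, 4), (326, 163, 5), (354, 163, 6), (440, 163, 9), (248, 163, 11), (395, 12, 1), (191, 12, 3), (493, 12, 6), (406, 12, 7), (548, 12, 8), (486, 12, 11), (10, 438, 2), (102, 438, 3), (84, 438, 4), (385, 438, 6), (21, 438, 7), (310, 438, 12), (54, 546, 3), (6, 546, 6), (517, 546, 9), (20, 19, 0), (77, 19, 1), (322, 19, 3), (8, 7, 0), (26, 7, 1), (260, 7, 3), (359, 7, 5), (458, 7, 6), (512, 510, 1), (98, 510, 2), (399, 510, 3), (366, 510, 6), (429, 510, 7), (508, 510, 8), (9, 510, 9), (414, 514, 0), (68, 514, 1), (76, 514, 2), (477, 514, 4), (332, 514, 6), (387, 356, 0), (506, 356, 1), (182, 356, 3), (166, 356, 4), (335, 356, 5), (365, 356, 6), (330, 356, 7), (483, 356, 8), (35, 356, 9), (266, 356, 11), (401, 356, 12), (267, 181, 5), (201, 181, 9), (348, 390, 3), (487, 390, 5), (27, 25, 0), (301, 25, 1), (489, 25, 2), (382, 25, 6), (315, 25, 9), (478, 532, 0), (430, 532, 2), (528, 532, 3), (319, 532, 7), (30, 532, 10), (518, 449, 0), (157,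 449, 3), (65, 449, 9), (131, 449, 10), (386, 449, 11), (286, 342, 1), (228, 342, 3), (229, 342, 6), (363, 342, 9), (441, 394, 0), (146, 394, 2), (376, 394, 9), (431, 394, 10), (343, 325, 0), (257, 325, 1), (171, 325, 3), (208, 259, 0), (183, 259, 2), (107, 259, 3), (312, 259, 4), (526, 259, 7), (507, 437, 2), (187, 437, 3), (464, 437, 6), (279, 278, 0), (271, 278, 1), (194, 278, 2), (120, 278, 4), (126, 278, 5), (375, 212, 2), (425, 212, 5), (226, 263, 0), (169, 263, 1), (96, 263, 3), (288, 263, 6), (295, 263, 9), (234, 263, 11), (238, 263, 12), (80, 219, 0), (114, 219, 2), (66, 219, 6), (118, 219, 7), (49, 219, 8), (161, 219, 12), (5, 4, 0), (82, 4, 2), (355, 4, 3), (530, 4, 6), (316, 4, 11), (531, 459, 0), (151, 459, 6), (58, 459, 9), (304, 459, 12), (85, 62, 0), (145, 62, 2), (311, 62, 4), (240, 62, 5), (119, 62, 6), (152, 62, 8), (253, 62, 9), (127, 62, 11), (60, 544, 2), (509, 466, 2), (498, 466, 5), (484, 535, 0), (36, 535, 4), (341, 535, 12), (346, 64,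 1), (374, 64, 4), (129, 64, 6), (73, 64, 8), (419, 64, 9), (388, 64, 10), (105, 64, 11), (71, 64, 12), (410, 371, 0), (18, 371, 1), (308, 371, 4), (474, 371, 5), (61, 371, 9), (389, 371, 11), (511, 444, 0), (434, 444, 1), (275, 444, 7), (180, 444, 9), (156, 444, 11), (336, 444, 12), (405, 368, 0), (298, 368, 2), (273, 368, 3), (492, 368, 10), (409, 368, 12), (294, 24, 3), (536, 24, 4), (134, 24, 6), (299, 24, 9), (39, 33, 0), (490, 33, 1), (158, 33, 6), (237, 33, 8), (14, 38, 1), (141, 38, 2), (55, 38, 3), (504, 38, 5), (104, 81, 2), (204, 81, 3), (123, 81, 5), (214, 81, 6), (115, 81, 11), (111, 476, 4), (313, 476, 7), (199, 476, 9), (235, 476, 11), (377, 350, 0), (499, 350, 2), (103, 350, 3), (15, 350, 4), (446, 108, 2), (16, 108, 7), (533, 472, 9), (327, 525, 12), (469, 494, 2), (416, 494, 9), (543, 494, 10), (412, 491, 6), (369, 491, 12), (165, 305, 1), (284, 283, 0), (247, 283, 4), (160, 283, 7), (227, 283, 11), (217, 453, 1), (269, 453, 3), (138, 453, 5),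 (432, 453, 6), (309, 453, 9), (198, 523, 2), (125, 408, 2), (167, 373, 1), (519, 373, 2), (89, 373, 3), (527, 457, 11), (97, 443, 1), (245, 443, 3), (550, 443, 6), (380, 443, 9), (456, 404, 0), (442, 329, 7), (32, 329, 8), (79, 500, 1), (426, 500, 2), (435, 520, 0), (200, 520, 2), (93, 45, 1), (455, 45, 2), (482, 13, 1), (303, 13, 3), (397, 22, 4), (417, 540, 6), (23, 454, 2), (159, 454, 3), (367, 454, 11), (47, 349, 5), (340, 349, 7), (522, 349, 10), (347, 465, 3), (317, 481, 0), (37, 362, 2), (428, 423, 1), (344, 423, 4), (391, 353, 3), (113, 353, 6), (427, 353, 7), (515, 353, 12), (339, 57, 5), (46, 50, 4), (116, 50, 5), (280, 50, 6), (172, 50, 7), (384, 50, 8), (90, 50, 10), (193, 218, 2), (154, 218, 12), (40, 34, 0), (452, 34, 3), (170, 34, 12), (241, 63, 4), (249, 63, 9), (232, 63, 11), (95, 224, 0), (221, 262, 0), (178, 262, 7), (147, 139, 6), (296, 139, 9), (155, 264, 2), (195, 264, 3), (244, 264, 9), (185, 132, 0), (188, 132, 11), (153, 109, 0), (175,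 285, 8), (274, 231, 12), (413, 381, 8), (236, 381, 10), (537, 381, 11), (75, 56, 0), (176, 179, 1), (137, 179, 11), (121, 184, 3), (48, 541, 3), (177, 142, 5), (117, 142, 12), (243, 403, 3), (203, 450, 7), (361, 338, 0), (496, 473, 3), (297, 91, 10), (206, 289, 1), (192, 233, 7), (462, 43, 1), (52, 210, 0), (331, 42, 2), (41, 205, 0), (70, 287, 6), (216, 225, 1), (448, 398, 0), (314, 290, 1), (254, 290, 4), (53, 261, 12), (124, 505, 4), (168, 59, 2), (370, 59, 3), (207, 460, 6), (407, 173, 10), (92, 223, 0), (420, 379, 0), (337, 291, 1), (255, 222, 2), (246, 31, 3), (479, 421, 0), (551, 334, 5), (196, 51, 6), (112, 230, 0), (186, 220, 7), (358, 220, 9), (480, 422, 0), (94, 422, 4), (143, 239, 0), (323, 328, 4), (174, 11, 3), (69, 202, 5), (128, 28, 5), (475, 133, 10), (307, 248, 9), (300, 260, 4), (265, 76, 5), (364, 506, 6), (324, 157, 8), (357, 271, 9), (144, 85, 9)]), (1, [167, 151, 112, 107, 75, 66, 42, 33, 22, 13, 0], [(539, 1, 0), (495, 1, 1), (538, 539,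 0), (372, 539, 1), (3, 539, 2), (163, 539, 3), (12, 539, 4), (438, 539, 5), (546, 539, 6), (19, 539, 7), (7, 539, 8), (510, 539, 9), (514, 539, 10), (390, 495, 0), (25, 495, 1), (532, 495, 2), (449, 495, 3), (342, 495, 4), (394, 495, 5), (325, 495, 6), (259, 495, 7), (437, 495, 10), (396, 538, 0), (513, 538, 1), (11, 538, 2), (454, 538, 5), (57, 538, 6), (392, 538, 7), (436, 538, 8), (501, 538, 9), (202, 372, 0), (28, 372, 1), (485, 372, 2), (471, 372, 3), (540, 372, 4), (461, 372, 5), (415, 372, 6), (503, 372, 7), (451, 372, 8), (549, 372, 10), (62, 3, 0), (544, 3, 3), (466, 3, 4), (402, 3, 5), (133, 163, 0), (351, 163, 2), (326, 163, 3), (354, 163, 4), (534, 163, 5), (440, 163, 7), (248, 163, 9), (44, 163, 10), (520, 12, 0), (191, 12, 1), (493, 12, 4), (406, 12, 5), (548, 12, 6), (486, 12, 9), (10, 438, 0), (102, 438, 1), (84, 438, 2), (385, 438, 4), (21, 438, 5), (411, 438, 7), (525, 438, 8), (400, 438, 9), (310, 438, 10), (54, 546, 1), (6, 546, 4), (517,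 546, 7), (322, 19, 1), (470, 19, 2), (523, 19, 3), (362, 19, 5), (20, 19, 10), (260, 7, 1), (359, 7, 3), (458, 7, 4), (500, 7, 7), (98, 510, 0), (399, 510, 1), (302, 510, 3), (366, 510, 4), (429, 510, 5), (508, 510, 6), (9, 510, 7), (76, 514, 0), (212, 514, 1), (477, 514, 2), (332, 514, 4), (423, 514, 7), (348, 390, 1), (472, 390, 2), (487, 390, 3), (373, 390, 6), (457, 390, 10), (489, 25, 0), (443, 25, 1), (424, 25, 2), (382, 25, 4), (315, 25, 7), (430, 532, 0), (528, 532, 1), (319, 532, 5), (30, 532, 8), (157, 449, 1), (42, 449, 4), (350, 449, 5), (65, 449, 7), (131, 449, 8), (386, 449, 9), (506, 342, 0), (228, 342, 1), (229, 342, 4), (363, 342, 7), (468, 342, 9), (146, 394, 0), (349, 394, 1), (376, 394, 7), (431, 394, 8), (171, 325, 1), (491, 325, 2), (183, 259, 0), (107, 259, 1), (312, 259, 2), (526, 259, 5), (507, 437, 0), (187, 437, 1), (464, 437, 4), (329, 396, 0), (2, 396, 2), (45, 396, 5), (13, 396, 7), (22, 396, 8), (460, 513, 0), (113, 513, 2), (420,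 513, 3), (309, 513, 4), (381, 513, 5), (361, 513, 7), (387, 513, 10), (391, 11, 0), (174, 11, 1), (346, 11, 4), (327, 11, 5), (367, 11, 7), (339, 11, 9), (23, 454, 0), (159, 454, 1), (108, 454, 3), (543, 454, 4), (14, 454, 5), (16, 454, 7), (4, 454, 8), (494, 57, 1), (305, 57, 4), (425, 57, 7), (343, 57, 8), (344, 392, 0), (377, 392, 7), (397, 392, 8), (314, 436, 1), (416, 436, 4), (208, 436, 9), (533, 501, 1), (380, 501, 3), (200, 202, 1), (519, 202, 2), (69, 202, 3), (41, 202, 4), (138, 202, 5), (418, 202, 6), (479, 202, 7), (426, 202, 8), (59, 202, 9), (531, 28, 2), (128, 28, 3), (303, 28, 4), (176, 28, 5), (89, 28, 10), (434, 485, 0), (448, 485, 6), (441, 485, 9), (498, 471, 1), (530, 471, 5), (408, 540, 3), (417, 540, 4), (8, 540, 6), (103, 415, 0), (236, 503, 0), (527, 503, 1), (18, 503, 6), (465, 503, 10), (481, 451, 2), (432, 549, 0), (15, 549, 1), (446, 549, 2), (316, 549, 10), (145, 62, 0), (375, 62, 1), (311, 62, 2), (240, 62, 3), (119, 62, 4), (542,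 62, 5), (152, 62, 6), (253, 62, 7), (127, 62, 9), (60, 544, 0), (509, 466, 0), (207, 133, 2), (355, 133, 5), (475, 133, 8), (405, 133, 9), (271, 133, 10), (490, 326, 1), (473, 354, 5), (537, 440, 1), (398, 440, 9), (499, 248, 1), (307, 248, 7), (17, 44, 2), (369, 520, 3), (522, 493, 0), (496, 406, 0), (550, 10, 0), (5, 10, 4), (393, 525, 0), (206, 54, 0), (455, 54, 3), (52, 54, 4), (515, 54, 5), (198, 523, 0), (37, 362, 0), (169, 20, 1), (300, 260, 2), (462, 260, 3), (340, 98, 2), (82, 399, 2), (370, 399, 7), (469, 399, 8), (453, 302, 0), (412, 9, 3), (265, 76, 3), (112, 348, 1), (518, 487, 0), (245, 443, 1), (480, 319, 0), (456, 30, 1), (226, 157, 2), (324, 157, 6), (216, 157, 7), (331, 42, 0), (32, 131, 1), (353, 506, 3), (364, 506, 4), (80, 506, 7), (427, 146, 7), (337, 146, 8), (95, 146, 9), (47, 349, 3), (125, 183, 2), (334, 183, 7), (221, 187, 7), (511, 464, 0), (442, 329, 5), (551, 113, 1), (168, 113, 3), (413, 420, 0), (410, 420, 7), (143, 309, 2), (347,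 391, 4), (269, 174, 4), (357, 159, 3), (92, 128, 7)]), (2, [112, 107, 75, 66, 42, 33, 22, 13, 0], [(396, 2, 0), (402, 2, 1), (520, 396, 1), (491, 396, 2), (45, 396, 3), (471, 396, 4), (13, 396, 5), (22, 396, 6), (539, 396, 7), (540, 396, 8), (461, 402, 0), (465, 402, 1), (400, 402, 2), (481, 402, 3), (362, 402, 5), (443, 402, 7), (423, 402, 8), (429, 520, 0), (369, 520, 1), (549, 520, 3), (454, 520, 4), (438, 520, 5), (472, 520, 6), (20, 520, 7), (325, 491, 0), (376, 491, 1), (412, 491, 2), (11, 491, 3), (470, 491, 5), (322, 491, 7), (425, 45, 2), (517, 45, 3), (5, 45, 4), (17, 45, 5), (430, 471, 0), (533, 471, 2), (530, 471, 3), (351, 471, 5), (10, 471, 7), (466, 471, 8), (473, 13, 0), (342, 13, 1), (415, 13, 2), (316, 13, 4), (493, 13, 6), (397, 22, 0), (550, 22, 1), (375, 22, 3), (510, 22, 5), (16, 22, 8), (3, 539, 0), (163, 539, 1), (12, 539, 2), (546, 539, 4), (19, 539, 5), (7, 539, 6), (514, 539, 8), (526, 540, 0), (408, 540, 1), (417, 540, 2), (305, 540,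 3), (8, 540, 4), (525, 540, 7), (543, 461, 3), (416, 461, 4), (494, 461, 5), (390, 465, 1), (108, 465, 3), (458, 465, 4), (486, 465, 5), (4, 465, 7), (346, 465, 8), (229, 400, 0), (528, 400, 3), (15, 400, 7), (367, 400, 8), (451, 481, 0), (394, 481, 1), (6, 481, 7), (248, 362, 0), (446, 362, 1), (9, 362, 3), (327, 362, 4), (503, 362, 6), (464, 443, 0), (25, 443, 1), (406, 443, 4), (380, 443, 5), (548, 443, 6), (344, 423, 0), (44, 429, 1), (310, 429, 5), (18, 369, 0), (212, 369, 1), (411, 549, 2), (14, 454, 3), (84, 438, 0), (385, 438, 2), (21, 438, 3), (501, 472, 3), (509, 20, 0), (42, 20, 1), (532, 325, 1), (319, 325, 2), (495, 325, 4), (348, 325, 5), (65, 325, 7), (489, 376, 0), (448, 376, 1), (307, 376, 3), (315, 376, 4), (259, 376, 7), (386, 376, 8), (538, 11, 0), (339, 11, 7), (326, 322, 0), (468, 322, 1), (372, 322, 3), (398, 425, 1), (377, 425, 3), (171, 425, 5), (508, 517, 8), (441, 430, 8), (131, 533, 0), (431, 533, 1), (500, 533, 4), (440, 351, 1),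 (436, 10, 1), (498, 466, 1), (57, 466, 2), (312, 473, 1), (107, 473, 3), (350, 473, 6), (30, 342, 0), (534, 342, 1), (363, 342, 5), (302, 342, 8), (392, 316, 2), (208, 397, 4), (366, 397, 8), (485, 375, 5), (507, 375, 6), (544, 3, 1), (354, 163, 2), (523, 19, 1), (359, 7, 1), (477, 514, 0), (332, 514, 2), (102, 526, 3), (457, 526, 4), (518, 417, 0), (343, 8, 3), (373, 543, 0), (487, 390, 1), (437, 390, 2), (191, 229, 3), (382, 229, 6), (145, 248, 4), (424, 464, 5), (527, 84, 3), (449, 495, 1)]), (3, [75, 66, 42, 33, 22, 13, 0], [(466, 3, 0), (402, 3, 1), (57, 466, 0), (514, 466, 1), (525, 466, 2), (7, 466, 3), (19, 466, 4), (549, 466, 5), (351, 466, 6), (400, 402, 0), (481, 402, 1), (22, 402, 2), (362, 402, 3), (471, 402, 4), (443, 402, 5), (423, 402, 6), (305, 57, 0), (500, 57, 1), (538, 57, 2), (425, 57, 3), (343, 57, 4), (326, 57, 5), (171, 57, 6), (332, 514, 0), (546, 514, 4), (310, 514, 5), (520, 514, 6), (472, 525, 3), (438, 525, 4), (327, 525, 6), (458,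 7, 0), (436, 7, 1), (539, 7, 4), (503, 7, 5), (10, 7, 6), (406, 19, 0), (540, 19, 5), (20, 19, 6), (411, 549, 0), (15, 549, 4), (346, 549, 5), (316, 549, 6), (448, 351, 0), (6, 351, 1), (21, 351, 2), (372, 351, 3), (465, 400, 0), (528, 400, 1), (517, 400, 4), (367, 400, 6), (375, 22, 1), (510, 22, 3), (396, 22, 4), (16, 22, 6), (461, 362, 0), (9, 362, 1), (451, 362, 3), (533, 471, 0), (530, 471, 1), (550, 443, 0), (380, 443, 3), (548, 443, 4), (13, 443, 5), (454, 443, 6), (416, 423, 1), (8, 423, 5), (494, 305, 0), (5, 305, 1), (392, 305, 2), (208, 305, 3), (12, 500, 3), (486, 500, 6), (501, 538, 5), (11, 425, 0), (377, 425, 1), (4, 326, 0), (108, 326, 2), (366, 326, 4), (385, 332, 2), (412, 332, 3), (415, 310, 1), (493, 310, 2), (417, 310, 3), (446, 310, 6), (18, 327, 4), (339, 458, 1), (344, 503, 5), (397, 406, 0), (14, 20, 0), (45, 15, 0), (518, 346, 0), (17, 346, 1), (485, 448, 2), (507, 448, 3), (429, 21, 5), (470, 465, 0), (508, 517, 6), (491, 396, 0), (543,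 461, 1), (441, 533, 0), (312, 550, 3), (369, 13, 1), (430, 494, 6), (322, 486, 1)]), (4, [42, 33, 22, 13, 0], [(472, 4, 0), (549, 4, 1), (454, 4, 2), (316, 4, 3), (533, 472, 1), (520, 472, 2), (362, 472, 3), (411, 472, 4), (423, 549, 0), (10, 549, 1), (15, 549, 2), (346, 549, 3), (16, 454, 1), (367, 454, 3), (548, 454, 4), (13, 316, 0), (465, 316, 1), (310, 316, 2), (372, 316, 4), (500, 533, 0), (339, 533, 1), (540, 533, 2), (493, 533, 4), (438, 520, 1), (20, 520, 3), (539, 520, 4), (327, 362, 0), (451, 362, 1), (503, 362, 2), (22, 362, 3), (396, 362, 4), (530, 411, 0), (18, 411, 3), (380, 423, 2), (8, 423, 3), (510, 423, 4), (351, 10, 3), (12, 10, 4), (400, 346, 0), (466, 346, 3), (517, 16, 0), (481, 367, 0), (6, 367, 1), (21, 367, 2), (415, 367, 3), (417, 367, 4), (443, 548, 2), (402, 13, 3), (458, 465, 0), (486, 465, 1), (429, 465, 2), (9, 310, 3), (446, 310, 4), (525, 339, 1), (508, 339, 3), (546, 339, 4), (19, 438, 0), (11, 20, 4), (7, 539, 2), (514, 539,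 4), (471, 503, 1), (344, 503, 3), (406, 12, 2)]), (5, [0], [(14, 5, 0), (17, 14, 0)])]

set_option maxRecDepth 1000000 in
theorem chain_ok : chainOK (run prog [tZ, tX]) [] levels = true := by decide +kernel

theorem levels_prod : (levels.map (fun l => l.2.2.length + 1)).prod = 495766656000 := by decide +kernel

/-- The two elements generate `Co3`. -/
theorem hgen : Subgroup.closure {X, Z} = (⊤ : Subgroup ↥Spor.Co3) := by
  apply Subgroup.eq_top_of_le_card
  rw [card_co3, ← levels_prod]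
  have hacc : ∀ T ∈ run prog [tZ, tX], Real (Subgroup.closure {X, Z}) T := by
    apply real_run
    intro T hT
    simp only [List.mem_cons, List.not_mem_nil, or_false] at hT
    rcases hT with rfl | rfl
    · exact ⟨Z, Subgroup.subset_closure (Set.mem_insert_of_mem _ rfl), actsZ⟩
    · exact ⟨X, Subgroup.subset_closure (Set.mem_insert _ _), actsX⟩
  exact chain_card hacc levels [] _ (fun _ hp => absurd hp (List.not_mem_nil)) (fun g hg _ => hg)
    chain_ok

end Cfsg.Agent.Lib.Helper26.Co3
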