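import Cfsg.Agent.Lib.Helper26.Co3Uniq
import Cfsg.Agent.Lib.Helper26.Co3Gen
import Cfsg.Agent.Lib.Helper27.AutTower
import Cfsg.Prelude.Def_KGroupFacts

set_option autoImplicit false

/-! # Every automorphism of `Co3` is inner -/

namespace Cfsg.Agent.Lib.Helper26.Co3

open Cfsg Cfsg.Spor Cfsg.Agent.Lib.Helper7 Cfsg.Agent.Lib.Helper92 Cfsg.Agent.Lib.Helper27

/-- Table of a word in two letters. -/
def wdT (Tx Tz : ℕ) : List Bool → ℕ
  | [] => idT
  | b :: W => compT (if b then Tx else Tz) (wdT Tx Tz W)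

theorem acts_wd {x z : ↥Spor.Co3} {Tx Tz : ℕ} (hx : Acts x.1 Tx) (hz : Acts z.1 Tz) :
    ∀ W : List Bool, Acts (AutTower.wd x z W).1 (wdT Tx Tz W)
  | [] => by
    have h : AutTower.wd x z [] = 1 := by simp [AutTower.wd]
    rw [h]
    exact acts_one
  | b :: W => by
    have h : AutTower.wd x z (b :: W) = (if b then x else z) * AutTower.wd x z W := by
      simp [AutTower.wd]
    rw [h]
    cases b with
    | true => exact acts_mul hx (acts_wd hx hz W)
    | false => exact acts_mul hz (acts_wd hx hz W)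

/-- The word `x z x x x z x x z`. -/
def relW0 : List Bool := [true, false, true, true, true, false, true, true, false]

/-- A relation between `X` and `Z` that fails for `X⁻¹` and `Z`. -/
def relW : List Bool := relW0 ++ relW0 ++ relW0 ++ relW0 ++ relW0 ++ relW0 ++ relW0 ++ relW0

theorem hrel1 : AutTower.wd X Z relW = 1 := by
  have h2 : wdT tX tZ relW = idT := by decide +kernel
  exact co3_ext ((acts_wd actsX actsZ relW).congr h2) acts_one

theorem hrel2 : AutTower.wd (X ^ 22) Z relW ≠ 1 :=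
  co3_ne (acts_wd (acts_pow actsX 22) actsZ relW) acts_one 0 (by norm_num) (by decide +kernel)

theorem conj_pow_N (j : ℕ) : N ^ j * X * (N ^ j)⁻¹ = X ^ 2 ^ j := by
  induction j with
  | zero => simp
  | succ j ih =>
    have h1 : N ^ (j + 1) * X * (N ^ (j + 1))⁻¹ = N * (N ^ j * X * (N ^ j)⁻¹) * N⁻¹ := by
      rw [pow_succ']
      simp only [mul_inv_rev, mul_assoc]
    rw [h1, ih, ← conj_pow, hNX, ← pow_mul, ← pow_succ']

theorem res_cases : ∀ m < 23, m ≠ 0 → ∃ j < 11, 2 ^ j * m % 23 = 1 ∨ 2 ^ j * m % 23 = 22 := by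
  decide

theorem aut_inner (α : MulAut ↥Spor.Co3) : α ∈ Cfsg.Inn ↥Spor.Co3 := by
  obtain ⟨g, k, h1, h2⟩ :=
    AutTower.normal_form_central hX hN hp23 hp11 hNX hZ2 hZ1 hZN huniq α
  have hβX : (MulAut.conj g * α) X = X ^ k := h1
  have hβZ : (MulAut.conj g * α) Z = Z := h2
  have hk : X ^ k ≠ 1 := by
    intro h
    rw [h] at hβX
    exact X_ne ((MulAut.conj g * α).injective (by rw [hβX, map_one]))
  have hkm : X ^ k = X ^ (k % 23) := by rw [← hX, pow_mod_orderOf]
  have hm0 : k % 23 ≠ 0 := by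
    intro h
    apply hk
    rw [hkm, h, pow_zero]
  obtain ⟨j, -, hj⟩ := res_cases (k % 23) (Nat.mod_lt _ (by norm_num)) hm0
  have hγX : (MulAut.conj (N ^ j) * (MulAut.conj g * α)) X = X ^ (2 ^ j * (k % 23) % 23) := by
    have e : (MulAut.conj (N ^ j) * (MulAut.conj g * α)) X =
        N ^ j * (MulAut.conj g * α) X * (N ^ j)⁻¹ := rfl
    have e2 : X ^ (2 ^ j * (k % 23) % 23) = X ^ (2 ^ j * (k % 23)) := by
      have h := pow_mod_orderOf X (2 ^ j * (k % 23))
      rw [hX] at h
      exact h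
    rw [e, hβX, hkm, ← conj_pow, conj_pow_N, ← pow_mul, e2]
  have hγZ : (MulAut.conj (N ^ j) * (MulAut.conj g * α)) Z = Z := by
    have e : (MulAut.conj (N ^ j) * (MulAut.conj g * α)) Z =
        N ^ j * (MulAut.conj g * α) Z * (N ^ j)⁻¹ := rfl
    rw [e, hβZ, mul_inv_eq_iff_eq_mul]
    exact ((Commute.pow_right (show Commute Z N from hZN) j).eq).symm
  rcases hj with hj | hj
  · rw [hj, pow_one] at hγX
    have hone : MulAut.conj (N ^ j) * (MulAut.conj g * α) = 1 := by
      apply AutTower.eq_of_gen hgen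
      · rw [hγX]; rfl
      · rw [hγZ]; rfl
    have hα : α = (MulAut.conj (N ^ j * g))⁻¹ := by
      rw [map_mul]
      exact eq_inv_of_mul_eq_one_right (by rw [mul_assoc]; exact hone)
    rw [hα]
    exact Subgroup.inv_mem _ ⟨N ^ j * g, rfl⟩
  · rw [hj] at hγX
    exfalso
    apply hrel2
    have h3 := AutTower.map_wd (MulAut.conj (N ^ j) * (MulAut.conj g * α)) X Z relW
    rw [hrel1, map_one, hγX, hγZ] at h3
    exact h3.symm

/-- The outer automorphism group of `Co3` is trivial. -/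
theorem card_out : Nat.card (Cfsg.Out ↥Spor.Co3) = 1 := by
  show (Cfsg.Inn ↥Spor.Co3).index = 1
  rw [Subgroup.index_eq_one, eq_top_iff]
  intro α _
  exact aut_inner α

end Cfsg.Agent.Lib.Helper26.Co3
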