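import Cfsg.Agent.Lib.Helper26.Co3Elts

set_option autoImplicit false

/-! # Relations between the three elements of `Co3` -/

namespace Cfsg.Agent.Lib.Helper26.Co3

open Cfsg Cfsg.Spor Cfsg.Agent.Lib.Helper7 Cfsg.Agent.Lib.Helper92

theorem co3_ext {a b : ↥Spor.Co3} {T : ℕ} (ha : Acts a.1 T) (hb : Acts b.1 T) : a = b :=
  Subtype.ext (acts_ext a.2.1 b.2.1 ha hb)

theorem co3_ne {a b : ↥Spor.Co3} {S T : ℕ} (ha : Acts a.1 S) (hb : Acts b.1 T) (j : ℕ)
    (hj : j < 552) (hne : ln S j ≠ ln T j) : a ≠ b := by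
  intro e
  exact acts_ne ha hb j hj hne (congrArg Subtype.val e)

theorem acts_mul {a b : ↥Spor.Co3} {S T : ℕ} (ha : Acts a.1 S) (hb : Acts b.1 T) :
    Acts (a * b).1 (compT S T) := ha.mul hb

theorem acts_pow {a : ↥Spor.Co3} {S : ℕ} (ha : Acts a.1 S) (n : ℕ) :
    Acts (a ^ n).1 (powT S n) := by
  have h : (a ^ n).1 = a.1 ^ n := rfl
  rw [h]
  exact ha.pow n

theorem acts_one : Acts (1 : ↥Spor.Co3).1 idT := Acts.one

theorem sqNorm_leechV : sqNorm ((leechV : leechLattice) : GolayPt → ℤ) = 48 := by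
  show sqNorm vecV = 48
  decide +kernel

theorem card_co3 : Nat.card ↥Spor.Co3 = 495766656000 := by
  rw [← (co3_isCo3 leechV sqNorm_leechV).2]
  apply Nat.card_congr
  exact
    { toFun := fun g => ⟨⟨g.1, g.2.1⟩, by
        have h : g.1 leechV = leechV := g.2.2
        exact h⟩
      invFun := fun g => ⟨g.1.1, ⟨g.1.2, by
        have h : g.1.1 leechV = leechV := g.2
        exact h⟩⟩
      left_inv := fun _ => rfl
      right_inv := fun _ => rfl }

instance finite_co3 : Finite ↥Spor.Co3 :=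
  Nat.finite_of_card_ne_zero (by rw [card_co3]; norm_num)

instance fact23 : Fact (Nat.Prime 23) := ⟨by norm_num⟩

instance fact11 : Fact (Nat.Prime 11) := ⟨by norm_num⟩

theorem hp23 : ¬ 23 ^ 2 ∣ Nat.card ↥Spor.Co3 := by rw [card_co3]; decide

theorem hp11 : ¬ 11 ^ 2 ∣ Nat.card ↥Spor.Co3 := by rw [card_co3]; decide

theorem X_pow : X ^ 23 = 1 := by
  have h2 : powT tX 23 = idT := by decide +kernel
  exact co3_ext ((acts_pow actsX 23).congr h2) acts_one

theorem X_ne : X ≠ 1 :=
  co3_ne actsX acts_one 1 (by norm_num) (by decide +kernel)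

theorem hX : orderOf X = 23 := orderOf_eq_prime X_pow X_ne

theorem N_pow : N ^ 11 = 1 := by
  have h2 : powT tN 11 = idT := by decide +kernel
  exact co3_ext ((acts_pow actsN 11).congr h2) acts_one

theorem N_ne : N ≠ 1 :=
  co3_ne actsN acts_one 1 (by norm_num) (by decide +kernel)

theorem hN : orderOf N = 11 := orderOf_eq_prime N_pow N_ne

theorem hNX : N * X * N⁻¹ = X ^ 2 := by
  rw [mul_inv_eq_iff_eq_mul]
  have h2 : compT tN tX = compT (powT tX 2) tN := by decide +kernel
  exact co3_ext ((acts_mul actsN actsX).congr h2) (acts_mul (acts_pow actsX 2) actsN)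

theorem hZ2 : Z * Z = 1 := by
  have h2 : compT tZ tZ = idT := by decide +kernel
  exact co3_ext ((acts_mul actsZ actsZ).congr h2) acts_one

theorem hZ1 : Z ≠ 1 :=
  co3_ne actsZ acts_one 0 (by norm_num) (by decide +kernel)

theorem hZN : Z * N = N * Z := by
  have h2 : compT tZ tN = compT tN tZ := by decide +kernel
  exact co3_ext ((acts_mul actsZ actsN).congr h2) (acts_mul actsN actsZ)

end Cfsg.Agent.Lib.Helper26.Co3
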