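import Cfsg.Agent.Lib.Helper26.Co3Pts

set_option autoImplicit false

/-! # Tables for the action of `Co3` on the 552 points -/

namespace Cfsg.Agent.Lib.Helper26.Co3

open Cfsg Cfsg.Spor Cfsg.Agent.Lib.Helper7 Cfsg.Agent.Lib.Helper92

/-- Entry `j` of a packed table (lanes of `10` bits). -/
def ln (T j : ℕ) : ℕ := Nat.land (Nat.shiftRight T (Nat.mul 10 j)) 1023

/-- Pack the first `n` values of `f` into lanes. -/
def packT (f : ℕ → ℕ) : ℕ → ℕ
  | 0 => 0
  | n + 1 => Nat.add (Nat.shiftLeft (f n) (Nat.mul 10 n)) (packT f n)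

theorem ln_eq (T j : ℕ) : ln T j = T / 1024 ^ j % 1024 := by
  show (T >>> (10 * j)) &&& 1023 = _
  have h : (2 : ℕ) ^ (10 * j) = 1024 ^ j := by rw [pow_mul]; norm_num
  have h2 : (1023 : ℕ) = 2 ^ 10 - 1 := by norm_num
  rw [Nat.shiftRight_eq_div_pow, h, h2, Nat.and_two_pow_sub_one_eq_mod]

theorem ln_lt (T j : ℕ) : ln T j < 1024 := by
  rw [ln_eq]
  exact Nat.mod_lt _ (by norm_num)

theorem packT_succ (f : ℕ → ℕ) (n : ℕ) :
    packT f (n + 1) = f n * 1024 ^ n + packT f n := by
  show (f n) <<< (10 * n) + packT f n = _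
  have h : (2 : ℕ) ^ (10 * n) = 1024 ^ n := by rw [pow_mul]; norm_num
  rw [Nat.shiftLeft_eq, h]

theorem packT_lt (f : ℕ → ℕ) (hf : ∀ i, f i < 1024) (n : ℕ) : packT f n < 1024 ^ n := by
  induction n with
  | zero => simp [packT]
  | succ n ih =>
    rw [packT_succ, pow_succ]
    have := hf n
    nlinarith

theorem ln_packT (f : ℕ → ℕ) (hf : ∀ i, f i < 1024) (n i : ℕ) (hi : i < n) :
    ln (packT f n) i = f i := by
  induction n with
  | zero => omega
  | succ n ih =>
    rw [packT_succ, ln_eq]
    rcases Nat.lt_succ_iff_lt_or_eq.mp hi with h | h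
    · obtain ⟨k, hk⟩ : ∃ k, n = i + 1 + k := ⟨n - i - 1, by omega⟩
      have h1 : f n * 1024 ^ n = (f n * 1024 ^ k * 1024) * 1024 ^ i := by
        rw [hk, pow_add, pow_add]
        ring
      rw [h1, add_comm, Nat.add_mul_div_right _ _ (by positivity),
        Nat.add_mul_mod_self_right, ← ln_eq, ih h]
    · subst h
      rw [add_comm, Nat.add_mul_div_right _ _ (by positivity),
        Nat.div_eq_of_lt (packT_lt f hf i), Nat.zero_add, Nat.mod_eq_of_lt (hf i)]

/-- Table of a product. -/
def compT (S T : ℕ) : ℕ := packT (fun j => ln S (ln T j)) 552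

theorem ln_compT (S T : ℕ) {j : ℕ} (hj : j < 552) : ln (compT S T) j = ln S (ln T j) :=
  ln_packT _ (fun _ => ln_lt _ _) 552 j hj

/-- Table of the identity. -/
def idT : ℕ := packT (fun j => Nat.land j 1023) 552

theorem ln_idT {j : ℕ} (hj : j < 552) : ln idT j = j := by
  have h := ln_packT (fun j => Nat.land j 1023) (fun i => by
    show i &&& 1023 < 1024
    have h2 : (1023 : ℕ) = 2 ^ 10 - 1 := by norm_num
    rw [h2, Nat.and_two_pow_sub_one_eq_mod]
    exact Nat.mod_lt _ (by norm_num)) 552 j hj
  rw [show ln idT j = ln (packT (fun j => Nat.land j 1023) 552) j from rfl, h]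
  show j &&& 1023 = j
  have h2 : (1023 : ℕ) = 2 ^ 10 - 1 := by norm_num
  rw [h2, Nat.and_two_pow_sub_one_eq_mod]
  exact Nat.mod_eq_of_lt (by omega)

/-- All entries of the table are indices of points. -/
def tabOK (T : ℕ) : Bool := (List.range 552).all (fun j => Nat.blt (ln T j) 552)

theorem tabOK_lt {T : ℕ} (h : tabOK T = true) {j : ℕ} (hj : j < 552) : ln T j < 552 := by
  have := all_range h j hj
  exact Nat.blt_eq.mp this

/-- The map `g` acts on the points as the table `T` says. -/
def Acts (g : Equiv.Perm leechLattice) (T : ℕ) : Prop :=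
  ∀ j < 552, ln T j < 552 ∧ g (P j) = P (ln T j)

theorem Acts.one : Acts 1 idT := by
  intro j hj
  rw [ln_idT hj]
  exact ⟨hj, rfl⟩

theorem Acts.mul {g g' : Equiv.Perm leechLattice} {S T : ℕ} (h : Acts g S) (h' : Acts g' T) :
    Acts (g * g') (compT S T) := by
  intro j hj
  obtain ⟨h1, h2⟩ := h' j hj
  obtain ⟨h3, h4⟩ := h _ h1
  rw [ln_compT S T hj, Equiv.Perm.mul_apply, h2, h4]
  exact ⟨h3, rfl⟩

theorem Acts.inv {g : Equiv.Perm leechLattice} {T T' : ℕ} (h : Acts g T) (hok : tabOK T' = true)
    (hc : compT T T' = idT) : Acts g⁻¹ T' := by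
  intro j hj
  have h1 := tabOK_lt hok hj
  refine ⟨h1, ?_⟩
  obtain ⟨-, h3⟩ := h _ h1
  have h4 : ln T (ln T' j) = j := by
    rw [← ln_compT T T' hj, hc, ln_idT hj]
  rw [h4] at h3
  rw [Equiv.Perm.inv_eq_iff_eq, h3]

theorem Acts.congr {g : Equiv.Perm leechLattice} {T T' : ℕ} (h : Acts g T) (e : T = T') :
    Acts g T' := e ▸ h

/-- Table of a power. -/
def powT (T : ℕ) : ℕ → ℕ
  | 0 => idT
  | n + 1 => compT T (powT T n)

theorem Acts.pow {g : Equiv.Perm leechLattice} {T : ℕ} (h : Acts g T) (n : ℕ) :
    Acts (g ^ n) (powT T n) := by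
  induction n with
  | zero => rw [pow_zero]; exact Acts.one
  | succ n ih => rw [pow_succ']; exact h.mul ih

/-! ### Faithfulness -/

/-- An element of `Co0` as an additive map. -/
def toHom {g : Equiv.Perm leechLattice} (hg : g ∈ Co0) : leechLattice →+ leechLattice where
  toFun := g
  map_zero' := co0_map_zero hg
  map_add' := co0_map_add hg

theorem eight_inf : P 23 + P 23 - P 0 - P 2 - P 4 - P 5 - P 6 - P 10 - P 11 =
    latEight none + latEight none + latEight none := by
  apply Subtype.ext
  show (P 23 : GolayPt → ℤ) + (P 23 : GolayPt → ℤ) - (P 0 : GolayPt → ℤ) - (P 2 : GolayPt → ℤ)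
    - (P 4 : GolayPt → ℤ) - (P 5 : GolayPt → ℤ) - (P 6 : GolayPt → ℤ) - (P 10 : GolayPt → ℤ)
    - (P 11 : GolayPt → ℤ) = vecEight none + vecEight none + vecEight none
  rw [P_val (by norm_num : 23 < 552), P_val (by norm_num : 0 < 552), P_val (by norm_num : 2 < 552),
    P_val (by norm_num : 4 < 552), P_val (by norm_num : 5 < 552), P_val (by norm_num : 6 < 552),
    P_val (by norm_num : 10 < 552), P_val (by norm_num : 11 < 552)]
  decide +kernel

theorem eight_fin : ∀ k < 23, ∀ p : GolayPt,
    3 * vecEight (pt k) p + 6 * (L k).getD (idx p) 0 + 3 * vecEight none p = 0 := by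
  decide +kernel

theorem fix_eight_inf {g : Equiv.Perm leechLattice} (hg : g ∈ Co0) (h : ∀ j < 24, g (P j) = P j) :
    g (latEight none) = latEight none := by
  have h1 := congrArg g eight_inf
  have e : ∀ a b : leechLattice, g (a - b) = g a - g b := fun a b => map_sub (toHom hg) a b
  rw [e, e, e, e, e, e, e, co0_map_add hg, co0_map_add hg, co0_map_add hg,
    h 23 (by norm_num), h 0 (by norm_num), h 2 (by norm_num), h 4 (by norm_num),
    h 5 (by norm_num), h 6 (by norm_num), h 10 (by norm_num), h 11 (by norm_num), eight_inf] at h1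
  apply Subtype.ext
  funext p
  have h2 := congrArg (fun x : leechLattice => (x : GolayPt → ℤ) p) h1
  have h3 : ((latEight none + latEight none + latEight none : leechLattice) : GolayPt → ℤ) p =
      (latEight none : GolayPt → ℤ) p + (latEight none : GolayPt → ℤ) p
        + (latEight none : GolayPt → ℤ) p := rfl
  have h4 : ((g (latEight none) + g (latEight none) + g (latEight none) : leechLattice) :
      GolayPt → ℤ) p = (g (latEight none) : GolayPt → ℤ) p + (g (latEight none) : GolayPt → ℤ) p
        + (g (latEight none) : GolayPt → ℤ) p := rfl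
  simp only [h3, h4] at h2
  omega

theorem fix_eight {g : Equiv.Perm leechLattice} (hg : g ∈ Co0) (h : ∀ j < 24, g (P j) = P j)
    (i : GolayPt) : g (latEight i) = latEight i := by
  cases i with
  | none => exact fix_eight_inf hg h
  | some b =>
    have hb := ZMod.val_lt b
    have hpt : pt b.val = (some b : GolayPt) := by
      have := pt_idx (some b : GolayPt)
      exact this
    have h0 := fix_eight_inf hg h
    have hk := h b.val (by omega)
    -- the relation in the lattice
    have rel : latEight (some b) + latEight (some b) + latEight (some b)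
        + (P b.val + P b.val + P b.val + P b.val + P b.val + P b.val)
        + (latEight none + latEight none + latEight none) = 0 := by
      apply Subtype.ext
      funext p
      have h5 := eight_fin b.val hb p
      rw [hpt] at h5
      show vecEight (some b) p + vecEight (some b) p + vecEight (some b) p
        + ((P b.val : GolayPt → ℤ) p + (P b.val : GolayPt → ℤ) p + (P b.val : GolayPt → ℤ) p
          + (P b.val : GolayPt → ℤ) p + (P b.val : GolayPt → ℤ) p + (P b.val : GolayPt → ℤ) p)
        + (vecEight none p + vecEight none p + vecEight none p) = 0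
      rw [P_val (by omega : b.val < 552)]
      show vecEight (some b) p + vecEight (some b) p + vecEight (some b) p
        + ((L b.val).getD (idx p) 0 + (L b.val).getD (idx p) 0 + (L b.val).getD (idx p) 0
          + (L b.val).getD (idx p) 0 + (L b.val).getD (idx p) 0 + (L b.val).getD (idx p) 0)
        + (vecEight none p + vecEight none p + vecEight none p) = 0
      omega
    have h1 := congrArg g rel
    rw [co0_map_zero hg] at h1
    simp only [co0_map_add hg, hk, h0] at h1
    apply Subtype.ext
    funext p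
    have h2 := congrArg (fun x : leechLattice => (x : GolayPt → ℤ) p) h1
    have h3 := congrArg (fun x : leechLattice => (x : GolayPt → ℤ) p) rel
    have e1 : ∀ a b : leechLattice, ((a + b : leechLattice) : GolayPt → ℤ) p =
        (a : GolayPt → ℤ) p + (b : GolayPt → ℤ) p := fun _ _ => rfl
    have e0 : ((0 : leechLattice) : GolayPt → ℤ) p = 0 := rfl
    simp only [e1, e0] at h2 h3
    omega

/-- An element of `Co0` fixing the first 24 points is trivial. -/
theorem eq_one_of_fix {g : Equiv.Perm leechLattice} (hg : g ∈ Co0)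
    (h : ∀ j < 24, g (P j) = P j) : g = 1 := by
  apply Equiv.ext
  intro y
  apply Subtype.ext
  funext i
  have h1 := co0_dotInt hg y (latEight i)
  rw [fix_eight hg h i] at h1
  have h2 : ((latEight i : leechLattice) : GolayPt → ℤ) = vecEight i := rfl
  rw [h2, dotInt_vecEight, dotInt_vecEight] at h1
  show (g y : GolayPt → ℤ) i = (y : GolayPt → ℤ) i
  omega

theorem acts_ext {g g' : Equiv.Perm leechLattice} (hg : g ∈ Co0) (hg' : g' ∈ Co0) {T : ℕ}
    (h : Acts g T) (h' : Acts g' T) : g = g' := by
  have h1 : g⁻¹ * g' = 1 := by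
    apply eq_one_of_fix (Co0.mul_mem (Co0.inv_mem hg) hg')
    intro j hj
    have hj' : j < 552 := by omega
    rw [Equiv.Perm.mul_apply, (h' j hj').2, Equiv.Perm.inv_eq_iff_eq, (h j hj').2]
  exact (inv_mul_eq_one.mp h1)

theorem acts_ne {g g' : Equiv.Perm leechLattice} {T T' : ℕ} (h : Acts g T) (h' : Acts g' T')
    (j : ℕ) (hj : j < 552) (hne : ln T j ≠ ln T' j) : g ≠ g' := by
  intro e
  subst e
  have h1 := (h j hj).2
  rw [(h' j hj).2] at h1
  exact hne (P_inj (h' j hj).1 (h j hj).1 h1).symm

end Cfsg.Agent.Lib.Helper26.Co3
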