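import Cfsg.Agent.Lib.Helper26.Rank3Srg
import Cfsg.Agent.Lib.Helper92.LeechHSSimple

set_option autoImplicit false

open scoped Pointwise
open Cfsg Cfsg.Spor

namespace Cfsg.Agent.Lib.Helper26

open Cfsg.Agent.Lib Cfsg.Agent.Lib.Helper92

/-- The minimal vectors with inner products `24` and `-24` with two given vectors. -/
def hsPts (v w : leechLattice) : Set leechLattice :=
  {x : leechLattice | sqNorm (x : GolayPt → ℤ) = 32 ∧
    dotInt (v : GolayPt → ℤ) (x : GolayPt → ℤ) = 24 ∧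
    dotInt (w : GolayPt → ℤ) (x : GolayPt → ℤ) = -24}

/-- The joint stabiliser of two vectors. -/
abbrev hsGrp (v w : leechLattice) : Subgroup Co0 :=
  MulAction.stabilizer Co0 v ⊓ MulAction.stabilizer Co0 w

theorem hsGrp_fix {v w : leechLattice} (g : ↥(hsGrp v w)) : g.1 • v = v ∧ g.1 • w = w :=
  ⟨MulAction.mem_stabilizer_iff.mp (Subgroup.mem_inf.mp g.2).1,
    MulAction.mem_stabilizer_iff.mp (Subgroup.mem_inf.mp g.2).2⟩

/-- The points, with the action of the joint stabiliser. -/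
def hsSub (v w : leechLattice) : SubMulAction ↥(hsGrp v w) leechLattice where
  carrier := hsPts v w
  smul_mem' := by
    intro g x hx
    obtain ⟨h1, h2⟩ := hsGrp_fix g
    exact ⟨(co0_smul_sqNorm g.1 x).trans hx.1, (dot_smul_fix h1 x).trans hx.2.1,
      (dot_smul_fix h2 x).trans hx.2.2⟩

instance hsAct (v w : leechLattice) : MulAction ↥(hsGrp v w) ↥(hsSub v w) :=
  SubMulAction.mulAction (hsSub v w)

theorem hsSub_mem {v w : leechLattice} (x : ↥(hsSub v w)) : x.1 ∈ hsPts v w := x.2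

theorem hsSub_smul {v w : leechLattice} (g : ↥(hsGrp v w)) (x : ↥(hsSub v w)) :
    ((g • x : ↥(hsSub v w)) : leechLattice) = g.1 • x.1 := rfl

/-- The graph on the points: inner product `8`. -/
def hsGraph (v w : leechLattice) : SimpleGraph ↥(hsSub v w) where
  Adj x y := dotInt ((x.1 : leechLattice) : GolayPt → ℤ) ((y.1 : leechLattice) : GolayPt → ℤ) = 8
  symm := ⟨fun x y h => by
    rw [dotInt_comm]
    exact h⟩
  loopless := ⟨fun x h => by
    rw [dotInt_self, (hsSub_mem x).1] at h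
    omega⟩

theorem hsGraph_adj {v w : leechLattice} (x y : ↥(hsSub v w)) : (hsGraph v w).Adj x y ↔
    dotInt ((x.1 : leechLattice) : GolayPt → ℤ) ((y.1 : leechLattice) : GolayPt → ℤ) = 8 :=
  Iff.rfl

theorem sqNorm_five (x y z v w : GolayPt → ℤ) : sqNorm (x + y + z - v + w) =
    sqNorm x + sqNorm y + sqNorm z + sqNorm v + sqNorm w + 2 * dotInt x y + 2 * dotInt x z +
      2 * dotInt y z - 2 * dotInt v x - 2 * dotInt v y - 2 * dotInt v z + 2 * dotInt w x +
      2 * dotInt w y + 2 * dotInt w z - 2 * dotInt v w := by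
  simp only [sqNorm, dotInt, Pi.add_apply, Pi.sub_apply, Finset.mul_sum,
    ← Finset.sum_add_distrib, ← Finset.sum_sub_distrib]
  apply Finset.sum_congr rfl
  intro i _
  ring

/-- No three of the points have pairwise inner products `8`. -/
theorem hs_no_triangle {v w : leechLattice} (hv : sqNorm (v : GolayPt → ℤ) = 48)
    (hw : sqNorm (w : GolayPt → ℤ) = 48)
    (hvw : dotInt (v : GolayPt → ℤ) (w : GolayPt → ℤ) = -32) {x y z : leechLattice}
    (hx : x ∈ hsPts v w) (hy : y ∈ hsPts v w) (hz : z ∈ hsPts v w)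
    (hxy : dotInt (x : GolayPt → ℤ) (y : GolayPt → ℤ) = 8)
    (hxz : dotInt (x : GolayPt → ℤ) (z : GolayPt → ℤ) = 8)
    (hyz : dotInt (y : GolayPt → ℤ) (z : GolayPt → ℤ) = 8) : False := by
  have h1 : sqNorm (((x + y + z - v + w : leechLattice) : leechLattice) : GolayPt → ℤ) = 16 := by
    have e1 : (((x + y + z - v + w : leechLattice) : leechLattice) : GolayPt → ℤ) =
        (x : GolayPt → ℤ) + (y : GolayPt → ℤ) + (z : GolayPt → ℤ) - (v : GolayPt → ℤ) +
          (w : GolayPt → ℤ) := rfl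
    rw [e1, sqNorm_five, hx.1, hy.1, hz.1, hv, hw, hxy, hxz, hyz, hx.2.1, hy.2.1, hz.2.1, hx.2.2,
      hy.2.2, hz.2.2, hvw]
    norm_num
  by_cases h0 : (((x + y + z - v + w : leechLattice) : leechLattice) : GolayPt → ℤ) = 0
  · rw [h0, sqNorm_zero'] at h1
    omega
  · have h2 := sqNorm_ge (x + y + z - v + w : leechLattice).2 h0
    omega

/-- The stabiliser of two vectors of type 3 with inner product `-32`, on its `100` points. -/
theorem hs_R3 (v w : leechLattice) (hv : sqNorm (v : GolayPt → ℤ) = 48)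
    (hw : sqNorm (w : GolayPt → ℤ) = 48)
    (hvw : dotInt (v : GolayPt → ℤ) (w : GolayPt → ℤ) = -32) [Fintype ↥(hsSub v w)]
    (x0 : ↥(hsSub v w)) : R3 ↥(hsGrp v w) (hsGraph v w) x0 := by
  obtain ⟨nX, tX⟩ := hs_orbit v w hv hw hvw
  obtain ⟨n22, -, tS⟩ := hs_sub v w x0.1 hv hw hvw (hsSub_mem x0)
  have hmk : ∀ g : Co0, g • v = v → g • w = w → g ∈ hsGrp v w := fun g h1 h2 =>
    Subgroup.mem_inf.mpr ⟨MulAction.mem_stabilizer_iff.mpr h1, MulAction.mem_stabilizer_iff.mpr h2⟩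
  refine ⟨?_, ?_, ?_, ?_, ?_, ?_⟩
  · rw [Fintype.card_eq_nat_card]
    exact nX
  · intro x
    obtain ⟨g, h1, h2, h3⟩ := tX x0.1 (hsSub_mem x0) x.1 (hsSub_mem x)
    exact ⟨⟨g, hmk g h1 h2⟩, Subtype.ext h3⟩
  · intro g x y h
    rw [hsGraph_adj] at h ⊢
    rw [hsSub_smul, hsSub_smul, co0_smul_dotInt]
    exact h
  · rw [← Set.ncard_image_of_injective _ Subtype.val_injective, ← n22]
    congr 1
    ext y
    constructor
    · rintro ⟨y', hy', rfl⟩
      exact ⟨hsSub_mem y', hy'⟩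
    · rintro ⟨h1, h2⟩
      exact ⟨⟨y, h1⟩, h2, rfl⟩
  · intro y z hy hz hyz
    exact hs_no_triangle hv hw hvw (hsSub_mem x0) (hsSub_mem y) (hsSub_mem z) hy hz hyz
  · intro y z hy0 hz0 hy hz
    obtain ⟨g, h1, h2, h3, h4⟩ := tS y.1 (hsSub_mem y) z.1 (hsSub_mem z)
      (fun h => hy0 (Subtype.ext h)) (fun h => hz0 (Subtype.ext h))
      ⟨fun h => absurd h hy, fun h => absurd h hz⟩
    exact ⟨⟨g, hmk g h1 h2⟩, Subtype.ext h3, Subtype.ext h4⟩

/-- The second vector for the group `HS`. -/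
def hsW : leechLattice := -(leechV + leechU')

theorem hsV_norm : sqNorm ((leechV : leechLattice) : GolayPt → ℤ) = 48 := by
  show sqNorm vecV = 48
  decide +kernel

theorem hsW_norm : sqNorm ((hsW : leechLattice) : GolayPt → ℤ) = 48 := by
  show sqNorm (-(vecV + vecU')) = 48
  decide +kernel

theorem hsVW_dot : dotInt ((leechV : leechLattice) : GolayPt → ℤ)
    ((hsW : leechLattice) : GolayPt → ℤ) = -32 := by
  show dotInt vecV (-(vecV + vecU')) = -32
  decide +kernel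

/-- The joint stabiliser of the two standard vectors is the group `HS`. -/
def hsIso : ↥(hsGrp leechV hsW) ≃* ↥Spor.HS where
  toFun g := ⟨g.1.1, by
    obtain ⟨h1, h2⟩ := hsGrp_fix g
    have h3 : g.1.1 leechV = leechV := h1
    have h4 : g.1.1 hsW = hsW := h2
    refine ⟨⟨g.1.2, h3⟩, ?_⟩
    show g.1.1 leechU' = leechU'
    unfold hsW at h4
    rw [co0_map_neg g.1.2, co0_map_add g.1.2, h3, neg_inj] at h4
    exact add_left_cancel h4⟩
  invFun h := ⟨⟨h.1, h.2.1.1⟩, by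
    have h3 : h.1 leechV = leechV := h.2.1.2
    have h4 : h.1 leechU' = leechU' := h.2.2
    refine Subgroup.mem_inf.mpr ⟨MulAction.mem_stabilizer_iff.mpr ?_,
      MulAction.mem_stabilizer_iff.mpr ?_⟩
    · exact h3
    · show h.1 hsW = hsW
      unfold hsW
      rw [co0_map_neg h.2.1.1, co0_map_add h.2.1.1, h3, h4]⟩
  left_inv _ := rfl
  right_inv _ := rfl
  map_mul' _ _ := rfl

/-- A group of order `44352000` acting faithfully on a strongly regular graph with parameters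
`(100, 22, 0, 6)` is isomorphic to `HS`. -/
theorem isoHS_of_srg {G₁ Ω₁ : Type*} [Group G₁] [MulAction G₁ Ω₁] [Fintype Ω₁]
    (Γ₁ : SimpleGraph Ω₁) [DecidableRel Γ₁.Adj] (h₁ : Γ₁.IsSRGWith 100 22 0 6)
    (i₁ : ∀ (g : G₁) (x y : Ω₁), Γ₁.Adj (g • x) (g • y) ↔ Γ₁.Adj x y)
    (f₁ : ∀ g : G₁, (∀ x : Ω₁, g • x = x) → g = 1) (c₁ : Nat.card G₁ = 44352000) :
    Spor.IsoHS G₁ := by
  classical
  obtain ⟨hsimple, hcard⟩ := hs_isHS leechV hsW hsV_norm hsW_norm hsVW_dot
  obtain ⟨nX, tX⟩ := hs_orbit leechV hsW hsV_norm hsW_norm hsVW_dot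
  have hfin : (hsPts leechV hsW).Finite := Set.finite_of_ncard_ne_zero (by
    rw [show (hsPts leechV hsW).ncard = 100 from nX]
    norm_num)
  have hFt : Fintype ↥(hsSub leechV hsW) := hfin.fintype
  have hc100 : Fintype.card ↥(hsSub leechV hsW) = 100 := by
    rw [Fintype.card_eq_nat_card]
    exact nX
  obtain ⟨x0, x1, hx01⟩ : ∃ x0 x1 : ↥(hsSub leechV hsW), x0 ≠ x1 := by
    apply Fintype.exists_pair_of_one_lt_card
    rw [hc100]
    norm_num
  have hR := hs_R3 leechV hsW hsV_norm hsW_norm hsVW_dot x0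
  have f₂ : ∀ g : ↥(hsGrp leechV hsW), (∀ x : ↥(hsSub leechV hsW), g • x = x) → g = 1 := by
    intro g hg
    have hn : (MulAction.toPermHom ↥(hsGrp leechV hsW) ↥(hsSub leechV hsW)).ker.Normal :=
      MonoidHom.normal_ker _
    have hmem : g ∈ (MulAction.toPermHom ↥(hsGrp leechV hsW) ↥(hsSub leechV hsW)).ker :=
      MonoidHom.mem_ker.2 (Equiv.ext fun x => hg x)
    rcases hn.eq_bot_or_eq_top with h | h
    · rw [h, Subgroup.mem_bot] at hmem
      exact hmem
    · exfalso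
      obtain ⟨k, hk⟩ := hR.trans x1
      have hk' : k ∈ (MulAction.toPermHom ↥(hsGrp leechV hsW) ↥(hsSub leechV hsW)).ker := by
        rw [h]
        exact Subgroup.mem_top k
      have h2 := congrArg (fun σ : Equiv.Perm ↥(hsSub leechV hsW) => σ x0)
        (MonoidHom.mem_ker.1 hk')
      exact hx01 (h2.symm.trans hk)
  obtain ⟨φ⟩ := iso_of_srg100 Γ₁ (hsGraph leechV hsW) h₁ hR.isSRG i₁ (fun g x y => hR.inv' g x y)
    f₁ f₂ c₁ hcard hsimple
  exact ⟨φ.trans hsIso⟩

end Cfsg.Agent.Lib.Helper26
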