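import Cfsg.Agent.Lib.Helper26.L23

set_option autoImplicit false

open scoped Pointwise

namespace Cfsg.Agent.Lib.Helper26

open Cfsg.Agent.Lib.Helper7

/-! ### The normaliser of the shift -/

theorem shift_some (x : ZMod 23) : shiftPerm (some x) = some (x + 1) := rfl

theorem shift_none : shiftPerm none = none := rfl

theorem shift_pow_some (a : ℕ) (y : ZMod 23) :
    (shiftPerm ^ a) (some y) = some (y + (a : ZMod 23)) := by
  induction a with
  | zero => simp
  | succ a ih =>
    rw [pow_succ', Equiv.Perm.mul_apply, ih, shift_some, Nat.cast_succ, add_assoc]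

theorem shift_pow_none (a : ℕ) : (shiftPerm ^ a) none = none := by
  induction a with
  | zero => simp
  | succ a ih => rw [pow_succ', Equiv.Perm.mul_apply, ih, shift_none]

theorem isCode_of_setOf_mem {x : ℕ} (hx : x < 2 ^ 24)
    (h : Cfsg.Agent.Lib.Helper7.setOf x ∈ golaySupports) : isCode x = true := by
  obtain ⟨w, hw, hws⟩ := h
  rw [← support₂_wordOf] at hws
  rw [support₂_injective hws] at hw
  exact (wordOf_mem_golayCode_iff hx).mp hw

theorem negP_not_mem : negP ∉ Cfsg.M24 := by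
  intro h
  have h1 : negP⁻¹ ∈ Cfsg.M24 := Cfsg.M24.inv_mem h
  have h2 : RepT (negP⁻¹)⁻¹ tNeg := by
    rw [inv_inv]
    exact repT_negP
  have h3 := smul_mem_golaySupports h1
    (setOf_mem_golaySupports (m := 5279) (by norm_num) (by decide +kernel))
  rw [smul_setOf h2] at h3
  have h4 := isCode_of_setOf_mem (permT_lt _ _) h3
  revert h4
  decide +kernel

theorem shift_ne_one : shiftPerm ≠ 1 := by
  intro h
  have h3 := congrArg (fun σ : Equiv.Perm Cfsg.GolayPt => σ (some 0)) h
  revert h3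
  decide

theorem mP_ne_one : mP ≠ 1 := by
  intro h
  have h3 := congrArg (fun σ : Equiv.Perm Cfsg.GolayPt => σ (some 1)) h
  revert h3
  decide

/-- An element of the group of the code normalising the shift lies in the small group. -/
theorem nrm_shift {g : Equiv.Perm Cfsg.GolayPt} (hg : g ∈ Cfsg.M24) {i : ℕ}
    (hi : g * shiftPerm = shiftPerm ^ i * g) : g ∈ F23 := by
  have hi0 : ((i : ℕ) : ZMod 23) ≠ 0 := by
    intro h0
    have h1 : shiftPerm ^ i = 1 := by
      apply Equiv.ext
      intro p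
      cases p with
      | none => exact shift_pow_none i
      | some y =>
        rw [shift_pow_some, h0, add_zero]
        rfl
    rw [h1, one_mul] at hi
    exact shift_ne_one (mul_left_cancel (hi.trans (mul_one g).symm))
  have happ : ∀ p, g (shiftPerm p) = (shiftPerm ^ i) (g p) := fun p =>
    congrArg (fun σ : Equiv.Perm Cfsg.GolayPt => σ p) hi
  have hnone : g none = none := by
    have h1 := happ none
    rw [shift_none] at h1
    cases hgn : g none with
    | none => rfl
    | some y =>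
      rw [hgn, shift_pow_some] at h1
      have h2 : y = y + (i : ZMod 23) := Option.some.inj h1
      exact absurd (left_eq_add.mp h2) hi0
  have hsome : ∀ x : ZMod 23, ∃ y, g (some x) = some y := by
    intro x
    cases hgx : g (some x) with
    | none => exact absurd (g.injective (hgx.trans hnone.symm)) (by simp)
    | some y => exact ⟨y, rfl⟩
  choose f hf using hsome
  have hrec : ∀ x, f (x + 1) = f x + (i : ZMod 23) := by
    intro x
    have h1 := happ (some x)
    rw [shift_some, hf, hf, shift_pow_some] at h1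
    exact Option.some.inj h1
  have hlin : ∀ n : ℕ, f (n : ZMod 23) = f 0 + (i : ZMod 23) * (n : ZMod 23) := by
    intro n
    induction n with
    | zero => simp
    | succ n ih =>
      rw [Nat.cast_succ, hrec, ih]
      ring
  have hlin' : ∀ x : ZMod 23, f x = f 0 + (i : ZMod 23) * x := by
    intro x
    have h1 := hlin x.val
    rwa [ZMod.natCast_zmod_val] at h1
  obtain ⟨j, hj⟩ := inv_cases (i : ZMod 23) hi0
  have hgeq : g = shiftPerm ^ (f 0).val * mulP (Units.mkOfMulEqOne (i : ZMod 23) j hj) := by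
    apply Equiv.ext
    intro p
    cases p with
    | none => rw [hnone, Equiv.Perm.mul_apply, mulP_none, shift_pow_none]
    | some x =>
      rw [hf, hlin', Equiv.Perm.mul_apply, mulP_some, shift_pow_some, ZMod.natCast_zmod_val,
        Units.val_mkOfMulEqOne, add_comm]
  have hmu : mulP (Units.mkOfMulEqOne (i : ZMod 23) j hj) ∈ Cfsg.M24 := by
    have e : mulP (Units.mkOfMulEqOne (i : ZMod 23) j hj) = (shiftPerm ^ (f 0).val)⁻¹ * g := by
      rw [hgeq, inv_mul_cancel_left]
    rw [e]
    exact Cfsg.M24.mul_mem (Cfsg.M24.inv_mem (Cfsg.M24.pow_mem shiftPerm_mem _)) hg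
  rcases sq_or_neg (i : ZMod 23) hi0 with ⟨r, y, hry, e⟩ | ⟨r, y, hry, e⟩
  · have hsq : IsSquare (Units.mkOfMulEqOne (i : ZMod 23) j hj) :=
      ⟨Units.mkOfMulEqOne r y hry, Units.ext (by
        rw [Units.val_mul, Units.val_mkOfMulEqOne, Units.val_mkOfMulEqOne]
        exact e)⟩
    obtain ⟨k, hk⟩ := mulP_sq hsq
    rw [hgeq, hk]
    exact Subgroup.mul_mem _ (Subgroup.pow_mem _ shift_mem_F23 _)
      (Subgroup.pow_mem _ mP_mem_F23 _)
  · exfalso
    have hsq : IsSquare (Units.mkOfMulEqOne r y hry * Units.mkOfMulEqOne r y hry) := ⟨_, rfl⟩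
    obtain ⟨k, hk⟩ := mulP_sq hsq
    have e2 : Units.mkOfMulEqOne (i : ZMod 23) j hj
        = -1 * (Units.mkOfMulEqOne r y hry * Units.mkOfMulEqOne r y hry) := Units.ext (by
      rw [Units.val_mul, Units.val_mul, Units.val_neg, Units.val_one, Units.val_mkOfMulEqOne,
        Units.val_mkOfMulEqOne, e]
      ring)
    rw [e2, mulP_mul, hk] at hmu
    have e3 : negP = (mulP (-1) * mP ^ k) * (mP ^ k)⁻¹ := by
      rw [mul_inv_cancel_right]
      rfl
    apply negP_not_mem
    rw [e3]
    exact Cfsg.M24.mul_mem hmu (Cfsg.M24.inv_mem (Cfsg.M24.pow_mem mP_mem k))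

/-! ### The normaliser of the doubling -/

theorem mP_pow_eleven : mP ^ 11 = 1 := by
  have h1 : powT tM 11 = idT := by decide +kernel
  have h2 := repT_pow repT_mP 11
  rw [h1] at h2
  exact h2.ext repT_one

theorem orderOf_mP : orderOf mP = 11 := by
  haveI : Fact (Nat.Prime 11) := ⟨by norm_num⟩
  exact orderOf_eq_prime mP_pow_eleven mP_ne_one

theorem shift_pow_23 : shiftPerm ^ 23 = 1 := by
  have h1 : powT tA 23 = idT := by decide +kernel
  have h2 := repT_pow repT_shift 23
  rw [h1] at h2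
  exact h2.ext repT_one

theorem orderOf_shift : orderOf shiftPerm = 23 := by
  haveI : Fact (Nat.Prime 23) := ⟨by norm_num⟩
  exact orderOf_eq_prime shift_pow_23 shift_ne_one

theorem mP_shift : mP * shiftPerm = shiftPerm ^ 2 * mP := by
  have h1 : mulT tM tA = mulT (powT tA 2) tM := by decide +kernel
  have h2 := repT_mP.mul repT_shift
  rw [h1] at h2
  exact h2.ext ((repT_pow repT_shift 2).mul repT_mP)

theorem card_nrm_mP : Nat.card ↥(Cfsg.Agent.Lib.Helper6.Cls.nrm mP) = 110 := by
  have h1 := Cfsg.Agent.Lib.Helper6.Cls.card_normalizer_zpowers (⟨mP, mP_mem⟩ : ↥Cfsg.M24)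
  rw [← h1]
  apply Cfsg.Agent.Lib.Helper6.N11.card_normalizer
  rw [Nat.card_zpowers, ← orderOf_mP]
  exact (orderOf_injective (Subgroup.subtype Cfsg.M24) (Subgroup.subtype_injective _)
    ⟨mP, mP_mem⟩).symm

theorem mP_pow_some (i : ℕ) (y : ZMod 23) : (mP ^ i) (some y) = some ((2 : ZMod 23) ^ i * y) := by
  unfold mP
  rw [← mulP_pow, mulP_some, Units.val_pow_eq_pow_val]
  rfl

theorem mP_pow_none (i : ℕ) : (mP ^ i) none = none := by
  unfold mP
  rw [← mulP_pow]
  rfl

theorem nrm_mP_none {c : Equiv.Perm Cfsg.GolayPt} {i : ℕ} (hi : c * mP = mP ^ i * c) :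
    c none = none ∨ c none = some 0 := by
  have h2 : c none = (mP ^ i) (c none) :=
    congrArg (fun σ : Equiv.Perm Cfsg.GolayPt => σ none) hi
  cases hc : c none with
  | none => exact Or.inl rfl
  | some y =>
    right
    rw [hc, mP_pow_some] at h2
    have h3 : y = 2 ^ i * y := Option.some.inj h2
    by_contra hy
    have hy0 : y ≠ 0 := fun h => hy (by rw [h])
    obtain ⟨z, hz⟩ := inv_cases y hy0
    have h4 : (2 : ZMod 23) ^ i = 1 := by
      calc (2 : ZMod 23) ^ i = 2 ^ i * (y * z) := by rw [hz, mul_one]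
        _ = (2 ^ i * y) * z := by ring
        _ = y * z := by rw [← h3]
        _ = 1 := hz
    have h5 : mP ^ i = 1 := by
      apply Equiv.ext
      intro p
      cases p with
      | none => exact mP_pow_none i
      | some x =>
        rw [mP_pow_some, h4, one_mul]
        rfl
    rw [h5, one_mul] at hi
    exact mP_ne_one (mul_left_cancel (hi.trans (mul_one c).symm))

theorem projInv_mem_nrm : Cfsg.projInv ∈ Cfsg.Agent.Lib.Helper6.Cls.nrm mP := by
  rw [Cfsg.Agent.Lib.Helper6.Cls.mem_nrm]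
  refine ⟨projInv_mem, 10, ?_⟩
  have h1 : mulT tB tM = mulT (powT tM 10) tB := by decide +kernel
  have h2 := repT_projInv.mul repT_mP
  rw [h1] at h2
  exact h2.ext ((repT_pow repT_mP 10).mul repT_projInv)

theorem orbit_nrm_none : MulAction.orbit ↥(Cfsg.Agent.Lib.Helper6.Cls.nrm mP)
    (none : Cfsg.GolayPt) = {none, some 0} := by
  ext p
  constructor
  · rintro ⟨c, rfl⟩
    obtain ⟨-, i, hi⟩ := Cfsg.Agent.Lib.Helper6.Cls.mem_nrm.mp c.2
    rcases nrm_mP_none hi with h | h
    · exact Or.inl h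
    · exact Or.inr h
  · rintro (rfl | h)
    · exact MulAction.mem_orbit_self _
    · rw [Set.mem_singleton_iff] at h
      rw [h]
      exact ⟨⟨Cfsg.projInv, projInv_mem_nrm⟩, rfl⟩

/-- The normaliser of the doubling in the stabiliser of the extra point. -/
def nrm23 : Subgroup (Equiv.Perm Cfsg.GolayPt) :=
  Cfsg.Agent.Lib.Helper6.Cls.nrm mP ⊓
    MulAction.stabilizer (Equiv.Perm Cfsg.GolayPt) (none : Cfsg.GolayPt)

theorem card_nrm23 : Nat.card ↥nrm23 = 55 := by
  have h1 := Subgroup.index_mul_card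
    (MulAction.stabilizer ↥(Cfsg.Agent.Lib.Helper6.Cls.nrm mP) (none : Cfsg.GolayPt))
  rw [MulAction.index_stabilizer, orbit_nrm_none, Set.ncard_pair (by simp), card_nrm_mP] at h1
  have e : ↥(MulAction.stabilizer ↥(Cfsg.Agent.Lib.Helper6.Cls.nrm mP) (none : Cfsg.GolayPt)) ≃
      ↥nrm23 :=
    { toFun := fun x => ⟨x.1.1, ⟨x.1.2, x.2⟩⟩
      invFun := fun y => ⟨⟨y.1, y.2.1⟩, y.2.2⟩
      left_inv := fun _ => rfl
      right_inv := fun _ => rfl }
  rw [← Nat.card_congr e]
  omega

/-! ### Counting with the theorems of Sylow -/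

theorem sylow_count {G : Type*} [Group G] [Finite G] (K T : Subgroup G) (hTK : T ≤ K) (p : ℕ)
    [Fact p.Prime] (hT : Nat.card ↥T = p) (hp : ¬ p ^ 2 ∣ Nat.card ↥K) :
    ∃ n, n % p = 1 ∧
      Nat.card ↥K = Nat.card ↥(Subgroup.normalizer (T : Set G) ⊓ K) * n := by
  have hpp : p.Prime := Fact.out
  have hT' : Nat.card ↥(T.subgroupOf K) = p := by
    rw [Nat.card_congr (Subgroup.subgroupOfEquivOfLe hTK).toEquiv, hT]
  have hdvd : p ∣ Nat.card ↥K := by
    rw [← hT']
    exact Subgroup.card_subgroup_dvd_card _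
  have hK0 : Nat.card ↥K ≠ 0 := Nat.card_pos.ne'
  have hfac : (Nat.card ↥K).factorization p = 1 := by
    have h1 : 1 ≤ (Nat.card ↥K).factorization p :=
      (hpp.dvd_iff_one_le_factorization hK0).mp hdvd
    have h2 : ¬ 2 ≤ (Nat.card ↥K).factorization p := fun h =>
      hp ((hpp.pow_dvd_iff_le_factorization hK0).mpr h)
    omega
  let P : Sylow p ↥K := Sylow.ofCard (T.subgroupOf K) (by rw [hT', hfac, pow_one])
  have h1 : Nat.card (Sylow p ↥K)
      = (Subgroup.normalizer ((T.subgroupOf K : Subgroup ↥K) : Set ↥K)).index :=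
    Sylow.card_eq_index_normalizer P
  have h2 : Nat.card (Sylow p ↥K) ≡ 1 [MOD p] := card_sylow_modEq_one p ↥K
  have h3 := Subgroup.card_mul_index
    (Subgroup.normalizer ((T.subgroupOf K : Subgroup ↥K) : Set ↥K))
  rw [← Subgroup.subgroupOf_normalizer_eq hTK] at h3 h1
  have h4 : Nat.card ↥((Subgroup.normalizer (T : Set G)).subgroupOf K)
      = Nat.card ↥(Subgroup.normalizer (T : Set G) ⊓ K) := by
    rw [← Subgroup.inf_subgroupOf_right]
    exact Nat.card_congr (Subgroup.subgroupOfEquivOfLe inf_le_right).toEquiv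
  refine ⟨Nat.card (Sylow p ↥K), ?_, ?_⟩
  · have h5 : Nat.card (Sylow p ↥K) % p = 1 % p := h2
    rw [h5, Nat.mod_eq_of_lt hpp.one_lt]
  · rw [← h4, h1, h3]

/-! ### Maximality -/

/-- The stabiliser of the extra point in the group of the code. -/
def M23P : Subgroup (Equiv.Perm Cfsg.GolayPt) :=
  Cfsg.M24 ⊓ MulAction.stabilizer (Equiv.Perm Cfsg.GolayPt) (none : Cfsg.GolayPt)

theorem card_M23P : Nat.card ↥M23P = 10200960 := by
  rw [← card_stabilizer_M24 none]
  exact Nat.card_congr
    { toFun := fun x => ⟨⟨x.1, x.2.1⟩, x.2.2⟩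
      invFun := fun y => ⟨y.1.1, ⟨y.1.2, y.2⟩⟩
      left_inv := fun _ => rfl
      right_inv := fun _ => rfl }

theorem F23_le_M23P : F23 ≤ M23P := le_inf (F23_le_L23.trans L23_le_M24) F23_le_stab

set_option maxRecDepth 1000000 in
theorem arith23 : allB (fun k => !(40320 % k == 0) || !(k % 23 == 1) ||
    !(((253 * k) % 11 == 0 && (253 * k / 11) % 11 == 1) ||
      ((253 * k) % 55 == 0 && (253 * k / 55) % 11 == 1)) || (k == 1) || (k == 40320)) 40321
      = true := by
  decide +kernel

/-- The small group is maximal in the stabiliser of the extra point. -/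
theorem M23_max (K : Subgroup (Equiv.Perm Cfsg.GolayPt)) (hFK : F23 ≤ K) (hK : K ≤ M23P) :
    K = F23 ∨ K = M23P := by
  have i23 : Fact (Nat.Prime 23) := ⟨by norm_num⟩
  have i11 : Fact (Nat.Prime 11) := ⟨by norm_num⟩
  have hdvd : Nat.card ↥K ∣ 10200960 := by
    rw [← card_M23P]
    exact Subgroup.card_dvd_of_le hK
  -- the prime 23
  have hT : Subgroup.zpowers shiftPerm ≤ K := by
    rw [Subgroup.zpowers_le]
    exact hFK shift_mem_F23
  have hTc : Nat.card ↥(Subgroup.zpowers shiftPerm) = 23 := by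
    rw [Nat.card_zpowers, orderOf_shift]
  obtain ⟨n, hn, hKn⟩ := sylow_count K _ hT 23 hTc (by
    intro h
    have h1 := dvd_trans h hdvd
    revert h1
    decide)
  have hN : Subgroup.normalizer ((Subgroup.zpowers shiftPerm :
      Subgroup (Equiv.Perm Cfsg.GolayPt)) : Set (Equiv.Perm Cfsg.GolayPt)) ⊓ K = F23 := by
    apply le_antisymm
    · rintro g ⟨hg1, hg2⟩
      obtain ⟨i, hi⟩ := (Cfsg.Agent.Lib.Helper6.Cls.mem_normalizer_zpowers_iff shiftPerm g).mp hg1
      exact nrm_shift (hK hg2).1 hi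
    · refine le_inf ?_ hFK
      unfold F23
      rw [Subgroup.closure_le]
      intro g hg
      have hg' : g ∈ gF := hg
      simp only [gF, List.mem_cons, List.not_mem_nil, or_false] at hg'
      rcases hg' with rfl | rfl
      · exact (Cfsg.Agent.Lib.Helper6.Cls.mem_normalizer_zpowers_iff _ _).mpr
          ⟨1, by rw [pow_one]⟩
      · exact (Cfsg.Agent.Lib.Helper6.Cls.mem_normalizer_zpowers_iff _ _).mpr ⟨2, mP_shift⟩
  rw [hN, card_F23] at hKn
  -- the prime 11
  have hC : Subgroup.zpowers mP ≤ K := by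
    rw [Subgroup.zpowers_le]
    exact hFK mP_mem_F23
  have hCc : Nat.card ↥(Subgroup.zpowers mP) = 11 := by
    rw [Nat.card_zpowers, orderOf_mP]
  obtain ⟨n', hn', hKn'⟩ := sylow_count K _ hC 11 hCc (by
    intro h
    have h1 := dvd_trans h hdvd
    revert h1
    decide)
  have hb1 : Nat.card ↥(Subgroup.normalizer ((Subgroup.zpowers mP :
      Subgroup (Equiv.Perm Cfsg.GolayPt)) : Set (Equiv.Perm Cfsg.GolayPt)) ⊓ K) ∣ 55 := by
    rw [← card_nrm23]
    apply Subgroup.card_dvd_of_le
    rintro g ⟨hg1, hg2⟩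
    exact ⟨⟨(hK hg2).1, hg1⟩, (hK hg2).2⟩
  have hb2 : 11 ∣ Nat.card ↥(Subgroup.normalizer ((Subgroup.zpowers mP :
      Subgroup (Equiv.Perm Cfsg.GolayPt)) : Set (Equiv.Perm Cfsg.GolayPt)) ⊓ K) := by
    rw [← hCc]
    apply Subgroup.card_dvd_of_le
    exact le_inf Subgroup.le_normalizer hC
  generalize Nat.card ↥(Subgroup.normalizer ((Subgroup.zpowers mP :
      Subgroup (Equiv.Perm Cfsg.GolayPt)) : Set (Equiv.Perm Cfsg.GolayPt)) ⊓ K) = b
      at hb1 hb2 hKn'
  have hb : b = 11 ∨ b = 55 := by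
    have hble : b ≤ 55 := Nat.le_of_dvd (by norm_num) hb1
    obtain ⟨c, hc⟩ := hb2
    have hc5 : c ≤ 5 := by omega
    interval_cases c
    · rw [hc] at hb1
      exact absurd hb1 (by decide)
    · left
      omega
    · rw [hc] at hb1
      exact absurd hb1 (by decide)
    · rw [hc] at hb1
      exact absurd hb1 (by decide)
    · rw [hc] at hb1
      exact absurd hb1 (by decide)
    · right
      omega
  -- arithmetic
  have hn40 : n ∣ 40320 := by
    rw [hKn] at hdvd
    exact Nat.dvd_of_mul_dvd_mul_left (by norm_num : 0 < 253) (by simpa using hdvd)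
  have hnle : n ≤ 40320 := Nat.le_of_dvd (by norm_num) hn40
  have key := allB_spec arith23 n (by omega)
  have c1 : (40320 % n == 0) = true := by
    rw [beq_iff_eq]
    exact Nat.mod_eq_zero_of_dvd hn40
  have c2 : (n % 23 == 1) = true := by
    rw [beq_iff_eq]
    exact hn
  have c3 : (((253 * n) % 11 == 0 && (253 * n / 11) % 11 == 1) ||
      ((253 * n) % 55 == 0 && (253 * n / 55) % 11 == 1)) = true := by
    rw [hKn] at hKn'
    rw [Bool.or_eq_true, Bool.and_eq_true, Bool.and_eq_true, beq_iff_eq, beq_iff_eq, beq_iff_eq,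
      beq_iff_eq]
    rcases hb with hb | hb
    · left
      rw [hb] at hKn'
      omega
    · right
      rw [hb] at hKn'
      omega
  rw [c1, c2, c3] at key
  simp only [Bool.not_true, Bool.false_or, Bool.or_eq_true, beq_iff_eq] at key
  rcases key with key | key
  · left
    rw [key] at hKn
    exact (Subgroup.eq_of_le_of_card_ge hFK (by rw [hKn, card_F23])).symm
  · right
    rw [key] at hKn
    exact Subgroup.eq_of_le_of_card_ge hK (by rw [hKn, card_M23P])

theorem projInv_mem_L23 : Cfsg.projInv ∈ L23 :=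
  Subgroup.subset_closure (show Cfsg.projInv ∈ gL from List.mem_cons_of_mem _ List.mem_cons_self)

theorem L23_trans (p : Cfsg.GolayPt) : ∃ g ∈ L23, g none = p := by
  cases p with
  | none => exact ⟨1, L23.one_mem, rfl⟩
  | some x =>
    refine ⟨shiftPerm ^ x.val * Cfsg.projInv,
      L23.mul_mem (L23.pow_mem (F23_le_L23 shift_mem_F23) _) projInv_mem_L23, ?_⟩
    show (shiftPerm ^ x.val) (Cfsg.projInv none) = some x
    have h1 : Cfsg.projInv none = some 0 := rfl
    rw [h1, shift_pow_some, zero_add, ZMod.natCast_zmod_val]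

theorem card_of_trans (K : Subgroup (Equiv.Perm Cfsg.GolayPt)) (hLK : L23 ≤ K) :
    Nat.card ↥K = 24 * Nat.card ↥(K ⊓
      MulAction.stabilizer (Equiv.Perm Cfsg.GolayPt) (none : Cfsg.GolayPt)) := by
  have h1 := Subgroup.index_mul_card (MulAction.stabilizer ↥K (none : Cfsg.GolayPt))
  have horb : MulAction.orbit ↥K (none : Cfsg.GolayPt) = Set.univ := by
    ext p
    simp only [Set.mem_univ, iff_true]
    obtain ⟨g, hg, hgp⟩ := L23_trans p
    exact ⟨⟨g, hLK hg⟩, hgp⟩
  rw [MulAction.index_stabilizer, horb, Set.ncard_univ, Nat.card_eq_fintype_card,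
    Fintype.card_option, ZMod.card] at h1
  have e : ↥(MulAction.stabilizer ↥K (none : Cfsg.GolayPt)) ≃
      ↥(K ⊓ MulAction.stabilizer (Equiv.Perm Cfsg.GolayPt) (none : Cfsg.GolayPt)) :=
    { toFun := fun x => ⟨x.1.1, ⟨x.1.2, x.2⟩⟩
      invFun := fun y => ⟨⟨y.1, y.2.1⟩, y.2.2⟩
      left_inv := fun _ => rfl
      right_inv := fun _ => rfl }
  rw [← Nat.card_congr e, ← h1]

/-- The large group is maximal in the group of the code. -/
theorem M24_max (K : Subgroup (Equiv.Perm Cfsg.GolayPt)) (hLK : L23 ≤ K) (hK : K ≤ Cfsg.M24) :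
    K = L23 ∨ K = Cfsg.M24 := by
  have h1 := card_of_trans K hLK
  have h2 : F23 ≤ K ⊓ MulAction.stabilizer (Equiv.Perm Cfsg.GolayPt) (none : Cfsg.GolayPt) :=
    le_inf (F23_le_L23.trans hLK) F23_le_stab
  have h3 : K ⊓ MulAction.stabilizer (Equiv.Perm Cfsg.GolayPt) (none : Cfsg.GolayPt) ≤ M23P :=
    inf_le_inf_right _ hK
  rcases M23_max _ h2 h3 with h | h
  · left
    rw [h, card_F23] at h1
    exact (Subgroup.eq_of_le_of_card_ge hLK (by rw [h1, card_L23])).symm
  · right
    rw [h, card_M23P] at h1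
    exact Subgroup.eq_of_le_of_card_ge hK (by rw [h1, card_M24])

end Cfsg.Agent.Lib.Helper26
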