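import Cfsg.Agent.Lib.Helper26.L23Max

set_option autoImplicit false

open scoped Pointwise

namespace Cfsg.Agent.Lib.Helper26

open Cfsg.Agent.Lib.Helper7

/-! ### Generating the stabiliser of the extra point -/

theorem card_golayPt : Nat.card Cfsg.GolayPt = 24 := by
  rw [Nat.card_eq_fintype_card]
  rfl

theorem fac23_of_dvd {n : ℕ} (h1 : n ∣ 10200960) (h2 : 23 ∣ n) : n.factorization 23 = 1 := by
  have hpp : Nat.Prime 23 := by norm_num
  have hn0 : n ≠ 0 := by
    rintro rfl
    simp at h1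
  have h3 : 1 ≤ n.factorization 23 := (hpp.dvd_iff_one_le_factorization hn0).mp h2
  have h4 : ¬ 2 ≤ n.factorization 23 := fun h => by
    have h5 : 23 ^ 2 ∣ n := (hpp.pow_dvd_iff_le_factorization hn0).mpr h
    have h6 : 23 ^ 2 ∣ 10200960 := h5.trans h1
    revert h6
    norm_num
  omega

/-- A subgroup of the stabiliser of the extra point that contains the shift and an element
whose order does not divide `253` is the whole stabiliser. -/
theorem M23_gen_shift (K : Subgroup (Equiv.Perm Cfsg.GolayPt)) (hK : K ≤ M23P)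
    (hs : shiftPerm ∈ K) {b : Equiv.Perm Cfsg.GolayPt} (hb : b ∈ K) (hb253 : b ^ 253 ≠ 1) :
    K = M23P := by
  have i23 : Fact (Nat.Prime 23) := ⟨by norm_num⟩
  have h23 : Nat.Prime 23 := by norm_num
  have hKdvd : Nat.card ↥K ∣ 10200960 := by
    rw [← card_M23P]
    exact Subgroup.card_dvd_of_le hK
  -- the intersection with the small group
  have hTN : Subgroup.zpowers shiftPerm ≤ K ⊓ F23 :=
    (Subgroup.zpowers_le).mpr ⟨hs, shift_mem_F23⟩
  have hTcard : Nat.card ↥(Subgroup.zpowers shiftPerm) = 23 := by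
    rw [Nat.card_zpowers, orderOf_shift]
  have hNdvd : Nat.card ↥(K ⊓ F23) ∣ 253 := by
    rw [← card_F23]
    exact Subgroup.card_dvd_of_le inf_le_right
  have h23N : 23 ∣ Nat.card ↥(K ⊓ F23) := by
    rw [← hTcard]
    exact Subgroup.card_dvd_of_le hTN
  have hNcases : Nat.card ↥(K ⊓ F23) = 253 ∨ Nat.card ↥(K ⊓ F23) = 23 := by
    obtain ⟨m, hm⟩ := h23N
    rw [hm] at hNdvd ⊢
    have h1 : m ∣ 11 := by
      have h2 : 23 * m ∣ 23 * 11 := hNdvd
      exact Nat.dvd_of_mul_dvd_mul_left (by norm_num) h2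
    rcases (Nat.dvd_prime (by norm_num : Nat.Prime 11)).mp h1 with h | h
    · right; rw [h]
    · left; rw [h]
  rcases hNcases with hN | hN
  · -- the small group is contained in `K`
    have hNF : K ⊓ F23 = F23 :=
      Subgroup.eq_of_le_of_card_ge inf_le_right (by rw [hN, card_F23])
    have hFK : F23 ≤ K := by
      rw [← hNF]
      exact inf_le_left
    rcases M23_max K hFK hK with h | h
    · exfalso
      apply hb253
      have hbF : b ∈ F23 := h ▸ hb
      have h1 : (⟨b, hbF⟩ : ↥F23) ^ Nat.card ↥F23 = 1 := pow_card_eq_one'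
      rw [card_F23] at h1
      exact congrArg Subtype.val h1
    · exact h
  · -- the intersection is the group of the shift
    exfalso
    have hNT : Subgroup.zpowers shiftPerm = K ⊓ F23 :=
      Subgroup.eq_of_le_of_card_ge hTN (by rw [hN, hTcard])
    have h23K : 23 ∣ Nat.card ↥K := by
      rw [← hTcard]
      exact Subgroup.card_dvd_of_le ((Subgroup.zpowers_le).mpr hs)
    have hfac : (Nat.card ↥K).factorization 23 = 1 := fac23_of_dvd hKdvd h23K
    let s : ↥K := ⟨shiftPerm, hs⟩
    have hso : orderOf s = 23 := by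
      rw [← Subgroup.orderOf_coe]
      exact orderOf_shift
    have hTc : Nat.card ↥(Subgroup.zpowers s) = 23 := by
      rw [Nat.card_zpowers, hso]
    let P : Sylow 23 ↥K := Sylow.ofCard (Subgroup.zpowers s) (by rw [hTc, hfac, pow_one])
    have hPc : ((P : Subgroup ↥K) : Set ↥K) = (Subgroup.zpowers s : Set ↥K) := rfl
    have hPs : (P : Subgroup ↥K) = Subgroup.zpowers s := rfl
    have hnorm : ∀ g : ↥K, g ∈ Subgroup.normalizer ((P : Subgroup ↥K) : Set ↥K) →
        g ∈ Subgroup.zpowers s := by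
      intro g hg
      rw [hPc, Subgroup.mem_normalizer_iff] at hg
      have h1 : g * s * g⁻¹ ∈ Subgroup.zpowers s := (hg s).mp (Subgroup.mem_zpowers s)
      have h2 : g * s * g⁻¹ ∈ Submonoid.powers s := by
        rw [mem_powers_iff_mem_zpowers]
        exact h1
      obtain ⟨n, hn⟩ := h2
      have h3 : (g : Equiv.Perm Cfsg.GolayPt) * shiftPerm = shiftPerm ^ n * g := by
        have h4 : s ^ n * g = g * s := by
          have h5 : s ^ n = g * s * g⁻¹ := hn
          rw [h5]
          group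
        have h6 := congrArg Subtype.val h4
        exact h6.symm
      have h7 : (g : Equiv.Perm Cfsg.GolayPt) ∈ F23 := nrm_shift ((hK g.2).1) h3
      have h8 : (g : Equiv.Perm Cfsg.GolayPt) ∈ Subgroup.zpowers shiftPerm := by
        rw [hNT]
        exact ⟨g.2, h7⟩
      obtain ⟨k, hk⟩ := Subgroup.mem_zpowers_iff.mp h8
      exact Subgroup.mem_zpowers_iff.mpr ⟨k, Subtype.ext hk⟩
    have hP : Subgroup.normalizer ((P : Subgroup ↥K) : Set ↥K)
        ≤ Subgroup.centralizer ((P : Subgroup ↥K) : Set ↥K) := by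
      intro g hg
      have h1 := hnorm g hg
      rw [Subgroup.mem_centralizer_iff]
      intro h hh
      have hh' : h ∈ Subgroup.zpowers s := hh
      obtain ⟨k, rfl⟩ := Subgroup.mem_zpowers_iff.mp h1
      obtain ⟨j, rfl⟩ := Subgroup.mem_zpowers_iff.mp hh'
      exact (Commute.zpow_zpow_self s j k).eq
    have hcompl := MonoidHom.ker_transferSylow_isComplement' P hP
    have hnd := MonoidHom.not_dvd_card_ker_transferSylow P hP
    set Q : Subgroup ↥K := (MonoidHom.transferSylow P hP).ker with hQdef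
    have hQn : Q.Normal := MonoidHom.normal_ker _
    have hQcard : Nat.card ↥Q * 23 = Nat.card ↥K := by
      have h1 := hcompl.card_mul_card
      rw [hPs, hTc] at h1
      exact h1
    have hQidx : Q.index = 23 := by
      have h1 := hcompl.symm.index_eq_card
      rw [hPs, hTc] at h1
      exact h1
    -- the stabiliser of a point
    have horb : MulAction.orbit ↥K (some 0 : Cfsg.GolayPt) = ({none} : Set Cfsg.GolayPt)ᶜ := by
      ext p
      constructor
      · rintro ⟨k, rfl⟩
        intro hp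
        have h1 : (k : Equiv.Perm Cfsg.GolayPt) none = none := (hK k.2).2
        have h2 : (k : Equiv.Perm Cfsg.GolayPt) (some 0) = none := hp
        have h3 := (k : Equiv.Perm Cfsg.GolayPt).injective (h2.trans h1.symm)
        exact absurd h3 (by simp)
      · intro hp
        cases p with
        | none => exact absurd rfl hp
        | some y =>
          refine ⟨s ^ y.val, ?_⟩
          show ((s ^ y.val : ↥K) : Equiv.Perm Cfsg.GolayPt) (some 0) = some y
          rw [Subgroup.coe_pow]
          show (shiftPerm ^ y.val) (some 0) = some y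
          rw [shift_pow_some, zero_add, ZMod.natCast_zmod_val]
    have hidx : (MulAction.stabilizer ↥K (some 0 : Cfsg.GolayPt)).index = 23 := by
      rw [MulAction.index_stabilizer, horb, Set.ncard_compl, card_golayPt, Set.ncard_singleton]
    set G0 : Subgroup ↥K := MulAction.stabilizer ↥K (some 0 : Cfsg.GolayPt) with hG0def
    have hG0card : Nat.card ↥G0 * 23 = Nat.card ↥K := by
      rw [← hidx]
      exact Subgroup.card_mul_index G0
    have hcardeq : Nat.card ↥G0 = Nat.card ↥Q := by omega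
    have hrel : Q.relIndex G0 = 1 := by
      have h1 : Q.relIndex G0 ∣ 23 := by
        rw [← hQidx]
        exact Subgroup.relIndex_dvd_index_of_normal Q G0
      have h2 : Q.relIndex G0 ∣ Nat.card ↥G0 := Subgroup.relIndex_dvd_card Q G0
      rcases (Nat.dvd_prime h23).mp h1 with h | h
      · exact h
      · exfalso
        rw [h, hcardeq] at h2
        exact hnd h2
    have hG0Q : G0 ≤ Q := Subgroup.relIndex_eq_one.mp hrel
    have hG0eq : G0 = Q := Subgroup.eq_of_le_of_card_ge hG0Q (by rw [hcardeq])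
    have hG0bot : ∀ h ∈ G0, h = 1 := by
      intro h hh
      have hfix : ∀ n : ℕ, (h : Equiv.Perm Cfsg.GolayPt) ((shiftPerm ^ n) (some 0))
          = (shiftPerm ^ n) (some 0) := by
        intro n
        have h1 : (s ^ n)⁻¹ * h * (s ^ n)⁻¹⁻¹ ∈ Q := hQn.conj_mem h (hG0eq ▸ hh) _
        rw [← hG0eq, inv_inv] at h1
        have h2 : ((s ^ n)⁻¹ * h * s ^ n) • (some 0 : Cfsg.GolayPt) = some 0 := h1
        have h3 : ((shiftPerm ^ n)⁻¹ * (h : Equiv.Perm Cfsg.GolayPt) * shiftPerm ^ n) (some 0)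
            = some 0 := h2
        rw [Equiv.Perm.mul_apply, Equiv.Perm.mul_apply, Equiv.Perm.inv_eq_iff_eq] at h3
        exact h3
      apply Subtype.ext
      apply Equiv.ext
      intro p
      cases p with
      | none => exact (hK h.2).2
      | some y =>
        have h1 := hfix y.val
        rw [shift_pow_some, zero_add, ZMod.natCast_zmod_val] at h1
        exact h1
    have hG0one : Nat.card ↥G0 = 1 := by
      rw [Subgroup.card_eq_one]
      exact (Subgroup.eq_bot_iff_forall G0).mpr hG0bot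
    have hKc : Nat.card ↥K = 23 := by omega
    apply hb253
    have h1 : (⟨b, hb⟩ : ↥K) ^ Nat.card ↥K = 1 := pow_card_eq_one'
    rw [hKc] at h1
    have h2 : b ^ 23 = 1 := congrArg Subtype.val h1
    rw [show (253 : ℕ) = 23 * 11 from rfl, pow_mul, h2, one_pow]

/-- A subgroup of the stabiliser of the extra point that contains an element of order `23`
and an element whose order does not divide `253` is the whole stabiliser. -/
theorem M23_gen (K : Subgroup (Equiv.Perm Cfsg.GolayPt)) (hK : K ≤ M23P)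
    {a b : Equiv.Perm Cfsg.GolayPt} (ha : a ∈ K) (hao : orderOf a = 23)
    (hb : b ∈ K) (hb253 : b ^ 253 ≠ 1) : K = M23P := by
  have i23 : Fact (Nat.Prime 23) := ⟨by norm_num⟩
  have hfac : (Nat.card ↥M23P).factorization 23 = 1 := by
    rw [card_M23P]
    exact fac23_of_dvd dvd_rfl (by norm_num)
  let a' : ↥M23P := ⟨a, hK ha⟩
  let s' : ↥M23P := ⟨shiftPerm, F23_le_M23P shift_mem_F23⟩
  have hao' : orderOf a' = 23 := by
    rw [← Subgroup.orderOf_coe]
    exact hao
  have hso' : orderOf s' = 23 := by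
    rw [← Subgroup.orderOf_coe]
    exact orderOf_shift
  let P₁ : Sylow 23 ↥M23P := Sylow.ofCard (Subgroup.zpowers a')
    (by rw [Nat.card_zpowers, hao', hfac, pow_one])
  let P₂ : Sylow 23 ↥M23P := Sylow.ofCard (Subgroup.zpowers s')
    (by rw [Nat.card_zpowers, hso', hfac, pow_one])
  obtain ⟨g, hg⟩ := MulAction.exists_smul_eq ↥M23P P₁ P₂
  have h1 : s' ∈ (P₂ : Subgroup ↥M23P) := Subgroup.mem_zpowers s'
  rw [← hg, Sylow.coe_subgroup_smul, Subgroup.mem_pointwise_smul_iff_inv_smul_mem] at h1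
  have h2 : g⁻¹ * s' * g ∈ Subgroup.zpowers a' := by
    have h3 : (MulAut.conj g)⁻¹ • s' = g⁻¹ * s' * g := by
      rw [MulAut.smul_def, MulAut.conj_inv_apply]
    rw [← h3]
    exact h1
  obtain ⟨k, hk⟩ := Subgroup.mem_zpowers_iff.mp h2
  have h4 : (g : Equiv.Perm Cfsg.GolayPt)⁻¹ * shiftPerm * g = a ^ k := by
    have h5 := congrArg Subtype.val hk
    exact h5.symm
  -- the conjugate subgroup
  let K' : Subgroup (Equiv.Perm Cfsg.GolayPt) :=
    K.map (MulAut.conj (g : Equiv.Perm Cfsg.GolayPt)).toMonoidHom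
  have hmem : ∀ x : Equiv.Perm Cfsg.GolayPt, x ∈ K →
      (g : Equiv.Perm Cfsg.GolayPt) * x * (g : Equiv.Perm Cfsg.GolayPt)⁻¹ ∈ K' :=
    fun x hx => ⟨x, hx, rfl⟩
  have hK' : K' ≤ M23P := by
    rintro _ ⟨x, hx, rfl⟩
    exact M23P.mul_mem (M23P.mul_mem g.2 (hK hx)) (M23P.inv_mem g.2)
  have hs' : shiftPerm ∈ K' := by
    have h5 := hmem _ (K.zpow_mem ha k)
    rw [← h4] at h5
    have h6 : (g : Equiv.Perm Cfsg.GolayPt) * ((g : Equiv.Perm Cfsg.GolayPt)⁻¹ * shiftPerm * g)
        * (g : Equiv.Perm Cfsg.GolayPt)⁻¹ = shiftPerm := by group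
    rw [h6] at h5
    exact h5
  have hb' : ((g : Equiv.Perm Cfsg.GolayPt) * b * (g : Equiv.Perm Cfsg.GolayPt)⁻¹) ^ 253 ≠ 1 := by
    rw [conj_pow]
    intro h
    apply hb253
    have h7 : b ^ 253 = (g : Equiv.Perm Cfsg.GolayPt)⁻¹ *
        ((g : Equiv.Perm Cfsg.GolayPt) * b ^ 253 * (g : Equiv.Perm Cfsg.GolayPt)⁻¹) * g := by
      group
    rw [h7, h]
    group
  have hfin := M23_gen_shift K' hK' hs' (hmem b hb) hb'
  apply le_antisymm hK
  intro x hx
  have h8 : (g : Equiv.Perm Cfsg.GolayPt) * x * (g : Equiv.Perm Cfsg.GolayPt)⁻¹ ∈ K' := by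
    rw [hfin]
    exact M23P.mul_mem (M23P.mul_mem g.2 hx) (M23P.inv_mem g.2)
  obtain ⟨y, hy, hyx⟩ := h8
  have h9 : y = x := by
    have h10 : (g : Equiv.Perm Cfsg.GolayPt) * y * (g : Equiv.Perm Cfsg.GolayPt)⁻¹
        = (g : Equiv.Perm Cfsg.GolayPt) * x * (g : Equiv.Perm Cfsg.GolayPt)⁻¹ := hyx
    exact mul_left_cancel (mul_right_cancel h10)
  rw [← h9]
  exact hy

end Cfsg.Agent.Lib.Helper26
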