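import Cfsg.Agent.Lib.Helper26.Ree
import Cfsg.Agent.Lib.Helper26.M23Gen
import Cfsg.Agent.Lib.Helper6.M24Class

set_option autoImplicit false

open scoped Pointwise

namespace Cfsg.Agent.Lib.Helper26

open Cfsg.Agent.Lib.Helper7

/-! ### Cycle counts in the stabiliser of the extra point, and the excluded triples -/

theorem M23P_eq : M23P = Cfsg.Spor.M23 := rfl

theorem fcard_golayPt : Fintype.card Cfsg.GolayPt = 24 := rfl

/-- An involution fixing the extra point has sixteen cycles. -/
theorem cyc_two {g : Equiv.Perm Cfsg.GolayPt} (hg : g ∈ M23P) (ho : orderOf g = 2) :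
    cycCount g = 16 := by
  obtain ⟨h2, hne⟩ := Cfsg.Agent.Lib.Helper6.Cls.sq_of_order_two ho
  have h1 := Cfsg.Agent.Lib.Helper6.Cls.fixed_mem_octads hg.1 h2 hne (p := none) hg.2
  have h3 := Cfsg.Agent.Lib.Helper6.Golay.card_of_mem_octads h1
  have h4 := cycCount_prime g 2 (by norm_num) ho
  rw [fcard_golayPt, h3] at h4
  omega

/-- An element of order three fixing the extra point has twelve cycles. -/
theorem cyc_three {g : Equiv.Perm Cfsg.GolayPt} (hg : g ∈ M23P) (ho : orderOf g = 3) :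
    cycCount g = 12 := by
  obtain ⟨h3, hne⟩ := Cfsg.Agent.Lib.Helper6.Cls.cube_of_order_three ho
  obtain ⟨k, -, hk⟩ := Cfsg.Agent.Lib.Helper6.Cls.ord3_conj hg.1 h3 hne
  have hVA : k * g * k⁻¹ = Cfsg.Agent.Lib.Helper6.Cls.VA := by
    rcases hk with ⟨-, h⟩ | ⟨h, -⟩
    · exact h
    · exact absurd hg.2 (h none)
  have h1 := Cfsg.Agent.Lib.Helper6.Cls.card_fixed_conj k g
  rw [hVA, Cfsg.Agent.Lib.Helper6.Cls.VA_fixed, Cfsg.Agent.Lib.Helper6.Golay.card_suppMask] at h1
  have h5 : Cfsg.Agent.Lib.Helper6.Golay.pcI 24 Cfsg.Agent.Lib.Helper6.Cls.fix3A = 6 := by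
    decide +kernel
  rw [h5] at h1
  have h4 := cycCount_prime g 3 (by norm_num) ho
  rw [fcard_golayPt, ← h1] at h4
  omega

theorem fixed_pos {g : Equiv.Perm Cfsg.GolayPt} (hg : g ∈ M23P) :
    1 ≤ (Finset.univ.filter (fun i => g i = i)).card := by
  apply Finset.card_pos.mpr
  exact ⟨none, Finset.mem_filter.mpr ⟨Finset.mem_univ _, hg.2⟩⟩

/-- An element of order five fixing the extra point has at least eight cycles. -/
theorem cyc_five {g : Equiv.Perm Cfsg.GolayPt} (hg : g ∈ M23P) (ho : orderOf g = 5) :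
    8 ≤ cycCount g := by
  have h4 := cycCount_prime g 5 (by norm_num) ho
  have h5 := fixed_pos hg
  rw [fcard_golayPt] at h4
  omega

/-- An element of order seven fixing the extra point has at least six cycles. -/
theorem cyc_seven {g : Equiv.Perm Cfsg.GolayPt} (hg : g ∈ M23P) (ho : orderOf g = 7) :
    6 ≤ cycCount g := by
  have h4 := cycCount_prime g 7 (by norm_num) ho
  have h5 := fixed_pos hg
  rw [fcard_golayPt] at h4
  omega

/-- An element of prime order has a cycle. -/
theorem cyc_pos {g : Equiv.Perm Cfsg.GolayPt} {r : ℕ} (hr : r.Prime) (ho : orderOf g = r) :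
    1 ≤ cycCount g := by
  have h4 := cycCount_prime g r hr ho
  rw [fcard_golayPt] at h4
  by_contra hc
  have h0 : cycCount g = 0 := by omega
  rw [h0, zero_mul] at h4
  omega

/-- The inequality of Ree in the stabiliser of the extra point. -/
theorem M23_ree (x y z : Equiv.Perm Cfsg.GolayPt) (hxyz : x * y * z = 1)
    (hgen : Subgroup.closure ({x, y} : Set (Equiv.Perm Cfsg.GolayPt)) = M23P) :
    cycCount x + cycCount y + cycCount z ≤ 28 := by
  have h := ree_two_orbits x y z hxyz none (some 0) (by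
    intro i
    cases i with
    | none => exact ⟨1, Subgroup.one_mem _, Or.inl rfl⟩
    | some t =>
      refine ⟨shiftPerm ^ t.val, ?_, Or.inr ?_⟩
      · rw [hgen]
        exact M23P.pow_mem (F23_le_M23P shift_mem_F23) _
      · rw [shift_pow_some, zero_add, ZMod.natCast_zmod_val])
  rw [fcard_golayPt] at h
  exact h

/-- The excluded triples. -/
theorem M23_neg (p q r : ℕ) (hr : r.Prime) (hqr : q ≤ r)
    (x y z : Equiv.Perm Cfsg.GolayPt) (hx : orderOf x = p) (hy : orderOf y = q)
    (hz : orderOf z = r) (hxyz : x * y * z = 1)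
    (hgen : Subgroup.closure ({x, y} : Set (Equiv.Perm Cfsg.GolayPt)) = M23P)
    (hbad : (p = 2 ∧ q = 3) ∨ (p = 2 ∧ q = 5 ∧ r = 5) ∨ (p = 2 ∧ q = 5 ∧ r = 7) ∨
      (p = 3 ∧ q = 3 ∧ r ≤ 7)) : False := by
  have hxm : x ∈ M23P := by
    rw [← hgen]
    exact Subgroup.subset_closure (Set.mem_insert _ _)
  have hym : y ∈ M23P := by
    rw [← hgen]
    exact Subgroup.subset_closure (Set.mem_insert_of_mem _ rfl)
  have hzm : z ∈ M23P := by
    have h1 : z = (x * y)⁻¹ := eq_inv_of_mul_eq_one_right hxyz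
    rw [h1]
    exact M23P.inv_mem (M23P.mul_mem hxm hym)
  have hree := M23_ree x y z hxyz hgen
  have hzpos := cyc_pos hr hz
  rcases hbad with ⟨rfl, rfl⟩ | ⟨rfl, rfl, rfl⟩ | ⟨rfl, rfl, rfl⟩ | ⟨rfl, rfl, hr7⟩
  · have h1 := cyc_two hxm hx
    have h2 := cyc_three hym hy
    omega
  · have h1 := cyc_two hxm hx
    have h2 := cyc_five hym hy
    have h3 := cyc_five hzm hz
    omega
  · have h1 := cyc_two hxm hx
    have h2 := cyc_five hym hy
    have h3 := cyc_seven hzm hz
    omega
  · have h1 := cyc_three hxm hx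
    have h2 := cyc_three hym hy
    have hr3 : r = 3 ∨ r = 4 ∨ r = 5 ∨ r = 6 ∨ r = 7 := by omega
    rcases hr3 with rfl | rfl | rfl | rfl | rfl
    · have h3 := cyc_three hzm hz
      omega
    · exact absurd hr (by norm_num)
    · have h3 := cyc_five hzm hz
      omega
    · exact absurd hr (by norm_num)
    · have h3 := cyc_seven hzm hz
      omega

end Cfsg.Agent.Lib.Helper26
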