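import Cfsg.Agent.Lib.Helper26.OrbTools
import Cfsg.Agent.Lib.Helper26.M23Ree
import Cfsg.Agent.Lib.Helper6.M24Class
import Cfsg.Agent.Lib.Helper7.GolaySimple

set_option autoImplicit false
open scoped Pointwise
open Cfsg

namespace Cfsg.Agent.Lib.Helper26

open Cfsg.Agent.Lib

/-- Cycle count identity and fixed point bound for an element of prime order of `M24`. -/
theorem fix_count {g : Equiv.Perm GolayPt} (hg : g ∈ M24) {p : ℕ} (hp : p.Prime)
    (ho : orderOf g = p) :
    ∃ c, c * p = 24 + (p - 1) * (Finset.univ.filter (fun i => g i = i)).card ∧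
      (Finset.univ.filter (fun i => g i = i)).card ≤ 8 := by
  have hne : g ≠ 1 := by
    rintro rfl
    rw [orderOf_one] at ho
    exact hp.one_lt.ne ho
  refine ⟨cycCount g, ?_, Helper6.Cls.card_fixed_le_eight hg hne⟩
  have h := cycCount_prime g p hp ho
  rw [fcard_golayPt] at h
  exact h

theorem fix7 {g : Equiv.Perm GolayPt} (hg : g ∈ M24) (ho : orderOf g = 7) :
    (Finset.univ.filter (fun i => g i = i)).card = 3 := by
  obtain ⟨c, h1, h2⟩ := fix_count hg (by norm_num) ho
  omega

theorem fix5 {g : Equiv.Perm GolayPt} (hg : g ∈ M24) (ho : orderOf g = 5) :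
    (Finset.univ.filter (fun i => g i = i)).card = 4 := by
  obtain ⟨c, h1, h2⟩ := fix_count hg (by norm_num) ho
  omega

theorem fix11 {g : Equiv.Perm GolayPt} (hg : g ∈ M24) (ho : orderOf g = 11) :
    (Finset.univ.filter (fun i => g i = i)).card = 2 := by
  obtain ⟨c, h1, h2⟩ := fix_count hg (by norm_num) ho
  omega

theorem fix23 {g : Equiv.Perm GolayPt} (hg : g ∈ M24) (ho : orderOf g = 23) :
    (Finset.univ.filter (fun i => g i = i)).card = 1 := by
  obtain ⟨c, h1, h2⟩ := fix_count hg (by norm_num) ho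
  omega

/-- An element of prime order of `M24` with eight fixed points is an involution. -/
theorem prime_of_fix8 {g : Equiv.Perm GolayPt} (hg : g ∈ M24) {p : ℕ} (hp : p.Prime)
    (ho : orderOf g = p) (h8 : 8 ≤ (Finset.univ.filter (fun i => g i = i)).card) : p = 2 := by
  obtain ⟨c, h1, h2⟩ := fix_count hg hp ho
  have h3 : (Finset.univ.filter (fun i => g i = i)).card = 8 := le_antisymm h2 h8
  rw [h3] at h1
  have hp2 := hp.two_le
  have h4 : c * p = 16 + 8 * p := by
    obtain ⟨q, rfl⟩ : ∃ q, p = q + 1 := ⟨p - 1, by omega⟩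
    rw [h1]
    simp only [Nat.add_sub_cancel]
    ring
  have h5 : p ∣ 16 := by
    have h6 : p ∣ 16 + 8 * p := ⟨c, by rw [← h4]; ring⟩
    exact (Nat.dvd_add_left (dvd_mul_left p 8)).1 h6
  have h7 : p ∣ 2 := hp.dvd_of_dvd_pow (show p ∣ 2 ^ 4 from h5)
  exact (Nat.prime_dvd_prime_iff_eq hp Nat.prime_two).1 h7

/-- A subgroup of `M24` fixing three points has order at most 20160. -/
theorem card_le_of_fix3 (K : Subgroup (Equiv.Perm GolayPt)) (hK : K ≤ M24) {x u v : GolayPt}
    (hxu : x ≠ u) (hxv : x ≠ v) (huv : u ≠ v) (h : ∀ k ∈ K, k x = x ∧ k u = u ∧ k v = v) :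
    Nat.card K ≤ 20160 := by
  obtain ⟨g, hg, h1, h2, h3⟩ := Helper7.M24_trans3 (x1 := x) (x2 := u) (x3 := v)
    (y1 := Helper7.pt 23) (y2 := Helper7.pt 0) (y3 := Helper7.pt 1) hxu hxv huv
    (by decide) (by decide) (by decide)
  rw [← Helper7.card_fixSub3]
  have hmem : ∀ k : ↥K, g * k.1 * g⁻¹ ∈ Helper7.fixSub 8388611 := by
    intro k
    obtain ⟨kx, ku, kv⟩ := h k.1 k.2
    refine ⟨M24.mul_mem (M24.mul_mem hg (hK k.2)) (M24.inv_mem hg), ?_⟩
    have e23 : (g * k.1 * g⁻¹) (Helper7.pt 23) = Helper7.pt 23 := by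
      rw [← h1]
      simp [kx]
    have e0 : (g * k.1 * g⁻¹) (Helper7.pt 0) = Helper7.pt 0 := by
      rw [← h2]
      simp [ku]
    have e1 : (g * k.1 * g⁻¹) (Helper7.pt 1) = Helper7.pt 1 := by
      rw [← h3]
      simp [kv]
    intro i hi hF
    have hcases : ∀ i < 24, Nat.testBit 8388611 i = true → i = 0 ∨ i = 1 ∨ i = 23 := by
      decide
    rcases hcases i hi hF with rfl | rfl | rfl <;> assumption
  apply Nat.card_le_card_of_injective
    (fun k : ↥K => (⟨g * k.1 * g⁻¹, hmem k⟩ : ↥(Helper7.fixSub 8388611)))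
  intro k1 k2 he
  have h4 := congrArg Subtype.val he
  simp only [mul_left_inj, mul_right_inj] at h4
  exact Subtype.ext h4

section Idx253

variable {x : GolayPt} {K : Subgroup (Equiv.Perm GolayPt)}

theorem eq_one_of_fix9 (hK : K ≤ M24) {k : Equiv.Perm GolayPt} (hk : k ∈ K)
    (F : Finset GolayPt) (hF : 9 ≤ F.card) (hfix : ∀ i ∈ F, k i = i) : k = 1 := by
  by_contra hne
  have h1 := Helper6.Cls.card_fixed_le_eight (hK hk) hne
  have h2 : F ⊆ Finset.univ.filter (fun i => k i = i) :=
    fun i hi => Finset.mem_filter.2 ⟨Finset.mem_univ _, hfix i hi⟩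
  have := Finset.card_le_card h2
  omega

theorem not_mem_orbF (hx : ∀ k ∈ K, k x = x) {u : GolayPt} (hu : u ≠ x) : x ∉ orbF K u := by
  intro h
  obtain ⟨k, hk, e⟩ := mem_orbF.1 h
  apply hu
  have h1 := hx k hk
  exact k.injective (e.trans h1.symm)

theorem card_le_23 {T : Finset GolayPt} (hxT : x ∉ T) : T.card ≤ 23 := by
  have h1 : T ⊆ Finset.univ.erase x := fun i hi =>
    Finset.mem_erase.2 ⟨fun h => hxT (h ▸ hi), Finset.mem_univ _⟩
  have h2 := Finset.card_le_card h1
  rw [Finset.card_erase_of_mem (Finset.mem_univ _), Finset.card_univ, fcard_golayPt] at h2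
  exact h2

theorem cases_2mod7 {n : ℕ} (h7 : n % 7 = 2 % 7) (h5 : ∃ t ≤ 3, n % 5 = t % 5) (h23 : n ≤ 23)
    (hd : n ∣ 40320) : n = 2 ∨ n = 16 := by
  obtain ⟨t, ht, h5⟩ := h5
  interval_cases n <;> omega

theorem cases_1mod7 {n : ℕ} (h7 : n % 7 = 1 % 7) (h23 : n ≤ 23) (hd : n ∣ 40320) :
    n = 1 ∨ n = 8 ∨ n = 15 := by
  interval_cases n <;> omega

/-- No invariant set of eight points off the fixed point. -/
theorem no_orbit8 (hK : K ≤ M24) (hx : ∀ k ∈ K, k x = x) (hc : Nat.card K = 40320)
    (A : Finset GolayPt) (hA : InvSet K A) (hxA : x ∉ A) (hcA : A.card = 8) : False := by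
  have hf : ∀ k ∈ K, (∀ i ∈ A, k i = i) → k = 1 := by
    intro k hk hfix
    apply eq_one_of_fix9 hK hk (insert x A) (by rw [Finset.card_insert_of_notMem hxA, hcA])
    intro i hi
    rcases Finset.mem_insert.1 hi with rfl | hi
    · exact hx k hk
    · exact hfix i hi
  have hc' : Nat.card K = A.card.factorial := by
    rw [hc, hcA]
    rfl
  obtain ⟨a, ha, a', ha', a'', ha'', h1, h2, h3⟩ :=
    Finset.two_lt_card.1 (by rw [hcA]; norm_num : 2 < A.card)
  obtain ⟨t, htK, ht⟩ := surj_of_faithful K A hA hf hc' (Equiv.swap ⟨a, ha⟩ ⟨a', ha'⟩)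
  obtain ⟨t', ht'K, ht'⟩ := surj_of_faithful K A hA hf hc' (Equiv.swap ⟨a, ha⟩ ⟨a'', ha''⟩)
  have key : ∀ (t : Equiv.Perm GolayPt) (b : GolayPt) (hb : b ∈ A), t ∈ K → a ≠ b →
      (∀ z : ↥A, t (z : GolayPt) = Equiv.swap (⟨a, ha⟩ : ↥A) ⟨b, hb⟩ z) →
      (Finset.univ.filter (fun i => t i = i)) ∈ octads ∧
        (∀ i ∈ A, i ≠ a → i ≠ b → t i = i) ∧ t b = a := by
    intro t b hb htK hab ht
    have hsq : t * t = 1 := by
      apply hf _ (K.mul_mem htK htK)
      intro i hi
      rw [Equiv.Perm.mul_apply, ht ⟨i, hi⟩, ht (Equiv.swap ⟨a, ha⟩ ⟨b, hb⟩ ⟨i, hi⟩),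
        Equiv.swap_apply_self]
    have hta : t a = b := by
      have h4 := ht ⟨a, ha⟩
      rw [Equiv.swap_apply_left] at h4
      exact h4
    have hne : t ≠ 1 := by
      rintro rfl
      exact hab hta
    refine ⟨Helper6.Cls.fixed_mem_octads (hK htK) hsq hne (hx t htK), ?_, ?_⟩
    · intro i hi hia hib
      have h4 := ht ⟨i, hi⟩
      rw [Equiv.swap_apply_of_ne_of_ne (fun h => hia (congrArg Subtype.val h))
        (fun h => hib (congrArg Subtype.val h))] at h4
      exact h4
    · have h4 := ht ⟨b, hb⟩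
      rw [Equiv.swap_apply_right] at h4
      exact h4
  obtain ⟨o1, f1, _⟩ := key t a' ha' htK h1 ht
  obtain ⟨o2, f2, e2⟩ := key t' a'' ha'' ht'K h2 ht'
  have hs : 5 ≤ (A \ {a, a', a''}).card := by
    have h4 := Finset.le_card_sdiff ({a, a', a''} : Finset GolayPt) A
    have h5 := Finset.card_le_three (a := a) (b := a') (c := a'')
    omega
  have heq := Helper6.Golay.octad_unique o1 o2 hs
    (fun i hi => by
      simp only [Finset.mem_sdiff, Finset.mem_insert, Finset.mem_singleton, not_or] at hi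
      exact Finset.mem_filter.2 ⟨Finset.mem_univ _, f1 i hi.1 hi.2.1 hi.2.2.1⟩)
    (fun i hi => by
      simp only [Finset.mem_sdiff, Finset.mem_insert, Finset.mem_singleton, not_or] at hi
      exact Finset.mem_filter.2 ⟨Finset.mem_univ _, f2 i hi.1 hi.2.1 hi.2.2.2⟩)
  have hmem : a'' ∈ Finset.univ.filter (fun i => t i = i) :=
    Finset.mem_filter.2 ⟨Finset.mem_univ _, f1 a'' ha'' (Ne.symm h2) (Ne.symm h3)⟩
  rw [heq, Finset.mem_filter] at hmem
  exact h2 (e2.symm.trans hmem.2)

theorem exists_fix7 (hc : Nat.card K = 40320) (S : Finset GolayPt) (hS : InvSet K S)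
    (hcS : S.card = 7) : ∃ k ∈ K, k ≠ 1 ∧ ∀ i ∈ S, k i = i :=
  exists_fix_of_card_lt K S hS (by rw [hcS, hc]; decide)

/-- An invariant set of seven points off the fixed point completes to an octad. -/
theorem octad_of_inv7 (hK : K ≤ M24) (hx : ∀ k ∈ K, k x = x) (hc : Nat.card K = 40320)
    (S : Finset GolayPt) (hS : InvSet K S) (hcS : S.card = 7) (hxS : x ∉ S) :
    insert x S ∈ octads := by
  obtain ⟨k, hk, hne, hfix⟩ := exists_fix7 hc S hS hcS
  have hord : orderOf k ≠ 1 := fun h => hne (orderOf_eq_one_iff.1 h)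
  obtain ⟨p, hp, hpd⟩ := Nat.exists_prime_and_dvd hord
  obtain ⟨k', hk'⟩ : ∃ k', k' = k ^ (orderOf k / p) := ⟨_, rfl⟩
  have ho : orderOf k' = p := by
    rw [hk']
    exact orderOf_pow_orderOf_div (orderOf_pos k).ne' hpd
  have hk'K : k' ∈ K := by
    rw [hk']
    exact K.pow_mem hk _
  have hfix' : ∀ i ∈ insert x S, k' i = i := by
    intro i hi
    have h1 : k i = i := by
      rcases Finset.mem_insert.1 hi with rfl | hi
      · exact hx k hk
      · exact hfix i hi
    rw [hk']
    exact Equiv.Perm.pow_apply_eq_self_of_apply_eq_self h1 _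
  have hsub : insert x S ⊆ Finset.univ.filter (fun i => k' i = i) :=
    fun i hi => Finset.mem_filter.2 ⟨Finset.mem_univ _, hfix' i hi⟩
  have hcard : (insert x S).card = 8 := by
    rw [Finset.card_insert_of_notMem hxS, hcS]
  have hne' : k' ≠ 1 := by
    intro h
    rw [h, orderOf_one] at ho
    exact hp.one_lt.ne ho
  have hle := Helper6.Cls.card_fixed_le_eight (hK hk'K) hne'
  have heq : insert x S = Finset.univ.filter (fun i => k' i = i) :=
    Finset.eq_of_subset_of_card_le hsub (by rw [hcard]; exact hle)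
  have hp2 : p = 2 := prime_of_fix8 (hK hk'K) hp ho (by rw [← heq, hcard])
  rw [hp2] at ho
  obtain ⟨h2, _⟩ := Helper6.Cls.sq_of_order_two ho
  rw [heq]
  exact Helper6.Cls.fixed_mem_octads (hK hk'K) h2 hne' (hx k' hk'K)

/-- Orbit sizes 1 and 15 off the fixed point are impossible. -/
theorem no_1_15 (hK : K ≤ M24) (hx : ∀ k ∈ K, k x = x) (hc : Nat.card K = 40320)
    (A B : Finset GolayPt) (hA : InvSet K A) (hB : InvSet K B) (hxA : x ∉ A) (hxB : x ∉ B)
    (hd : Disjoint A B) (hA1 : A.card = 1) (hB15 : B.card = 15) : False := by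
  obtain ⟨u, rfl⟩ := Finset.card_eq_one.1 hA1
  have hxu : x ≠ u := fun h => hxA (by rw [h]; exact Finset.mem_singleton_self _)
  have huB : u ∉ B := Finset.disjoint_singleton_left.1 hd
  have hTinv : InvSet K ({x} ∪ ({u} ∪ B)) := (invSet_singleton hx).union (hA.union hB)
  have hSinv := hTinv.compl
  have hcT : ({x} ∪ ({u} ∪ B) : Finset GolayPt).card = 17 := by
    rw [Finset.card_union_of_disjoint, Finset.card_union_of_disjoint hd, hB15]
    · rfl
    · rw [Finset.disjoint_singleton_left, Finset.mem_union, Finset.mem_singleton]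
      exact fun h => h.elim hxu hxB
  have hcS : (Finset.univ \ ({x} ∪ ({u} ∪ B)) : Finset GolayPt).card = 7 := by
    rw [Finset.card_univ_sdiff, fcard_golayPt, hcT]
  obtain ⟨k, hk, hne, hfix⟩ := exists_fix7 hc _ hSinv hcS
  apply hne
  have hxS : x ∉ (Finset.univ \ ({x} ∪ ({u} ∪ B)) : Finset GolayPt) := by
    simp
  have huS : u ∉ (Finset.univ \ ({x} ∪ ({u} ∪ B)) : Finset GolayPt) := by
    simp
  apply eq_one_of_fix9 hK hk (insert x (insert u (Finset.univ \ ({x} ∪ ({u} ∪ B)))))
  · rw [Finset.card_insert_of_notMem, Finset.card_insert_of_notMem huS, hcS]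
    rw [Finset.mem_insert]
    exact fun h => h.elim hxu hxS
  · intro i hi
    rcases Finset.mem_insert.1 hi with rfl | hi
    · exact hx k hk
    · rcases Finset.mem_insert.1 hi with rfl | hi
      · exact Finset.mem_singleton.1 (hA k hk i (Finset.mem_singleton_self _))
      · exact hfix i hi

/-- A subgroup of order 40320 of the point stabiliser of `M24` stabilises a duad or an octad
through the point. -/
theorem idx253_perm (hK : K ≤ M24) (hx : ∀ k ∈ K, k x = x) (hc : Nat.card K = 40320) :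
    (∃ s : Finset GolayPt, s.card = 2 ∧ x ∉ s ∧ InvSet K s) ∨
      ∃ o ∈ octads, x ∈ o ∧ InvSet K o := by
  have : Fact (Nat.Prime 7) := ⟨by norm_num⟩
  have : Fact (Nat.Prime 5) := ⟨by norm_num⟩
  obtain ⟨g7', ho7'⟩ := exists_prime_orderOf_dvd_card' (G := ↥K) 7 (by rw [hc]; norm_num)
  obtain ⟨g5', ho5'⟩ := exists_prime_orderOf_dvd_card' (G := ↥K) 5 (by rw [hc]; norm_num)
  obtain ⟨g7, hg7, ho7⟩ : ∃ g ∈ K, orderOf g = 7 :=
    ⟨g7'.1, g7'.2, by rw [Subgroup.orderOf_coe]; exact ho7'⟩
  obtain ⟨g5, hg5, ho5⟩ : ∃ g ∈ K, orderOf g = 5 :=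
    ⟨g5'.1, g5'.2, by rw [Subgroup.orderOf_coe]; exact ho5'⟩
  have f7 := fix7 (hK hg7) ho7
  have f5 := fix5 (hK hg5) ho5
  have hp7 : g7 ^ 7 = 1 := by
    rw [← ho7]
    exact pow_orderOf_eq_one _
  have hp5 : g5 ^ 5 = 1 := by
    rw [← ho5]
    exact pow_orderOf_eq_one _
  have hx7 : x ∈ Finset.univ.filter (fun i => g7 i = i) :=
    Finset.mem_filter.2 ⟨Finset.mem_univ _, hx g7 hg7⟩
  have hx5 : x ∈ Finset.univ.filter (fun i => g5 i = i) :=
    Finset.mem_filter.2 ⟨Finset.mem_univ _, hx g5 hg5⟩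
  have hcard2 : ((Finset.univ.filter (fun i => g7 i = i)).erase x).card = 2 := by
    rw [Finset.card_erase_of_mem hx7, f7]
  obtain ⟨u, v, huv, hE⟩ := Finset.card_eq_two.1 hcard2
  have hu : u ≠ x ∧ g7 u = u := by
    have h1 : u ∈ (Finset.univ.filter (fun i => g7 i = i)).erase x := by
      rw [hE]
      exact Finset.mem_insert_self _ _
    rw [Finset.mem_erase, Finset.mem_filter] at h1
    exact ⟨h1.1, h1.2.2⟩
  have hv : v ≠ x ∧ g7 v = v := by
    have h1 : v ∈ (Finset.univ.filter (fun i => g7 i = i)).erase x := by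
      rw [hE]
      exact Finset.mem_insert_of_mem (Finset.mem_singleton_self _)
    rw [Finset.mem_erase, Finset.mem_filter] at h1
    exact ⟨h1.1, h1.2.2⟩
  have hF7 : ∀ i, g7 i = i → i = x ∨ i = u ∨ i = v := by
    intro i hi
    by_cases hix : i = x
    · exact Or.inl hix
    · have h1 : i ∈ (Finset.univ.filter (fun i => g7 i = i)).erase x :=
        Finset.mem_erase.2 ⟨hix, Finset.mem_filter.2 ⟨Finset.mem_univ _, hi⟩⟩
      rw [hE, Finset.mem_insert, Finset.mem_singleton] at h1
      exact Or.inr h1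
  -- the five-count of an invariant set off `x`
  have h5le : ∀ T : Finset GolayPt, x ∉ T → (T.filter (fun i => g5 i = i)).card ≤ 3 := by
    intro T hxT
    have h1 : T.filter (fun i => g5 i = i) ⊆ (Finset.univ.filter (fun i => g5 i = i)).erase x := by
      intro i hi
      rw [Finset.mem_filter] at hi
      exact Finset.mem_erase.2 ⟨fun h => hxT (h ▸ hi.1),
        Finset.mem_filter.2 ⟨Finset.mem_univ _, hi.2⟩⟩
    have h2 := Finset.card_le_card h1
    rw [Finset.card_erase_of_mem hx5, f5] at h2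
    exact h2
  obtain ⟨A, hAdef⟩ : ∃ A, A = orbF K u := ⟨_, rfl⟩
  have hAinv : InvSet K A := hAdef ▸ invSet_orbF K u
  have hxA : x ∉ A := hAdef ▸ not_mem_orbF hx hu.1
  have huA : u ∈ A := hAdef ▸ self_mem_orbF K u
  have hAd : A.card ∣ 40320 := by
    rw [hAdef, ← hc]
    exact card_orbF_dvd K u
  have hA23 : A.card ≤ 23 := card_le_23 hxA
  have hA7 := card_inv_modEq g7 7 (by norm_num) hp7 A (hAinv g7 hg7)
  have hA5 := card_inv_modEq g5 5 (by norm_num) hp5 A (hAinv g5 hg5)
  by_cases hvA : v ∈ A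
  · have e7 : A.filter (fun i => g7 i = i) = {u, v} := by
      ext i
      simp only [Finset.mem_filter, Finset.mem_insert, Finset.mem_singleton]
      constructor
      · rintro ⟨hi, hgi⟩
        rcases hF7 i hgi with rfl | h | h
        · exact absurd hi hxA
        · exact Or.inl h
        · exact Or.inr h
      · rintro (rfl | rfl)
        · exact ⟨huA, hu.2⟩
        · exact ⟨hvA, hv.2⟩
    rw [e7, Finset.card_pair huv] at hA7
    rcases cases_2mod7 hA7 ⟨_, h5le A hxA, hA5⟩ hA23 hAd with h2 | h16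
    · exact Or.inl ⟨A, h2, hxA, hAinv⟩
    · right
      have hTinv : InvSet K ({x} ∪ A) := (invSet_singleton hx).union hAinv
      have hSinv := hTinv.compl
      have hcS : (Finset.univ \ ({x} ∪ A) : Finset GolayPt).card = 7 := by
        rw [Finset.card_univ_sdiff, fcard_golayPt, Finset.card_union_of_disjoint
          (Finset.disjoint_singleton_left.2 hxA), h16]
        rfl
      have hxS : x ∉ (Finset.univ \ ({x} ∪ A) : Finset GolayPt) := by
        simp
      have ho := octad_of_inv7 hK hx hc _ hSinv hcS hxS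
      refine ⟨_, ho, Finset.mem_insert_self _ _, ?_⟩
      rw [Finset.insert_eq]
      exact (invSet_singleton hx).union hSinv
  · exfalso
    obtain ⟨B, hBdef⟩ : ∃ B, B = orbF K v := ⟨_, rfl⟩
    have hBinv : InvSet K B := hBdef ▸ invSet_orbF K v
    have hxB : x ∉ B := hBdef ▸ not_mem_orbF hx hv.1
    have hvB : v ∈ B := hBdef ▸ self_mem_orbF K v
    have hBd : B.card ∣ 40320 := by
      rw [hBdef, ← hc]
      exact card_orbF_dvd K v
    have hB23 : B.card ≤ 23 := card_le_23 hxB
    have hB7 := card_inv_modEq g7 7 (by norm_num) hp7 B (hBinv g7 hg7)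
    have huB : u ∉ B := by
      intro h
      rw [hBdef] at h
      have h1 := orbF_eq_of_mem h
      apply hvA
      rw [hAdef, h1]
      exact self_mem_orbF K v
    have hdisj : Disjoint A B := by
      rw [Finset.disjoint_left]
      intro w hwA hwB
      rw [hAdef] at hwA
      rw [hBdef] at hwB
      have e1 := orbF_eq_of_mem hwA
      have e2 := orbF_eq_of_mem hwB
      apply hvA
      rw [hAdef, ← e1, e2]
      exact self_mem_orbF K v
    have eA7 : A.filter (fun i => g7 i = i) = {u} := by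
      ext i
      simp only [Finset.mem_filter, Finset.mem_singleton]
      constructor
      · rintro ⟨hi, hgi⟩
        rcases hF7 i hgi with rfl | h | rfl
        · exact absurd hi hxA
        · exact h
        · exact absurd hi hvA
      · rintro rfl
        exact ⟨huA, hu.2⟩
    have eB7 : B.filter (fun i => g7 i = i) = {v} := by
      ext i
      simp only [Finset.mem_filter, Finset.mem_singleton]
      constructor
      · rintro ⟨hi, hgi⟩
        rcases hF7 i hgi with rfl | rfl | h
        · exact absurd hi hxB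
        · exact absurd hi huB
        · exact h
      · rintro rfl
        exact ⟨hvB, hv.2⟩
    rw [eA7, Finset.card_singleton] at hA7
    rw [eB7, Finset.card_singleton] at hB7
    have hsum : A.card + B.card ≤ 23 := by
      rw [← Finset.card_union_of_disjoint hdisj]
      apply card_le_23
      rw [Finset.mem_union]
      exact fun h => h.elim hxA hxB
    rcases cases_1mod7 hA7 hA23 hAd with hA1 | hA8 | hA15
    · rcases cases_1mod7 hB7 hB23 hBd with hB1 | hB8 | hB15
      · have eA : A = {u} := by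
          obtain ⟨w, hw⟩ := Finset.card_eq_one.1 hA1
          rw [hw] at huA ⊢
          rw [Finset.mem_singleton.1 huA]
        have eB : B = {v} := by
          obtain ⟨w, hw⟩ := Finset.card_eq_one.1 hB1
          rw [hw] at hvB ⊢
          rw [Finset.mem_singleton.1 hvB]
        have h1 := card_le_of_fix3 K hK (x := x) (u := u) (v := v) hu.1.symm hv.1.symm huv
          (fun k hk => ⟨hx k hk, by
            have h2 := hAinv k hk u huA
            rw [eA] at h2
            exact Finset.mem_singleton.1 h2, by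
            have h2 := hBinv k hk v hvB
            rw [eB] at h2
            exact Finset.mem_singleton.1 h2⟩)
        omega
      · exact no_orbit8 hK hx hc B hBinv hxB hB8
      · exact no_1_15 hK hx hc A B hAinv hBinv hxA hxB hdisj hA1 hB15
    · exact no_orbit8 hK hx hc A hAinv hxA hA8
    · rcases cases_1mod7 hB7 hB23 hBd with hB1 | hB8 | hB15
      · exact no_1_15 hK hx hc B A hBinv hAinv hxB hxA hdisj.symm hB1 hA15
      · exact no_orbit8 hK hx hc B hBinv hxB hB8
      · omega

end Idx253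

/-- An element of order 11 or 23 of `M24` fixing `x` stabilises no duad off `x` and no set of
eight points. -/
theorem no_big_prime {g : Equiv.Perm GolayPt} (hg : g ∈ M24) {p : ℕ} (hp : p = 11 ∨ p = 23)
    (ho : orderOf g = p) {x : GolayPt} (hgx : g x = x) (T : Finset GolayPt)
    (hT : ∀ i ∈ T, g i ∈ T) (hcT : (T.card = 2 ∧ x ∉ T) ∨ T.card = 8) : False := by
  have hpp : p.Prime := by
    rcases hp with rfl | rfl <;> norm_num
  have hgp : g ^ p = 1 := by
    rw [← ho]
    exact pow_orderOf_eq_one g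
  have hmod := card_inv_modEq g p hpp hgp T hT
  have hle : (T.filter (fun i => g i = i)).card ≤ (Finset.univ.filter (fun i => g i = i)).card :=
    Finset.card_le_card (Finset.filter_subset_filter _ (Finset.subset_univ _))
  rcases hcT with ⟨h2, hxT⟩ | h8
  · have hle' : (T.filter (fun i => g i = i)).card + 1 ≤
        (Finset.univ.filter (fun i => g i = i)).card := by
      rw [← Finset.card_insert_of_notMem (a := x) (s := T.filter (fun i => g i = i))
        (fun h => hxT (Finset.mem_filter.1 h).1)]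
      apply Finset.card_le_card
      intro i hi
      rcases Finset.mem_insert.1 hi with rfl | hi
      · exact Finset.mem_filter.2 ⟨Finset.mem_univ _, hgx⟩
      · exact Finset.mem_filter.2 ⟨Finset.mem_univ _, (Finset.mem_filter.1 hi).2⟩
    rcases hp with rfl | rfl
    · have := fix11 hg ho
      omega
    · have := fix23 hg ho
      omega
  · rcases hp with rfl | rfl
    · have := fix11 hg ho
      omega
    · have := fix23 hg ho
      omega

end Cfsg.Agent.Lib.Helper26
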