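import Cfsg.Agent.Lib.Helper26.OrbTools2
import Cfsg.Agent.Lib.Helper26.M23Idx
import Cfsg.Agent.Lib.Helper26.L23Max
import Cfsg.Agent.Lib.Helper6.M24Fix
import Cfsg.Agent.Lib.Helper6.M24Nrm11
import Cfsg.Agent.Lib.Helper7.GolaySimple
import Cfsg.Agent.Lib.Helper7.GolayM24

set_option autoImplicit false
open scoped Pointwise
open Cfsg

namespace Cfsg.Agent.Lib.Helper26

open Cfsg.Agent.Lib

/-- A subgroup of `M24` fixing four points has order dividing 960. -/
theorem card_dvd_of_fix4 (K : Subgroup (Equiv.Perm GolayPt)) (hK : K ≤ M24) {a b c d : GolayPt}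
    (hab : a ≠ b) (hac : a ≠ c) (had : a ≠ d) (hbc : b ≠ c) (hbd : b ≠ d) (hcd : c ≠ d)
    (h : ∀ k ∈ K, k a = a ∧ k b = b ∧ k c = c ∧ k d = d) : Nat.card K ∣ 960 := by
  obtain ⟨t, ht, h1, h2, h3, h4⟩ := Helper7.M24_trans4 (x1 := a) (x2 := b) (x3 := c) (x4 := d)
    (y1 := Helper7.pt 23) (y2 := Helper7.pt 0) (y3 := Helper7.pt 1) (y4 := Helper7.pt 2)
    hab hac had hbc hbd hcd
    (by decide) (by decide) (by decide) (by decide) (by decide) (by decide)
  rw [← Helper7.card_fixSub4]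
  have hle : K.map (MulAut.conj t).toMonoidHom ≤ Helper7.fixSub 8388615 := by
    rintro _ ⟨k, hk, rfl⟩
    obtain ⟨ka, kb, kc, kd⟩ := h k hk
    show t * k * t⁻¹ ∈ _
    refine ⟨M24.mul_mem (M24.mul_mem ht (hK hk)) (M24.inv_mem ht), ?_⟩
    have e23 : (t * k * t⁻¹) (Helper7.pt 23) = Helper7.pt 23 := by
      rw [← h1]
      simp [ka]
    have e0 : (t * k * t⁻¹) (Helper7.pt 0) = Helper7.pt 0 := by
      rw [← h2]
      simp [kb]
    have e1 : (t * k * t⁻¹) (Helper7.pt 1) = Helper7.pt 1 := by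
      rw [← h3]
      simp [kc]
    have e2 : (t * k * t⁻¹) (Helper7.pt 2) = Helper7.pt 2 := by
      rw [← h4]
      simp [kd]
    intro i hi hF
    have hcases : ∀ i < 24, Nat.testBit 8388615 i = true → i = 0 ∨ i = 1 ∨ i = 2 ∨ i = 23 := by
      decide
    rcases hcases i hi hF with rfl | rfl | rfl | rfl <;> assumption
  have h5 := Subgroup.card_dvd_of_le hle
  rwa [Subgroup.card_map_of_injective (MulAut.conj t).injective] at h5

/-- Orbits of a subgroup of a three-point stabiliser whose order is divisible by nine have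
sizes divisible by three. -/
theorem three_dvd_orb (L : Subgroup (Equiv.Perm GolayPt)) (hL : L ≤ M24) {a b c y : GolayPt}
    (hab : a ≠ b) (hac : a ≠ c) (hbc : b ≠ c) (hya : y ≠ a) (hyb : y ≠ b) (hyc : y ≠ c)
    (h : ∀ k ∈ L, k a = a ∧ k b = b ∧ k c = c) (h9 : 9 ∣ Nat.card L) :
    3 ∣ (orbF L y).card := by
  have h1 := card_stabP_mul L y
  have h2 : Nat.card (stabP L y) ∣ 960 := by
    apply card_dvd_of_fix4 (stabP L y) ((stabP_le L y).trans hL) hab hac hya.symm hbc hyb.symm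
      hyc.symm
    intro k hk
    obtain ⟨hk1, hk2⟩ := mem_stabP.1 hk
    obtain ⟨ka, kb, kc⟩ := h k hk1
    exact ⟨ka, kb, kc, hk2⟩
  by_contra h3
  have hcop : Nat.Coprime (3 ^ 2) (orbF L y).card :=
    Nat.Coprime.pow_left 2 ((Nat.Prime.coprime_iff_not_dvd Nat.prime_three).2 h3)
  rw [← h1] at h9
  have h4 : 3 ^ 2 ∣ Nat.card (stabP L y) := hcop.dvd_of_dvd_mul_right h9
  have h5 := dvd_trans h4 h2
  omega

/-- The order of a two-point stabiliser. -/
theorem card_stab2 {p q : GolayPt} (hpq : p ≠ q) :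
    Nat.card ↥(MulAction.stabilizer M24 p ⊓ MulAction.stabilizer M24 q) = 443520 := by
  obtain ⟨t, ht, h1, h2⟩ := Helper7.M24_trans2 (x1 := p) (x2 := q) (y1 := Helper7.pt 23)
    (y2 := Helper7.pt 0) hpq (by decide)
  rw [← Helper7.card_fixSub2]
  have hcases : ∀ i < 24, Nat.testBit 8388609 i = true → i = 0 ∨ i = 23 := by decide
  have hinv1 : t⁻¹ (Helper7.pt 23) = p := by
    rw [← h1]
    simp
  have hinv0 : t⁻¹ (Helper7.pt 0) = q := by
    rw [← h2]
    simp
  have hmem : ∀ k : ↥M24, k ∈ MulAction.stabilizer M24 p ⊓ MulAction.stabilizer M24 q ↔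
      k.1 p = p ∧ k.1 q = q := by
    intro k
    rw [Subgroup.mem_inf, MulAction.mem_stabilizer_iff, MulAction.mem_stabilizer_iff]
    rfl
  have hf : ∀ k : ↥(MulAction.stabilizer M24 p ⊓ MulAction.stabilizer M24 q),
      t * k.1.1 * t⁻¹ ∈ Helper7.fixSub 8388609 := by
    intro k
    obtain ⟨kp, kq⟩ := (hmem k.1).1 k.2
    refine ⟨M24.mul_mem (M24.mul_mem ht k.1.2) (M24.inv_mem ht), ?_⟩
    intro i hi hF
    rcases hcases i hi hF with rfl | rfl
    · rw [Equiv.Perm.mul_apply, Equiv.Perm.mul_apply, hinv0, kq, h2]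
    · rw [Equiv.Perm.mul_apply, Equiv.Perm.mul_apply, hinv1, kp, h1]
  have hg1 : ∀ k : ↥(Helper7.fixSub 8388609), t⁻¹ * k.1 * t ∈ M24 :=
    fun k => M24.mul_mem (M24.mul_mem (M24.inv_mem ht) k.2.1) ht
  have hg2 : ∀ k : ↥(Helper7.fixSub 8388609), (⟨t⁻¹ * k.1 * t, hg1 k⟩ : ↥M24) ∈
      MulAction.stabilizer M24 p ⊓ MulAction.stabilizer M24 q := by
    intro k
    rw [hmem]
    constructor
    · show (t⁻¹ * k.1 * t) p = p
      rw [Equiv.Perm.mul_apply, Equiv.Perm.mul_apply, h1, k.2.2 23 (by norm_num) (by decide),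
        hinv1]
    · show (t⁻¹ * k.1 * t) q = q
      rw [Equiv.Perm.mul_apply, Equiv.Perm.mul_apply, h2, k.2.2 0 (by norm_num) (by decide),
        hinv0]
  exact Nat.card_congr
    { toFun := fun k => ⟨t * k.1.1 * t⁻¹, hf k⟩
      invFun := fun k => ⟨⟨t⁻¹ * k.1 * t, hg1 k⟩, hg2 k⟩
      left_inv := fun k => by
        apply Subtype.ext
        apply Subtype.ext
        show t⁻¹ * (t * k.1.1 * t⁻¹) * t = k.1.1
        group
      right_inv := fun k => by
        apply Subtype.ext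
        show t * (t⁻¹ * k.1 * t) * t⁻¹ = k.1
        group }

/-- No subgroup of order 2112 in `M24`. -/
theorem no_card_2112 (K' : Subgroup ↥M24) (hc : Nat.card K' = 2112) : False := by
  have : Fact (Nat.Prime 11) := ⟨by norm_num⟩
  obtain ⟨g, hg⟩ := exists_prime_orderOf_dvd_card' (G := ↥K') 11 (by rw [hc]; norm_num)
  have hT : Nat.card (Subgroup.zpowers (g.1 : ↥M24)) = 11 := by
    rw [Nat.card_zpowers, Subgroup.orderOf_coe]
    exact hg
  have hTK : Subgroup.zpowers (g.1 : ↥M24) ≤ K' := by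
    rw [Subgroup.zpowers_le]
    exact g.2
  obtain ⟨n, hn1, hn2⟩ := sylow_count K' (Subgroup.zpowers (g.1 : ↥M24)) hTK 11 hT
    (by rw [hc]; norm_num)
  have h110 := Helper6.N11.card_normalizer _ hT
  have hdvd : Nat.card ↥(Subgroup.normalizer
      ((Subgroup.zpowers (g.1 : ↥M24) : Subgroup ↥M24) : Set ↥M24) ⊓ K') ∣ 110 := by
    rw [← h110]
    exact Subgroup.card_dvd_of_le inf_le_left
  rw [hc] at hn2
  obtain ⟨m, hm⟩ : ∃ m, m = Nat.card ↥(Subgroup.normalizer
      ((Subgroup.zpowers (g.1 : ↥M24) : Subgroup ↥M24) : Set ↥M24) ⊓ K') := ⟨_, rfl⟩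
  rw [← hm] at hdvd hn2
  have hm' : m ∈ Nat.divisors 110 := Nat.mem_divisors.2 ⟨hdvd, by norm_num⟩
  have hdiv : Nat.divisors 110 = {1, 2, 5, 10, 11, 22, 55, 110} := by decide
  rw [hdiv] at hm'
  simp only [Finset.mem_insert, Finset.mem_singleton] at hm'
  rcases hm' with rfl | rfl | rfl | rfl | rfl | rfl | rfl | rfl <;> omega

end Cfsg.Agent.Lib.Helper26
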