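import Cfsg.Agent.Lib.Helper26.M22Idx

set_option autoImplicit false
open scoped Pointwise
open Cfsg

namespace Cfsg.Agent.Lib.Helper26

open Cfsg.Agent.Lib

/-- The 22 points off `p` and `q`. -/
def W22 (p q : GolayPt) : Finset GolayPt := Finset.univ \ {p, q}

theorem mem_W22 {p q x : GolayPt} : x ∈ W22 p q ↔ x ≠ p ∧ x ≠ q := by
  unfold W22
  simp

theorem card_W22 {p q : GolayPt} (hpq : p ≠ q) : (W22 p q).card = 22 := by
  unfold W22
  rw [Finset.card_univ_sdiff, fcard_golayPt, Finset.card_pair hpq]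

/-- A subgroup of order 7920 of the stabiliser of two points. -/
structure M22Sub (p q : GolayPt) (K : Subgroup (Equiv.Perm GolayPt)) : Prop where
  hpq : p ≠ q
  hK : K ≤ M24
  hp : ∀ k ∈ K, k p = p
  hq : ∀ k ∈ K, k q = q
  hc : Nat.card K = 7920

variable {p q : GolayPt} {K : Subgroup (Equiv.Perm GolayPt)}

theorem M22Sub.invW (h : M22Sub p q K) : InvSet K (W22 p q) := by
  unfold W22
  have h1 := ((invSet_singleton h.hp).union (invSet_singleton h.hq)).compl
  rwa [Finset.insert_eq]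

theorem M22Sub.stab_fix (h : M22Sub p q K) {x : GolayPt} :
    ∀ k ∈ stabP K x, k p = p ∧ k q = q ∧ k x = x := by
  intro k hk
  obtain ⟨hk1, hk2⟩ := mem_stabP.1 hk
  exact ⟨h.hp k hk1, h.hq k hk1, hk2⟩

theorem M22Sub.card3 (h : M22Sub p q K) {x : GolayPt} (hx : x ∈ W22 p q) :
    ({p, q, x} : Finset GolayPt).card = 3 := by
  have hxW := mem_W22.1 hx
  rw [Finset.card_insert_of_notMem, Finset.card_pair hxW.2.symm]
  rw [Finset.mem_insert, Finset.mem_singleton]
  exact fun e => e.elim h.hpq hxW.1.symm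

theorem M22Sub.sub3 (h : M22Sub p q K) {x : GolayPt} {g : Equiv.Perm GolayPt}
    (hg : g ∈ stabP K x) : ({p, q, x} : Finset GolayPt) ⊆ Finset.univ.filter (fun i => g i = i) := by
  obtain ⟨h1, h2, h3⟩ := h.stab_fix g hg
  intro i hi
  rw [Finset.mem_insert, Finset.mem_insert, Finset.mem_singleton] at hi
  rcases hi with rfl | rfl | rfl
  · exact Finset.mem_filter.2 ⟨Finset.mem_univ _, h1⟩
  · exact Finset.mem_filter.2 ⟨Finset.mem_univ _, h2⟩
  · exact Finset.mem_filter.2 ⟨Finset.mem_univ _, h3⟩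

/-- Orbits on the 22 points have size 11 or 22. -/
theorem M22Sub.orb_card (h : M22Sub p q K) {a : GolayPt} (ha : a ∈ W22 p q) :
    (orbF K a).card = 11 ∨ (orbF K a).card = 22 := by
  have : Fact (Nat.Prime 11) := ⟨by norm_num⟩
  obtain ⟨g', ho'⟩ := exists_prime_orderOf_dvd_card' (G := ↥K) 11 (by rw [h.hc]; norm_num)
  obtain ⟨g, hg, ho⟩ : ∃ g ∈ K, orderOf g = 11 :=
    ⟨g'.1, g'.2, by rw [Subgroup.orderOf_coe]; exact ho'⟩
  have f11 := fix11 (h.hK hg) ho
  have hgp : g ^ 11 = 1 := by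
    rw [← ho]
    exact pow_orderOf_eq_one _
  have hsub : orbF K a ⊆ W22 p q := orbF_subset_of_inv h.invW ha
  have hmod := card_inv_modEq g 11 (by norm_num) hgp (orbF K a) (invSet_orbF K a g hg)
  have hfix : (orbF K a).filter (fun i => g i = i) = ∅ := by
    have hpqF : ({p, q} : Finset GolayPt) ⊆ Finset.univ.filter (fun i => g i = i) := by
      intro i hi
      rw [Finset.mem_insert, Finset.mem_singleton] at hi
      rcases hi with rfl | rfl
      · exact Finset.mem_filter.2 ⟨Finset.mem_univ _, h.hp g hg⟩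
      · exact Finset.mem_filter.2 ⟨Finset.mem_univ _, h.hq g hg⟩
    have heq : ({p, q} : Finset GolayPt) = Finset.univ.filter (fun i => g i = i) :=
      Finset.eq_of_subset_of_card_le hpqF (by rw [f11, Finset.card_pair h.hpq])
    rw [Finset.eq_empty_iff_forall_notMem]
    intro i hi
    rw [Finset.mem_filter] at hi
    have h1 : i ∈ ({p, q} : Finset GolayPt) := by
      rw [heq]
      exact Finset.mem_filter.2 ⟨Finset.mem_univ _, hi.2⟩
    have h2 := mem_W22.1 (hsub hi.1)
    rw [Finset.mem_insert, Finset.mem_singleton] at h1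
    exact h1.elim h2.1 h2.2
  rw [hfix, Finset.card_empty] at hmod
  have hle : (orbF K a).card ≤ 22 := by
    have h1 := Finset.card_le_card hsub
    rw [card_W22 h.hpq] at h1
    exact h1
  have hpos : 0 < (orbF K a).card := Finset.card_pos.2 ⟨a, self_mem_orbF K a⟩
  omega

/-- Two orbits of size 11 are impossible. -/
theorem M22Sub.no_orb11 (h : M22Sub p q K) {a : GolayPt} (ha : a ∈ W22 p q)
    (h11 : (orbF K a).card = 11) : False := by
  have hL : Nat.card (stabP K a) = 720 := by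
    have h1 := card_stabP_mul K a
    rw [h11, h.hc] at h1
    omega
  have hsub : orbF K a ⊆ W22 p q := orbF_subset_of_inv h.invW ha
  have hBinv : InvSet (stabP K a) (W22 p q \ orbF K a) :=
    (h.invW.sdiff (invSet_orbF K a)).mono (stabP_le K a)
  have hBc : (W22 p q \ orbF K a).card = 11 := by
    rw [Finset.card_sdiff_of_subset hsub, card_W22 h.hpq, h11]
  have hap := mem_W22.1 ha
  have h3 : ∀ b ∈ W22 p q \ orbF K a, 3 ∣ (orbF (stabP K a) b).card := by
    intro b hb
    rw [Finset.mem_sdiff] at hb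
    have hbW := mem_W22.1 hb.1
    have hba : b ≠ a := fun e => hb.2 (e ▸ self_mem_orbF K a)
    exact three_dvd_orb (stabP K a) ((stabP_le K a).trans h.hK) h.hpq hap.1.symm hap.2.symm
      hbW.1 hbW.2 hba h.stab_fix (by rw [hL]; norm_num)
  have h4 := dvd_card_of_dvd_orbits (stabP K a) 3 _ _ rfl hBinv h3
  rw [hBc] at h4
  omega

theorem M22Sub.card_stab (h : M22Sub p q K) (hW : ∀ x ∈ W22 p q, orbF K x = W22 p q)
    {x : GolayPt} (hx : x ∈ W22 p q) : Nat.card (stabP K x) = 360 := by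
  have h1 := card_stabP_mul K x
  rw [hW x hx, card_W22 h.hpq, h.hc] at h1
  omega

/-- Sizes of the orbits of a point stabiliser, read off from an element of order five. -/
theorem M22Sub.orb_five (h : M22Sub p q K) (hW : ∀ x ∈ W22 p q, orbF K x = W22 p q)
    {x : GolayPt} (hx : x ∈ W22 p q) {g5 : Equiv.Perm GolayPt} (hg5 : g5 ∈ stabP K x)
    (ho5 : orderOf g5 = 5) {y : GolayPt} (hy : y ∈ W22 p q) (hyx : y ≠ x) :
    ((∃ w ∈ orbF (stabP K x) y, g5 w = w) → (orbF (stabP K x) y).card = 6) ∧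
      ((∀ w ∈ orbF (stabP K x) y, g5 w ≠ w) → (orbF (stabP K x) y).card = 15) := by
  have hxW := mem_W22.1 hx
  have hyW := mem_W22.1 hy
  have hLc := h.card_stab hW hx
  have hfixL := h.stab_fix (x := x)
  obtain ⟨hg5K, hg5x⟩ := mem_stabP.1 hg5
  have f5 := fix5 (h.hK hg5K) ho5
  have hgp : g5 ^ 5 = 1 := by
    rw [← ho5]
    exact pow_orderOf_eq_one _
  obtain ⟨D, hD⟩ : ∃ D, D = orbF (stabP K x) y := ⟨_, rfl⟩
  rw [← hD]
  have hDinv : InvSet (stabP K x) D := hD ▸ invSet_orbF _ _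
  have hpD : p ∉ D := hD ▸ not_mem_orbF_of_fix (fun k hk => (hfixL k hk).1) hyW.1
  have hqD : q ∉ D := hD ▸ not_mem_orbF_of_fix (fun k hk => (hfixL k hk).2.1) hyW.2
  have hxD : x ∉ D := hD ▸ not_mem_orbF_of_fix (fun k hk => (hfixL k hk).2.2) hyx
  have h3 : 3 ∣ D.card := hD ▸ three_dvd_orb (stabP K x) ((stabP_le K x).trans h.hK) h.hpq
    hxW.1.symm hxW.2.symm hyW.1 hyW.2 hyx hfixL (by rw [hLc]; norm_num)
  have hdvd : D.card ∣ 360 := by
    rw [← hLc, hD]
    exact card_orbF_dvd _ _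
  have hpos : 0 < D.card := Finset.card_pos.2 ⟨y, hD ▸ self_mem_orbF _ y⟩
  have hmod := card_inv_modEq g5 5 (by norm_num) hgp D (hDinv g5 hg5)
  have hle1 : (D.filter (fun i => g5 i = i)).card ≤ 1 := by
    have hs : D.filter (fun i => g5 i = i) ⊆
        (Finset.univ.filter (fun i => g5 i = i)) \ {p, q, x} := by
      intro i hi
      rw [Finset.mem_filter] at hi
      rw [Finset.mem_sdiff, Finset.mem_filter, Finset.mem_insert, Finset.mem_insert,
        Finset.mem_singleton]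
      refine ⟨⟨Finset.mem_univ _, hi.2⟩, ?_⟩
      rintro (rfl | rfl | rfl)
      · exact hpD hi.1
      · exact hqD hi.1
      · exact hxD hi.1
    have h1 := Finset.card_le_card hs
    rw [Finset.card_sdiff_of_subset (h.sub3 hg5), f5, h.card3 hx] at h1
    exact h1
  have hle21 : D.card ≤ 21 := by
    have hs : D ⊆ (W22 p q).erase x := by
      intro i hi
      rw [Finset.mem_erase, mem_W22]
      exact ⟨fun e => hxD (e ▸ hi), fun e => hpD (e ▸ hi), fun e => hqD (e ▸ hi)⟩
    have h1 := Finset.card_le_card hs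
    rw [Finset.card_erase_of_mem hx, card_W22 h.hpq] at h1
    exact h1
  constructor
  · rintro ⟨w, hw, hgw⟩
    have h1 : 0 < (D.filter (fun i => g5 i = i)).card :=
      Finset.card_pos.2 ⟨w, Finset.mem_filter.2 ⟨hw, hgw⟩⟩
    have h2 : (D.filter (fun i => g5 i = i)).card = 1 := by omega
    rw [h2] at hmod
    obtain ⟨n, hn⟩ : ∃ n, n = D.card := ⟨_, rfl⟩
    rw [← hn] at hmod h3 hdvd hle21 hpos ⊢
    interval_cases n <;> omega
  · intro hno
    have h2 : (D.filter (fun i => g5 i = i)).card = 0 := by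
      rw [Finset.card_eq_zero, Finset.eq_empty_iff_forall_notMem]
      intro w hw
      rw [Finset.mem_filter] at hw
      exact hno w hw.1 hw.2
    rw [h2] at hmod
    omega

/-- The suborbit of size six. -/
noncomputable def nbr (K : Subgroup (Equiv.Perm GolayPt)) (x : GolayPt) : Finset GolayPt :=
  Finset.univ.filter (fun y => (orbF (stabP K x) y).card = 6)

theorem mem_nbr {x y : GolayPt} : y ∈ nbr K x ↔ (orbF (stabP K x) y).card = 6 := by
  unfold nbr
  simp

theorem nbr_equiv {k : Equiv.Perm GolayPt} (hk : k ∈ K) (x y : GolayPt) :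
    k y ∈ nbr K (k x) ↔ y ∈ nbr K x := by
  rw [mem_nbr, mem_nbr, card_orbF_stabP_conj hk]

theorem nbr_image {k : Equiv.Perm GolayPt} (hk : k ∈ K) (x : GolayPt) :
    nbr K (k x) = (nbr K x).image k := by
  ext w
  rw [Finset.mem_image]
  constructor
  · intro hw
    refine ⟨k⁻¹ w, ?_, by simp⟩
    rw [← nbr_equiv hk]
    simpa using hw
  · rintro ⟨y, hy, rfl⟩
    exact (nbr_equiv hk x y).2 hy

theorem M22Sub.nbr_sub (h : M22Sub p q K) (hW : ∀ x ∈ W22 p q, orbF K x = W22 p q)
    {x y : GolayPt} (hy : y ∈ nbr K x) : x ∈ W22 p q ∧ y ∈ W22 p q ∧ y ≠ x := by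
  rw [mem_nbr] at hy
  have hfixL := h.stab_fix (x := x)
  have hyp : y ≠ p := by
    rintro rfl
    rw [orbF_eq_singleton (fun k hk => (hfixL k hk).1), Finset.card_singleton] at hy
    omega
  have hyq : y ≠ q := by
    rintro rfl
    rw [orbF_eq_singleton (fun k hk => (hfixL k hk).2.1), Finset.card_singleton] at hy
    omega
  have hyx : y ≠ x := by
    rintro rfl
    rw [orbF_eq_singleton (fun k hk => (hfixL k hk).2.2), Finset.card_singleton] at hy
    omega
  have hyW : y ∈ W22 p q := mem_W22.2 ⟨hyp, hyq⟩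
  refine ⟨mem_W22.2 ⟨?_, ?_⟩, hyW, hyx⟩
  · rintro rfl
    have e : stabP K x = K :=
      le_antisymm (stabP_le K x) (fun k hk => mem_stabP.2 ⟨hk, h.hp k hk⟩)
    rw [e, hW y hyW, card_W22 h.hpq] at hy
    omega
  · rintro rfl
    have e : stabP K x = K :=
      le_antisymm (stabP_le K x) (fun k hk => mem_stabP.2 ⟨hk, h.hq k hk⟩)
    rw [e, hW y hyW, card_W22 h.hpq] at hy
    omega

/-- The suborbits of a point stabiliser: one of size six, the rest of size fifteen. -/
theorem M22Sub.subdeg (h : M22Sub p q K) (hW : ∀ x ∈ W22 p q, orbF K x = W22 p q)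
    {x : GolayPt} (hx : x ∈ W22 p q) :
    ∃ xs, nbr K x = orbF (stabP K x) xs ∧ (nbr K x).card = 6 ∧ x ∈ nbr K xs ∧
      ∀ y ∈ W22 p q, y ≠ x → y ∉ nbr K x → (orbF (stabP K x) y).card = 15 := by
  have : Fact (Nat.Prime 5) := ⟨by norm_num⟩
  have hLc := h.card_stab hW hx
  obtain ⟨g', ho'⟩ := exists_prime_orderOf_dvd_card' (G := ↥(stabP K x)) 5
    (by rw [hLc]; norm_num)
  obtain ⟨g5, hg5, ho5⟩ : ∃ g ∈ stabP K x, orderOf g = 5 :=
    ⟨g'.1, g'.2, by rw [Subgroup.orderOf_coe]; exact ho'⟩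
  obtain ⟨hg5K, hg5x⟩ := mem_stabP.1 hg5
  have hxW := mem_W22.1 hx
  have f5 := fix5 (h.hK hg5K) ho5
  have hfixL := h.stab_fix (x := x)
  have hc1 : ((Finset.univ.filter (fun i => g5 i = i)) \ {p, q, x}).card = 1 := by
    rw [Finset.card_sdiff_of_subset (h.sub3 hg5), f5, h.card3 hx]
  obtain ⟨xs, hxs⟩ := Finset.card_eq_one.1 hc1
  have hxs' : xs ∈ (Finset.univ.filter (fun i => g5 i = i)) \ {p, q, x} := by
    rw [hxs]
    exact Finset.mem_singleton_self _
  rw [Finset.mem_sdiff, Finset.mem_filter, Finset.mem_insert, Finset.mem_insert,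
    Finset.mem_singleton] at hxs'
  obtain ⟨⟨-, hgxs⟩, hne⟩ := hxs'
  have hne1 : xs ≠ p := fun e => hne (Or.inl e)
  have hne2 : xs ≠ q := fun e => hne (Or.inr (Or.inl e))
  have hne3 : xs ≠ x := fun e => hne (Or.inr (Or.inr e))
  have hxsW : xs ∈ W22 p q := mem_W22.2 ⟨hne1, hne2⟩
  have huniq : ∀ w, g5 w = w → w ≠ p → w ≠ q → w ≠ x → w = xs := by
    intro w hw h1 h2 h3
    have h4 : w ∈ (Finset.univ.filter (fun i => g5 i = i)) \ {p, q, x} := by
      rw [Finset.mem_sdiff, Finset.mem_filter, Finset.mem_insert, Finset.mem_insert,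
        Finset.mem_singleton]
      exact ⟨⟨Finset.mem_univ _, hw⟩, fun e => e.elim h1 (fun e => e.elim h2 h3)⟩
    rw [hxs] at h4
    exact Finset.mem_singleton.1 h4
  have h6 : (orbF (stabP K x) xs).card = 6 :=
    (h.orb_five hW hx hg5 ho5 hxsW hne3).1 ⟨xs, self_mem_orbF _ xs, hgxs⟩
  have h15 : ∀ y ∈ W22 p q, y ≠ x → y ∉ orbF (stabP K x) xs →
      (orbF (stabP K x) y).card = 15 := by
    intro y hy hyx hyn
    apply (h.orb_five hW hx hg5 ho5 hy hyx).2
    intro w hw hgw
    have hyW := mem_W22.1 hy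
    have hwp : w ≠ p := fun e =>
      not_mem_orbF_of_fix (fun k hk => (hfixL k hk).1) hyW.1 (e ▸ hw)
    have hwq : w ≠ q := fun e =>
      not_mem_orbF_of_fix (fun k hk => (hfixL k hk).2.1) hyW.2 (e ▸ hw)
    have hwx : w ≠ x := fun e =>
      not_mem_orbF_of_fix (fun k hk => (hfixL k hk).2.2) hyx (e ▸ hw)
    have h4 := huniq w hgw hwp hwq hwx
    rw [h4] at hw
    apply hyn
    rw [orbF_eq_of_mem hw]
    exact self_mem_orbF _ y
  have hnbr : nbr K x = orbF (stabP K x) xs := by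
    ext y
    rw [mem_nbr]
    constructor
    · intro hy6
      by_contra hyn
      have hyy := h.nbr_sub hW (mem_nbr.2 hy6)
      have h4 := h15 y hyy.2.1 hyy.2.2 hyn
      omega
    · intro hy
      rw [orbF_eq_of_mem hy]
      exact h6
  refine ⟨xs, hnbr, by rw [hnbr]; exact h6, ?_, ?_⟩
  · rw [mem_nbr]
    have hg5' : g5 ∈ stabP K xs := mem_stabP.2 ⟨hg5K, hgxs⟩
    exact (h.orb_five hW hxsW hg5' ho5 hx (Ne.symm hne3)).1 ⟨x, self_mem_orbF _ x, hg5x⟩
  · intro y hy hyx hyn
    exact h15 y hy hyx (by rw [← hnbr]; exact hyn)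

theorem M22Sub.nbr_symm (h : M22Sub p q K) (hW : ∀ x ∈ W22 p q, orbF K x = W22 p q)
    {x y : GolayPt} (hy : y ∈ nbr K x) : x ∈ nbr K y := by
  have hx := (h.nbr_sub hW hy).1
  obtain ⟨xs, hnbr, -, hxxs, -⟩ := h.subdeg hW hx
  rw [hnbr] at hy
  obtain ⟨k, hk, rfl⟩ := mem_orbF.1 hy
  obtain ⟨hkK, hkx⟩ := mem_stabP.1 hk
  have h1 := (nbr_equiv hkK xs x).2 hxxs
  rwa [hkx] at h1

theorem M22Sub.nbr_card (h : M22Sub p q K) (hW : ∀ x ∈ W22 p q, orbF K x = W22 p q)
    {x : GolayPt} (hx : x ∈ W22 p q) : (nbr K x).card = 6 := by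
  obtain ⟨xs, -, h6, -, -⟩ := h.subdeg hW hx
  exact h6

theorem M22Sub.not_self (h : M22Sub p q K) (hW : ∀ x ∈ W22 p q, orbF K x = W22 p q)
    (x : GolayPt) : x ∉ nbr K x := fun e => (h.nbr_sub hW e).2.2 rfl

theorem M22Sub.closed_sub (h : M22Sub p q K) (hW : ∀ x ∈ W22 p q, orbF K x = W22 p q)
    {x : GolayPt} (hx : x ∈ W22 p q) : insert x (nbr K x) ⊆ W22 p q := by
  intro w hw
  rcases Finset.mem_insert.1 hw with rfl | hw
  · exact hx
  · exact (h.nbr_sub hW hw).2.1

theorem M22Sub.gam_card (h : M22Sub p q K) (hW : ∀ x ∈ W22 p q, orbF K x = W22 p q)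
    {x : GolayPt} (hx : x ∈ W22 p q) : (W22 p q \ insert x (nbr K x)).card = 15 := by
  rw [Finset.card_sdiff_of_subset (h.closed_sub hW hx), card_W22 h.hpq,
    Finset.card_insert_of_notMem (h.not_self hW x), h.nbr_card hW hx]

/-- The points at distance two form a single orbit of the point stabiliser. -/
theorem M22Sub.gam_orbit (h : M22Sub p q K) (hW : ∀ x ∈ W22 p q, orbF K x = W22 p q)
    {x z : GolayPt} (hx : x ∈ W22 p q) (hz : z ∈ W22 p q) (hzx : z ≠ x) (hzn : z ∉ nbr K x) :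
    orbF (stabP K x) z = W22 p q \ insert x (nbr K x) := by
  obtain ⟨xs, hnbr, -, -, h15⟩ := h.subdeg hW hx
  have hfixL := h.stab_fix (x := x)
  apply Finset.eq_of_subset_of_card_le
  · intro w hw
    rw [Finset.mem_sdiff, Finset.mem_insert]
    refine ⟨orbF_subset_of_inv (h.invW.mono (stabP_le K x)) hz hw, ?_⟩
    rintro (rfl | hwn)
    · exact not_mem_orbF_of_fix (fun k hk => (hfixL k hk).2.2) hzx hw
    · apply hzn
      rw [hnbr] at hwn ⊢
      rw [← orbF_eq_of_mem hwn, orbF_eq_of_mem hw]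
      exact self_mem_orbF _ z
  · rw [h.gam_card hW hx, h15 z hz hzx hzn]

theorem nbr_inter_conj {k : Equiv.Perm GolayPt} (hk : k ∈ K) (x y : GolayPt) :
    (nbr K (k x) ∩ nbr K (k y)).card = (nbr K x ∩ nbr K y).card := by
  rw [nbr_image hk, nbr_image hk, ← Finset.image_inter _ _ k.injective,
    Finset.card_image_of_injective _ k.injective]

/-- The intersection numbers. -/
theorem M22Sub.params (h : M22Sub p q K) (hW : ∀ x ∈ W22 p q, orbF K x = W22 p q) :
    ∃ lam mu : ℕ, (∀ x y, y ∈ nbr K x → (nbr K x ∩ nbr K y).card = lam) ∧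
      (∀ x ∈ W22 p q, ∀ z ∈ W22 p q, z ≠ x → z ∉ nbr K x →
        (nbr K x ∩ nbr K z).card = mu) := by
  obtain ⟨x0, hx0⟩ : ∃ x, x ∈ W22 p q :=
    Finset.card_pos.1 (by rw [card_W22 h.hpq]; norm_num)
  obtain ⟨xs0, hnbr0, -, -, -⟩ := h.subdeg hW hx0
  have hxs0 : xs0 ∈ nbr K x0 := by
    rw [hnbr0]
    exact self_mem_orbF _ _
  obtain ⟨z0, hz0⟩ : ∃ z, z ∈ W22 p q \ insert x0 (nbr K x0) :=
    Finset.card_pos.1 (by rw [h.gam_card hW hx0]; norm_num)
  rw [Finset.mem_sdiff, Finset.mem_insert, not_or] at hz0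
  refine ⟨(nbr K x0 ∩ nbr K xs0).card, (nbr K x0 ∩ nbr K z0).card, ?_, ?_⟩
  · intro x y hy
    have hx := (h.nbr_sub hW hy).1
    have hx' : x ∈ orbF K x0 := by
      rw [hW x0 hx0]
      exact hx
    obtain ⟨k0, hk0, rfl⟩ := mem_orbF.1 hx'
    have h1 : k0 xs0 ∈ nbr K (k0 x0) := (nbr_equiv hk0 x0 xs0).2 hxs0
    obtain ⟨xs, hnbr, -, -, -⟩ := h.subdeg hW hx
    rw [hnbr] at h1 hy
    rw [← orbF_eq_of_mem h1] at hy
    obtain ⟨h', hh', rfl⟩ := mem_orbF.1 hy
    obtain ⟨hh'K, hh'x⟩ := mem_stabP.1 hh'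
    have h2 := nbr_inter_conj (K.mul_mem hh'K hk0) x0 xs0
    rw [Equiv.Perm.mul_apply, Equiv.Perm.mul_apply, hh'x] at h2
    exact h2
  · intro x hx z hz hzx hzn
    have hx' : x ∈ orbF K x0 := by
      rw [hW x0 hx0]
      exact hx
    obtain ⟨k0, hk0, rfl⟩ := mem_orbF.1 hx'
    have h1 : k0 z0 ∈ W22 p q := h.invW k0 hk0 z0 hz0.1
    have h2 : k0 z0 ≠ k0 x0 := fun e => hz0.2.1 (k0.injective e)
    have h3 : k0 z0 ∉ nbr K (k0 x0) := fun e => hz0.2.2 ((nbr_equiv hk0 x0 z0).1 e)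
    have h4 : z ∈ orbF (stabP K (k0 x0)) (k0 z0) := by
      rw [h.gam_orbit hW hx h1 h2 h3, ← h.gam_orbit hW hx hz hzx hzn]
      exact self_mem_orbF _ z
    obtain ⟨h', hh', rfl⟩ := mem_orbF.1 h4
    obtain ⟨hh'K, hh'x⟩ := mem_stabP.1 hh'
    have h5 := nbr_inter_conj (K.mul_mem hh'K hk0) x0 z0
    rw [Equiv.Perm.mul_apply, Equiv.Perm.mul_apply, hh'x] at h5
    exact h5

/-- The counting identity for the intersection numbers. -/
theorem M22Sub.params_eq (h : M22Sub p q K) (hW : ∀ x ∈ W22 p q, orbF K x = W22 p q)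
    {lam mu : ℕ} (hlam : ∀ x y, y ∈ nbr K x → (nbr K x ∩ nbr K y).card = lam)
    (hmu : ∀ x ∈ W22 p q, ∀ z ∈ W22 p q, z ≠ x → z ∉ nbr K x →
      (nbr K x ∩ nbr K z).card = mu) : 6 * lam + 15 * mu = 30 := by
  obtain ⟨x, hx⟩ : ∃ x, x ∈ W22 p q :=
    Finset.card_pos.1 (by rw [card_W22 h.hpq]; norm_num)
  have hc6 := h.nbr_card hW hx
  have hS1 : ∑ y : GolayPt, (nbr K x ∩ nbr K y).card = 36 := by
    have e1 : ∀ y : GolayPt, (nbr K x ∩ nbr K y).card =
        ∑ w ∈ nbr K x, (if w ∈ nbr K y then 1 else 0) := by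
      intro y
      rw [← Finset.filter_mem_eq_inter, Finset.card_filter]
    simp only [e1]
    rw [Finset.sum_comm]
    have e2 : ∀ w ∈ nbr K x, ∑ y : GolayPt, (if w ∈ nbr K y then 1 else 0) = 6 := by
      intro w hw
      rw [← Finset.card_filter]
      have e3 : Finset.univ.filter (fun y => w ∈ nbr K y) = nbr K w := by
        ext y
        rw [Finset.mem_filter]
        exact ⟨fun e => h.nbr_symm hW e.2, fun e => ⟨Finset.mem_univ _, h.nbr_symm hW e⟩⟩
      rw [e3]
      exact h.nbr_card hW (h.nbr_sub hW hw).2.1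
    rw [Finset.sum_congr rfl e2, Finset.sum_const, hc6]
    rfl
  have hS2 : ∑ y : GolayPt, (nbr K x ∩ nbr K y).card = 6 + 6 * lam + 15 * mu := by
    rw [← Finset.sum_sdiff (Finset.subset_univ (W22 p q))]
    have z1 : ∑ y ∈ Finset.univ \ W22 p q, (nbr K x ∩ nbr K y).card = 0 := by
      apply Finset.sum_eq_zero
      intro y hy
      rw [Finset.mem_sdiff] at hy
      rw [Finset.card_eq_zero, Finset.eq_empty_iff_forall_notMem]
      intro w hw
      exact hy.2 (h.nbr_sub hW (Finset.mem_inter.1 hw).2).1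
    rw [z1, zero_add, ← Finset.sum_sdiff (h.closed_sub hW hx)]
    have z2 : ∑ y ∈ W22 p q \ insert x (nbr K x), (nbr K x ∩ nbr K y).card = 15 * mu := by
      rw [Finset.sum_const_nat (m := mu), h.gam_card hW hx]
      intro z hz
      rw [Finset.mem_sdiff, Finset.mem_insert, not_or] at hz
      exact hmu x hx z hz.1 hz.2.1 hz.2.2
    have z3 : ∑ y ∈ insert x (nbr K x), (nbr K x ∩ nbr K y).card = 6 + 6 * lam := by
      rw [Finset.sum_insert (h.not_self hW x), Finset.inter_self, hc6,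
        Finset.sum_const_nat (m := lam), hc6]
      intro y hy
      exact hlam x y hy
    rw [z2, z3]
    ring
  omega

/-- The case of intersection numbers `(5, 0)`: closed neighbourhoods are blocks of size seven. -/
theorem M22Sub.no_lam5 (h : M22Sub p q K) (hW : ∀ x ∈ W22 p q, orbF K x = W22 p q)
    (hlam : ∀ x y, y ∈ nbr K x → (nbr K x ∩ nbr K y).card = 5) : False := by
  obtain ⟨x, hx⟩ : ∃ x, x ∈ W22 p q :=
    Finset.card_pos.1 (by rw [card_W22 h.hpq]; norm_num)
  have hc6 := h.nbr_card hW hx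
  have hxn := h.not_self hW x
  have hN : ∀ y ∈ nbr K x, insert y (nbr K y) = insert x (nbr K x) := by
    intro y hy
    have hyW := h.nbr_sub hW hy
    have hxy : x ∈ nbr K y := h.nbr_symm hW hy
    have hcy : (nbr K y).card = 6 := h.nbr_card hW hyW.2.1
    have hyn := h.not_self hW y
    apply Finset.eq_of_subset_of_card_le
    · have hsub : insert x (nbr K x ∩ nbr K y) ⊆ nbr K y := by
        intro w hw
        rcases Finset.mem_insert.1 hw with rfl | hw
        · exact hxy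
        · exact (Finset.mem_inter.1 hw).2
      have hcard : (insert x (nbr K x ∩ nbr K y)).card = 6 := by
        rw [Finset.card_insert_of_notMem (fun e => hxn (Finset.mem_inter.1 e).1), hlam x y hy]
      have heq := Finset.eq_of_subset_of_card_le hsub (by rw [hcard, hcy])
      intro w hw
      rcases Finset.mem_insert.1 hw with rfl | hw
      · exact Finset.mem_insert_of_mem hy
      · rw [← heq] at hw
        rcases Finset.mem_insert.1 hw with rfl | hw
        · exact Finset.mem_insert_self _ _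
        · exact Finset.mem_insert_of_mem (Finset.mem_inter.1 hw).1
    · rw [Finset.card_insert_of_notMem hxn, Finset.card_insert_of_notMem hyn, hc6, hcy]
  obtain ⟨S, hSdef⟩ : ∃ S : Subgroup (Equiv.Perm GolayPt),
      S = K ⊓ MulAction.stabilizer (Equiv.Perm GolayPt) (insert x (nbr K x)) := ⟨_, rfl⟩
  have hS : ∀ k, k ∈ S ↔ k ∈ K ∧ k • insert x (nbr K x) = insert x (nbr K x) := by
    intro k
    rw [hSdef, Subgroup.mem_inf, MulAction.mem_stabilizer_iff]
  have horb : orbF S x = insert x (nbr K x) := by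
    apply Finset.Subset.antisymm
    · intro w hw
      obtain ⟨k, hk, rfl⟩ := mem_orbF.1 hw
      have h1 := ((hS k).1 hk).2
      rw [← h1]
      exact Finset.smul_mem_smul_finset (Finset.mem_insert_self _ _)
    · intro w hw
      rcases Finset.mem_insert.1 hw with rfl | hw
      · exact self_mem_orbF S w
      · have hwW := (h.nbr_sub hW hw).2.1
        have h1 : w ∈ orbF K x := by
          rw [hW x hx]
          exact hwW
        obtain ⟨k, hk, rfl⟩ := mem_orbF.1 h1
        refine mem_orbF.2 ⟨k, (hS k).2 ⟨hk, ?_⟩, rfl⟩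
        have e : k • insert x (nbr K x) = insert (k x) (nbr K (k x)) := by
          rw [nbr_image hk, Finset.smul_finset_insert]
          rfl
        rw [e]
        exact hN (k x) hw
  have h7 : (orbF S x).card = 7 := by
    rw [horb, Finset.card_insert_of_notMem hxn, hc6]
  have hd1 := card_orbF_dvd S x
  have hd2 : Nat.card S ∣ Nat.card K := by
    rw [hSdef]
    exact Subgroup.card_dvd_of_le inf_le_left
  rw [h7] at hd1
  have h8 := dvd_trans hd1 hd2
  rw [h.hc] at h8
  omega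

/-- The case of intersection numbers `(0, 2)`: an element of order three fixes too much. -/
theorem M22Sub.no_lam0 (h : M22Sub p q K) (hW : ∀ x ∈ W22 p q, orbF K x = W22 p q)
    (hlam : ∀ x y, y ∈ nbr K x → (nbr K x ∩ nbr K y).card = 0)
    (hmu : ∀ x ∈ W22 p q, ∀ z ∈ W22 p q, z ≠ x → z ∉ nbr K x →
      (nbr K x ∩ nbr K z).card = 2) : False := by
  obtain ⟨x, hx⟩ : ∃ x, x ∈ W22 p q :=
    Finset.card_pos.1 (by rw [card_W22 h.hpq]; norm_num)
  have hxW := mem_W22.1 hx
  have hLc := h.card_stab hW hx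
  have : Fact (Nat.Prime 3) := ⟨by norm_num⟩
  obtain ⟨g', ho'⟩ := exists_prime_orderOf_dvd_card' (G := ↥(stabP K x)) 3
    (by rw [hLc]; norm_num)
  obtain ⟨g, hg, ho⟩ : ∃ g ∈ stabP K x, orderOf g = 3 :=
    ⟨g'.1, g'.2, by rw [Subgroup.orderOf_coe]; exact ho'⟩
  obtain ⟨hgK, hgx⟩ := mem_stabP.1 hg
  have hgp : g ^ 3 = 1 := by
    rw [← ho]
    exact pow_orderOf_eq_one _
  have f6 : (Finset.univ.filter (fun i => g i = i)).card = 6 := by
    obtain ⟨k, hk, h1 | h1⟩ := Helper6.Cls.ord3_cases (h.hK hgK) ho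
    · exact h1.1
    · exact absurd hgx (h1.1 x)
  have hF' : ((Finset.univ.filter (fun i => g i = i)) \ {p, q, x}).card = 3 := by
    rw [Finset.card_sdiff_of_subset (h.sub3 hg), f6, h.card3 hx]
  have hc6 := h.nbr_card hW hx
  have hinvx : ∀ i ∈ nbr K x, g i ∈ nbr K x := by
    intro i hi
    have h1 := (nbr_equiv hgK x i).2 hi
    rwa [hgx] at h1
  have hmodx := card_inv_modEq g 3 (by norm_num) hgp (nbr K x) hinvx
  rw [hc6] at hmodx
  have hsubF : (nbr K x).filter (fun i => g i = i) ⊆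
      (Finset.univ.filter (fun i => g i = i)) \ {p, q, x} := by
    intro i hi
    rw [Finset.mem_filter] at hi
    have hiW := h.nbr_sub hW hi.1
    have hi' := mem_W22.1 hiW.2.1
    rw [Finset.mem_sdiff, Finset.mem_filter, Finset.mem_insert, Finset.mem_insert,
      Finset.mem_singleton]
    exact ⟨⟨Finset.mem_univ _, hi.2⟩, fun e => e.elim hi'.1 (fun e => e.elim hi'.2 hiW.2.2)⟩
  have hle3 := Finset.card_le_card hsubF
  rw [hF'] at hle3
  have hcases : ((nbr K x).filter (fun i => g i = i)).card = 0 ∨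
      ((nbr K x).filter (fun i => g i = i)).card = 3 := by omega
  have hinv2 : ∀ u v, g u = u → g v = v → ∀ i ∈ nbr K u ∩ nbr K v, g i ∈ nbr K u ∩ nbr K v := by
    intro u v hu hv i hi
    rw [Finset.mem_inter] at hi ⊢
    constructor
    · have h1 := (nbr_equiv hgK u i).2 hi.1
      rwa [hu] at h1
    · have h1 := (nbr_equiv hgK v i).2 hi.2
      rwa [hv] at h1
  rcases hcases with h0 | h3
  · obtain ⟨a, ha⟩ : ∃ a, a ∈ (Finset.univ.filter (fun i => g i = i)) \ {p, q, x} :=
      Finset.card_pos.1 (by rw [hF']; norm_num)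
    rw [Finset.mem_sdiff, Finset.mem_filter, Finset.mem_insert, Finset.mem_insert,
      Finset.mem_singleton] at ha
    obtain ⟨⟨-, hga⟩, hne⟩ := ha
    have hne1 : a ≠ p := fun e => hne (Or.inl e)
    have hne2 : a ≠ q := fun e => hne (Or.inr (Or.inl e))
    have hne3 : a ≠ x := fun e => hne (Or.inr (Or.inr e))
    have haW : a ∈ W22 p q := mem_W22.2 ⟨hne1, hne2⟩
    have han : a ∉ nbr K x := by
      intro e
      have h1 : a ∈ (nbr K x).filter (fun i => g i = i) := Finset.mem_filter.2 ⟨e, hga⟩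
      rw [Finset.card_eq_zero] at h0
      rw [h0] at h1
      exact absurd h1 (Finset.notMem_empty _)
    have h2 := hmu x hx a haW hne3 han
    have hmod := card_inv_modEq g 3 (by norm_num) hgp _ (hinv2 x a hgx hga)
    rw [h2] at hmod
    have hle : ((nbr K x ∩ nbr K a).filter (fun i => g i = i)).card ≤
        ((nbr K x).filter (fun i => g i = i)).card :=
      Finset.card_le_card (Finset.filter_subset_filter _ Finset.inter_subset_left)
    omega
  · have heqF : (nbr K x).filter (fun i => g i = i) =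
        (Finset.univ.filter (fun i => g i = i)) \ {p, q, x} :=
      Finset.eq_of_subset_of_card_le hsubF (by rw [hF', h3])
    obtain ⟨a, ha, b, hb, hab⟩ := Finset.one_lt_card.1
      (by rw [h3]; norm_num : 1 < ((nbr K x).filter (fun i => g i = i)).card)
    rw [Finset.mem_filter] at ha hb
    have haW := (h.nbr_sub hW ha.1).2.1
    have hbW := (h.nbr_sub hW hb.1).2.1
    have hdisj : ∀ w, w ∈ nbr K x → w ∉ nbr K a := by
      intro w hw hwa
      have h1 := hlam x a ha.1
      rw [Finset.card_eq_zero] at h1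
      have hmem : w ∈ nbr K x ∩ nbr K a := Finset.mem_inter.2 ⟨hw, hwa⟩
      rw [h1] at hmem
      exact absurd hmem (Finset.notMem_empty _)
    have hban : b ∉ nbr K a := hdisj b hb.1
    have h2 := hmu a haW b hbW (Ne.symm hab) hban
    have hmod := card_inv_modEq g 3 (by norm_num) hgp _ (hinv2 a b ha.2 hb.2)
    rw [h2] at hmod
    have h2le : 1 < ((nbr K a ∩ nbr K b).filter (fun i => g i = i)).card := by
      have h4 := Finset.card_le_card
        (Finset.filter_subset (fun i => g i = i) (nbr K a ∩ nbr K b))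
      rw [h2] at h4
      omega
    obtain ⟨z, hz, hzx⟩ := Finset.exists_mem_ne h2le x
    rw [Finset.mem_filter, Finset.mem_inter] at hz
    have hzW := mem_W22.1 (h.nbr_sub hW hz.1.1).2.1
    have hzF : z ∈ (Finset.univ.filter (fun i => g i = i)) \ {p, q, x} := by
      rw [Finset.mem_sdiff, Finset.mem_filter, Finset.mem_insert, Finset.mem_insert,
        Finset.mem_singleton]
      exact ⟨⟨Finset.mem_univ _, hz.2⟩, fun e => e.elim hzW.1 (fun e => e.elim hzW.2 hzx)⟩
    rw [← heqF, Finset.mem_filter] at hzF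
    exact hdisj z hzF.1 hz.1.1

/-- The stabiliser of two points has no subgroup of order 7920. -/
theorem no_card_7920 (h : M22Sub p q K) : False := by
  obtain ⟨a, ha⟩ : ∃ a, a ∈ W22 p q :=
    Finset.card_pos.1 (by rw [card_W22 h.hpq]; norm_num)
  rcases h.orb_card ha with h11 | h22
  · exact h.no_orb11 ha h11
  · have hWa : orbF K a = W22 p q :=
      Finset.eq_of_subset_of_card_le (orbF_subset_of_inv h.invW ha)
        (by rw [h22, card_W22 h.hpq])
    have hW : ∀ x ∈ W22 p q, orbF K x = W22 p q := by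
      intro x hx
      rw [← hWa] at hx
      rw [orbF_eq_of_mem hx, hWa]
    obtain ⟨lam, mu, hlam, hmu⟩ := h.params hW
    have he := h.params_eq hW hlam hmu
    have hcases : (lam = 5 ∧ mu = 0) ∨ (lam = 0 ∧ mu = 2) := by omega
    rcases hcases with ⟨rfl, rfl⟩ | ⟨rfl, rfl⟩
    · exact h.no_lam5 hW hlam
    · exact h.no_lam0 hW hlam hmu

end Cfsg.Agent.Lib.Helper26
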