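import Cfsg.Agent.Lib.Helper26.OrbTools3
import Cfsg.Agent.Lib.Helper26.M23Idx
import Cfsg.Agent.Lib.Helper6.M24Fix
import Cfsg.Agent.Lib.Helper7.GolaySimple
import Cfsg.Agent.Lib.Helper7.GolayM24

set_option autoImplicit false
open scoped Pointwise
open Cfsg

namespace Cfsg.Agent.Lib.Helper26

open Cfsg.Agent.Lib

/-- A subgroup of `M24` fixing pointwise a set that can be moved onto the points of a mask has
order dividing the order of the mask's pointwise stabiliser. -/
theorem card_dvd_fixSub_of_fix {n : ℕ} (hn : n ≤ 5) (F : ℕ) (y : Fin n ↪ GolayPt)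
    (hy : ∀ i < 24, F.testBit i = true → ∃ j, y j = Helper7.pt i)
    (K : Subgroup (Equiv.Perm GolayPt)) (hK : K ≤ M24) (Q : Finset GolayPt) (hQ : n ≤ Q.card)
    (h : ∀ k ∈ K, ∀ i ∈ Q, k i = i) : Nat.card K ∣ Nat.card (Helper7.fixSub F) := by
  obtain ⟨x, hx⟩ := Helper7.exists_embedding_of_card (n := n) (s := Q) hQ
  obtain ⟨t, ht, htx⟩ := Helper7.M24_exists_smul_eq hn x y
  have hle : K.map (MulAut.conj t).toMonoidHom ≤ Helper7.fixSub F := by
    rintro _ ⟨k, hk, rfl⟩
    show t * k * t⁻¹ ∈ _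
    refine ⟨M24.mul_mem (M24.mul_mem ht (hK hk)) (M24.inv_mem ht), ?_⟩
    intro i hi hF
    obtain ⟨j, hj⟩ := hy i hi hF
    rw [← hj, ← htx j]
    simp [h k hk (x j) (hx j)]
  have h5 := Subgroup.card_dvd_of_le hle
  rwa [Subgroup.card_map_of_injective (MulAut.conj t).injective] at h5

theorem card_dvd_fix1 (K : Subgroup (Equiv.Perm GolayPt)) (hK : K ≤ M24) (Q : Finset GolayPt)
    (hQ : 1 ≤ Q.card) (h : ∀ k ∈ K, ∀ i ∈ Q, k i = i) : Nat.card K ∣ 10200960 := by
  rw [← Helper7.card_fixSub1]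
  exact card_dvd_fixSub_of_fix (by norm_num) 8388608
    (Helper7.embOfList [Helper7.pt 23] (by decide)) (by decide) K hK Q hQ h

theorem card_dvd_fix2 (K : Subgroup (Equiv.Perm GolayPt)) (hK : K ≤ M24) (Q : Finset GolayPt)
    (hQ : 2 ≤ Q.card) (h : ∀ k ∈ K, ∀ i ∈ Q, k i = i) : Nat.card K ∣ 443520 := by
  rw [← Helper7.card_fixSub2]
  exact card_dvd_fixSub_of_fix (by norm_num) 8388609
    (Helper7.embOfList [Helper7.pt 23, Helper7.pt 0] (by decide)) (by decide) K hK Q hQ h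

theorem card_dvd_fix3 (K : Subgroup (Equiv.Perm GolayPt)) (hK : K ≤ M24) (Q : Finset GolayPt)
    (hQ : 3 ≤ Q.card) (h : ∀ k ∈ K, ∀ i ∈ Q, k i = i) : Nat.card K ∣ 20160 := by
  rw [← Helper7.card_fixSub3]
  exact card_dvd_fixSub_of_fix (by norm_num) 8388611
    (Helper7.embOfList [Helper7.pt 23, Helper7.pt 0, Helper7.pt 1] (by decide)) (by decide)
    K hK Q hQ h

theorem card_dvd_fix4 (K : Subgroup (Equiv.Perm GolayPt)) (hK : K ≤ M24) (Q : Finset GolayPt)
    (hQ : 4 ≤ Q.card) (h : ∀ k ∈ K, ∀ i ∈ Q, k i = i) : Nat.card K ∣ 960 := by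
  rw [← Helper7.card_fixSub4]
  exact card_dvd_fixSub_of_fix (by norm_num) 8388615
    (Helper7.embOfList [Helper7.pt 23, Helper7.pt 0, Helper7.pt 1, Helper7.pt 2] (by decide))
    (by decide) K hK Q hQ h

theorem card_dvd_fix5 (K : Subgroup (Equiv.Perm GolayPt)) (hK : K ≤ M24) (Q : Finset GolayPt)
    (hQ : 5 ≤ Q.card) (h : ∀ k ∈ K, ∀ i ∈ Q, k i = i) : Nat.card K ∣ 48 := by
  rw [← Helper7.card_fixSub5]
  exact card_dvd_fixSub_of_fix (by norm_num) 8388623
    (Helper7.embOfList [Helper7.pt 23, Helper7.pt 0, Helper7.pt 1, Helper7.pt 2, Helper7.pt 3]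
      (by decide)) (by decide) K hK Q hQ h

/-- Numerical constraints on the orbit sizes of a subgroup of `M24`. -/
theorem orb_numeric (K : Subgroup (Equiv.Perm GolayPt)) (hK : K ≤ M24) (a : GolayPt) :
    (orbF K a).card < 25 ∧ (orbF K a).card ≠ 0 ∧ Nat.card K % (orbF K a).card = 0 ∧
      10200960 % (Nat.card K / (orbF K a).card) = 0 := by
  have h1 := card_stabP_mul K a
  have h2 : Nat.card (stabP K a) ∣ 10200960 :=
    card_dvd_fix1 (stabP K a) ((stabP_le K a).trans hK) {a} (by simp)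
      (fun k hk i hi => by
        rw [Finset.mem_singleton.1 hi]
        exact (mem_stabP.1 hk).2)
  have h3 : (orbF K a).card ≤ 24 := by
    have := Finset.card_le_univ (orbF K a)
    rwa [fcard_golayPt] at this
  have h4 : 0 < (orbF K a).card := Finset.card_pos.2 ⟨a, self_mem_orbF K a⟩
  refine ⟨by omega, by omega, ?_, ?_⟩
  · rw [← h1]
    exact Nat.mul_mod_left _ _
  · rw [← h1, Nat.mul_div_cancel _ h4]
    exact Nat.mod_eq_zero_of_dvd h2

/-- A nontrivial element of `M24` fixing eight points: the points form an octad. -/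
theorem octad_of_fix8 {k : Equiv.Perm GolayPt} (hk : k ∈ M24) (hne : k ≠ 1) (A : Finset GolayPt)
    (hcA : A.card = 8) (hfix : ∀ i ∈ A, k i = i) : A ∈ octads := by
  have hord : orderOf k ≠ 1 := fun h => hne (orderOf_eq_one_iff.1 h)
  obtain ⟨p, hp, hpd⟩ := Nat.exists_prime_and_dvd hord
  obtain ⟨k', hk'⟩ : ∃ k', k' = k ^ (orderOf k / p) := ⟨_, rfl⟩
  have ho : orderOf k' = p := by
    rw [hk']
    exact orderOf_pow_orderOf_div (orderOf_pos k).ne' hpd
  have hk'M : k' ∈ M24 := by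
    rw [hk']
    exact M24.pow_mem hk _
  have hfix' : ∀ i ∈ A, k' i = i := by
    intro i hi
    rw [hk']
    exact Equiv.Perm.pow_apply_eq_self_of_apply_eq_self (hfix i hi) _
  have hsub : A ⊆ Finset.univ.filter (fun i => k' i = i) :=
    fun i hi => Finset.mem_filter.2 ⟨Finset.mem_univ _, hfix' i hi⟩
  have hne' : k' ≠ 1 := by
    intro h
    rw [h, orderOf_one] at ho
    exact hp.one_lt.ne ho
  have hle := Helper6.Cls.card_fixed_le_eight hk'M hne'
  have heq : A = Finset.univ.filter (fun i => k' i = i) :=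
    Finset.eq_of_subset_of_card_le hsub (by rw [hcA]; exact hle)
  have hp2 : p = 2 := prime_of_fix8 hk'M hp ho (by rw [← heq, hcA])
  rw [hp2] at ho
  obtain ⟨h2, _⟩ := Helper6.Cls.sq_of_order_two ho
  obtain ⟨x, hx⟩ : ∃ x, x ∈ A := Finset.card_pos.1 (by rw [hcA]; norm_num)
  rw [heq]
  exact Helper6.Cls.fixed_mem_octads hk'M h2 hne' (hfix' x hx)

/-- A set of eight points invariant under a large subgroup of `M24` is an octad. -/
theorem inv8_octad (K : Subgroup (Equiv.Perm GolayPt)) (hK : K ≤ M24) (A : Finset GolayPt)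
    (hA : InvSet K A) (hcA : A.card = 8) (hc : 40320 < Nat.card K) : A ∈ octads := by
  obtain ⟨k, hk, hne, hfix⟩ := exists_fix_of_card_lt K A hA (by rw [hcA]; exact hc)
  exact octad_of_fix8 (hK hk) hne A hcA hfix

/-- A subgroup of `M24` fixing six points has order prime to six. -/
theorem no_fix6 (K : Subgroup (Equiv.Perm GolayPt)) (hK : K ≤ M24) (F : Finset GolayPt)
    (hF : F.card = 6) (h : ∀ k ∈ K, ∀ i ∈ F, k i = i) (h6 : 6 ∣ Nat.card K) : False := by
  obtain ⟨g3, hg3, ho3, hp3⟩ := exists_ord K 3 (by norm_num) (dvd_trans (by norm_num) h6)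
  obtain ⟨t, ht, ho2, hp2⟩ := exists_ord K 2 (by norm_num) (dvd_trans (by norm_num) h6)
  obtain ⟨x, hx⟩ : ∃ x, x ∈ F := Finset.card_pos.1 (by rw [hF]; norm_num)
  have hF3 : Finset.univ.filter (fun i => g3 i = i) = F := by
    have hsub : F ⊆ Finset.univ.filter (fun i => g3 i = i) :=
      fun i hi => Finset.mem_filter.2 ⟨Finset.mem_univ _, h g3 hg3 i hi⟩
    obtain ⟨k, _, ⟨h6', _⟩ | ⟨hfpf, _⟩⟩ := Helper6.Cls.ord3_cases (hK hg3) ho3
    · exact (Finset.eq_of_subset_of_card_le hsub (by rw [h6', hF])).symm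
    · exact absurd (h g3 hg3 x hx) (hfpf x)
  obtain ⟨h2, hne⟩ := Helper6.Cls.sq_of_order_two ho2
  have hO := Helper6.Cls.fixed_mem_octads (hK ht) h2 hne (h t ht x hx)
  have hsubO : F ⊆ Finset.univ.filter (fun i => t i = i) :=
    fun i hi => Finset.mem_filter.2 ⟨Finset.mem_univ _, h t ht i hi⟩
  have hconj : g3 * t * g3⁻¹ ∈ K := K.mul_mem (K.mul_mem hg3 ht) (K.inv_mem hg3)
  have h2' : (g3 * t * g3⁻¹) * (g3 * t * g3⁻¹) = 1 := by
    have : (g3 * t * g3⁻¹) * (g3 * t * g3⁻¹) = g3 * (t * t) * g3⁻¹ := by group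
    rw [this, h2]
    group
  have hne' : g3 * t * g3⁻¹ ≠ 1 := by
    intro e
    apply hne
    have : t = g3⁻¹ * (g3 * t * g3⁻¹) * g3 := by group
    rw [this, e]
    group
  have hO' := Helper6.Cls.fixed_mem_octads (hK hconj) h2' hne' (h _ hconj x hx)
  have hsubO' : F ⊆ Finset.univ.filter (fun i => (g3 * t * g3⁻¹) i = i) :=
    fun i hi => Finset.mem_filter.2 ⟨Finset.mem_univ _, h _ hconj i hi⟩
  have heq := Helper6.Golay.octad_unique hO' hO (by rw [hF]; norm_num) hsubO' hsubO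
  rw [Helper6.Cls.fixed_conj] at heq
  have hinv : ∀ i ∈ Finset.univ.filter (fun i => t i = i),
      g3 i ∈ Finset.univ.filter (fun i => t i = i) := by
    intro i hi
    have h1 : g3 • i ∈ g3 • Finset.univ.filter (fun i => t i = i) :=
      Finset.smul_mem_smul_finset hi
    rw [heq] at h1
    exact h1
  have hmod := card_inv_modEq g3 3 (by norm_num) hp3 _ hinv
  have e1 : (Finset.univ.filter (fun i => t i = i)).filter (fun i => g3 i = i) = F := by
    rw [← hF3]
    ext i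
    simp only [Finset.mem_filter, Finset.mem_univ, true_and]
    constructor
    · exact fun hi => hi.2
    · intro hi
      refine ⟨?_, hi⟩
      have : i ∈ F := by
        rw [← hF3]
        exact Finset.mem_filter.2 ⟨Finset.mem_univ _, hi⟩
      exact (Finset.mem_filter.1 (hsubO this)).2
  rw [e1, hF, Helper6.Golay.card_of_mem_octads hO] at hmod
  omega

end Cfsg.Agent.Lib.Helper26
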