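import Cfsg.Agent.Lib.Helper26.OrbTools3
import Cfsg.Agent.Lib.Helper26.M22Idx
import Cfsg.Agent.Lib.Helper26.M22Rank
import Cfsg.Agent.Lib.Helper26.M24Sub

set_option autoImplicit false

open scoped Pointwise
open Cfsg

namespace Cfsg.Agent.Lib.Helper26

open Cfsg.Agent.Lib

/-- No subgroup of order 9856 in `M24`. -/
theorem no_card_9856 (K' : Subgroup ↥M24) (hc : Nat.card K' = 9856) : False := by
  have : Fact (Nat.Prime 11) := ⟨by norm_num⟩
  obtain ⟨g, hg⟩ := exists_prime_orderOf_dvd_card' (G := ↥K') 11 (by rw [hc]; norm_num)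
  have hT : Nat.card (Subgroup.zpowers (g.1 : ↥M24)) = 11 := by
    rw [Nat.card_zpowers, Subgroup.orderOf_coe]
    exact hg
  have hTK : Subgroup.zpowers (g.1 : ↥M24) ≤ K' := by
    rw [Subgroup.zpowers_le]
    exact g.2
  obtain ⟨n, hn1, hn2⟩ := sylow_count K' (Subgroup.zpowers (g.1 : ↥M24)) hTK 11 hT
    (by rw [hc]; norm_num)
  have h110 := Helper6.N11.card_normalizer _ hT
  have hdvd : Nat.card ↥(Subgroup.normalizer
      ((Subgroup.zpowers (g.1 : ↥M24) : Subgroup ↥M24) : Set ↥M24) ⊓ K') ∣ 110 := by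
    rw [← h110]
    exact Subgroup.card_dvd_of_le inf_le_left
  rw [hc] at hn2
  obtain ⟨m, hm⟩ : ∃ m, m = Nat.card ↥(Subgroup.normalizer
      ((Subgroup.zpowers (g.1 : ↥M24) : Subgroup ↥M24) : Set ↥M24) ⊓ K') := ⟨_, rfl⟩
  rw [← hm] at hdvd hn2
  have hm' : m ∈ Nat.divisors 110 := Nat.mem_divisors.2 ⟨hdvd, by norm_num⟩
  have hdiv : Nat.divisors 110 = {1, 2, 5, 10, 11, 22, 55, 110} := by decide
  rw [hdiv] at hm'
  simp only [Finset.mem_insert, Finset.mem_singleton] at hm'
  rcases hm' with rfl | rfl | rfl | rfl | rfl | rfl | rfl | rfl <;> omega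

/-- The fixed points of an element with three fixed points. -/
theorem fix_eq_of_card {g : Equiv.Perm GolayPt} {F : Finset GolayPt}
    (hF : ∀ i ∈ F, g i = i) (hc : (Finset.univ.filter (fun i => g i = i)).card ≤ F.card)
    {x : GolayPt} (hx : g x = x) : x ∈ F := by
  have h1 : F ⊆ Finset.univ.filter (fun i => g i = i) := fun i hi =>
    Finset.mem_filter.2 ⟨Finset.mem_univ _, hF i hi⟩
  have h2 := Finset.eq_of_subset_of_card_le h1 hc
  rw [h2]
  exact Finset.mem_filter.2 ⟨Finset.mem_univ _, hx⟩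

/-- No subgroup of order 36960 in the stabiliser of two points of `M24`. -/
theorem no_card_36960 (K : Subgroup (Equiv.Perm GolayPt)) (hK : K ≤ M24) {p q : GolayPt}
    (hpq : p ≠ q) (hp : ∀ k ∈ K, k p = p) (hq : ∀ k ∈ K, k q = q)
    (hc : Nat.card K = 36960) : False := by
  classical
  have hW : InvSet K (W22 p q) := by
    unfold W22
    have h1 := ((invSet_singleton hp).union (invSet_singleton hq)).compl
    rwa [Finset.insert_eq]
  -- an element of order seven and its third fixed point
  obtain ⟨g7, hg7, ho7, hg77⟩ := exists_ord K 7 (by norm_num) (by rw [hc]; norm_num)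
  have h3 := fix7 (hK hg7) ho7
  have hsub7 : ({p, q} : Finset GolayPt) ⊆ Finset.univ.filter (fun i => g7 i = i) := by
    intro i hi
    rw [Finset.mem_insert, Finset.mem_singleton] at hi
    rw [Finset.mem_filter]
    rcases hi with h | h
    · rw [h]
      exact ⟨Finset.mem_univ _, hp g7 hg7⟩
    · rw [h]
      exact ⟨Finset.mem_univ _, hq g7 hg7⟩
  have hc1 : (Finset.univ.filter (fun i => g7 i = i) \ ({p, q} : Finset GolayPt)).card = 1 := by
    rw [Finset.card_sdiff_of_subset hsub7, h3, Finset.card_pair hpq]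
  obtain ⟨a, ha⟩ := Finset.card_eq_one.1 hc1
  have ham : a ∈ Finset.univ.filter (fun i => g7 i = i) \ ({p, q} : Finset GolayPt) := by
    rw [ha]
    exact Finset.mem_singleton_self a
  rw [Finset.mem_sdiff, Finset.mem_filter, Finset.mem_insert, Finset.mem_singleton] at ham
  obtain ⟨⟨-, hga⟩, hapq⟩ := ham
  have hap : a ≠ p := fun h => hapq (Or.inl h)
  have haq : a ≠ q := fun h => hapq (Or.inr h)
  have haW : a ∈ W22 p q := mem_W22.2 ⟨hap, haq⟩
  have hpO : p ∉ orbF K a := not_mem_orbF_of_fix hp hap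
  have hqO : q ∉ orbF K a := not_mem_orbF_of_fix hq haq
  -- the orbit of that point
  have hO7 := card_inv_modEq g7 7 (by norm_num) hg77 (orbF K a)
    (fun i hi => invSet_orbF K a g7 hg7 i hi)
  have hfilt7 : (orbF K a).filter (fun i => g7 i = i) = {a} := by
    ext x
    rw [Finset.mem_filter, Finset.mem_singleton]
    constructor
    · rintro ⟨hx, hgx⟩
      have hx' : x ∈ Finset.univ.filter (fun i => g7 i = i) \ ({p, q} : Finset GolayPt) := by
        rw [Finset.mem_sdiff, Finset.mem_filter, Finset.mem_insert, Finset.mem_singleton]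
        refine ⟨⟨Finset.mem_univ _, hgx⟩, ?_⟩
        rintro (h | h)
        · exact hpO (h ▸ hx)
        · exact hqO (h ▸ hx)
      rw [ha, Finset.mem_singleton] at hx'
      exact hx'
    · intro h
      rw [h]
      exact ⟨self_mem_orbF K a, hga⟩
  rw [hfilt7, Finset.card_singleton] at hO7
  obtain ⟨g11, hg11, ho11, hg1111⟩ := exists_ord K 11 (by norm_num) (by rw [hc]; norm_num)
  have h2 := fix11 (hK hg11) ho11
  have hO11 := card_inv_modEq g11 11 (by norm_num) hg1111 (orbF K a)
    (fun i hi => invSet_orbF K a g11 hg11 i hi)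
  have hfilt11 : (orbF K a).filter (fun i => g11 i = i) = ∅ := by
    rw [Finset.eq_empty_iff_forall_notMem]
    intro x hx
    rw [Finset.mem_filter] at hx
    have h4 : x ∈ ({p, q} : Finset GolayPt) := by
      apply fix_eq_of_card (g := g11) _ _ hx.2
      · intro i hi
        rw [Finset.mem_insert, Finset.mem_singleton] at hi
        rcases hi with h | h
        · rw [h]
          exact hp g11 hg11
        · rw [h]
          exact hq g11 hg11
      · rw [h2, Finset.card_pair hpq]
    rw [Finset.mem_insert, Finset.mem_singleton] at h4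
    rcases h4 with h | h
    · exact hpO (h ▸ hx.1)
    · exact hqO (h ▸ hx.1)
  rw [hfilt11, Finset.card_empty] at hO11
  have hOle : (orbF K a).card ≤ 22 :=
    (Finset.card_le_card (orbF_subset_of_inv hW haW)).trans (card_W22 hpq).le
  have hO22 : (orbF K a).card = 22 := by omega
  have hOW : orbF K a = W22 p q :=
    Finset.eq_of_subset_of_card_le (orbF_subset_of_inv hW haW) (by rw [hO22, card_W22 hpq])
  -- the stabiliser of that point
  have hL : Nat.card (stabP K a) = 1680 := by
    have h1 := card_stabP_mul K a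
    rw [hO22, hc] at h1
    omega
  have hLK : stabP K a ≤ K := stabP_le K a
  have hLa : ∀ k ∈ stabP K a, k a = a := fun k hk => (mem_stabP.1 hk).2
  have hLp : ∀ k ∈ stabP K a, k p = p := fun k hk => hp k (hLK hk)
  have hLq : ∀ k ∈ stabP K a, k q = q := fun k hk => hq k (hLK hk)
  have hWa : InvSet (stabP K a) ((W22 p q).erase a) := by
    intro k hk i hi
    rw [Finset.mem_erase] at hi ⊢
    exact ⟨fun h => hi.1 (k.injective (h.trans (hLa k hk).symm)), hW k (hLK hk) i hi.2⟩
  have hWac : ((W22 p q).erase a).card = 21 := by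
    rw [Finset.card_erase_of_mem haW, card_W22 hpq]
  have h3pts : ({p, q, a} : Finset GolayPt).card = 3 := by
    rw [Finset.card_insert_of_notMem, Finset.card_pair haq.symm]
    rw [Finset.mem_insert, Finset.mem_singleton]
    rintro (h | h)
    · exact hpq h
    · exact hap h.symm
  have hfix3 : ∀ k ∈ stabP K a, ∀ i ∈ ({p, q, a} : Finset GolayPt), k i = i := by
    intro k hk i hi
    rw [Finset.mem_insert, Finset.mem_insert, Finset.mem_singleton] at hi
    rcases hi with h | h | h
    · rw [h]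
      exact hLp k hk
    · rw [h]
      exact hLq k hk
    · rw [h]
      exact hLa k hk
  have hnot3 : ∀ x ∈ (W22 p q).erase a, x ∉ ({p, q, a} : Finset GolayPt) := by
    intro x hx h
    rw [Finset.mem_erase, mem_W22] at hx
    rw [Finset.mem_insert, Finset.mem_insert, Finset.mem_singleton] at h
    rcases h with h | h | h
    · exact hx.2.1 h
    · exact hx.2.2 h
    · exact hx.1 h
  -- an element of order five in it and its fourth fixed point
  obtain ⟨g5, hg5, ho5, hg55⟩ := exists_ord (stabP K a) 5 (by norm_num) (by rw [hL]; norm_num)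
  have h4 := fix5 (hK (hLK hg5)) ho5
  have hsub5 : ({p, q, a} : Finset GolayPt) ⊆ Finset.univ.filter (fun i => g5 i = i) :=
    fun i hi => Finset.mem_filter.2 ⟨Finset.mem_univ _, hfix3 g5 hg5 i hi⟩
  have hc5 : (Finset.univ.filter (fun i => g5 i = i) \ ({p, q, a} : Finset GolayPt)).card = 1 := by
    rw [Finset.card_sdiff_of_subset hsub5, h4, h3pts]
  obtain ⟨b, hb⟩ := Finset.card_eq_one.1 hc5
  have hbm : b ∈ Finset.univ.filter (fun i => g5 i = i) \ ({p, q, a} : Finset GolayPt) := by
    rw [hb]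
    exact Finset.mem_singleton_self b
  rw [Finset.mem_sdiff, Finset.mem_filter] at hbm
  obtain ⟨⟨-, hgb⟩, hb3⟩ := hbm
  have hbW : b ∈ (W22 p q).erase a := by
    rw [Finset.mem_erase, mem_W22]
    rw [Finset.mem_insert, Finset.mem_insert, Finset.mem_singleton] at hb3
    exact ⟨fun h => hb3 (Or.inr (Or.inr h)), fun h => hb3 (Or.inl h),
      fun h => hb3 (Or.inr (Or.inl h))⟩
  have hO'sub : orbF (stabP K a) b ⊆ (W22 p q).erase a := orbF_subset_of_inv hWa hbW
  have hO5 := card_inv_modEq g5 5 (by norm_num) hg55 (orbF (stabP K a) b)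
    (fun i hi => invSet_orbF _ b g5 hg5 i hi)
  have hfilt5 : (orbF (stabP K a) b).filter (fun i => g5 i = i) = {b} := by
    ext x
    rw [Finset.mem_filter, Finset.mem_singleton]
    constructor
    · rintro ⟨hx, hgx⟩
      have hx' : x ∈ Finset.univ.filter (fun i => g5 i = i) \ ({p, q, a} : Finset GolayPt) := by
        rw [Finset.mem_sdiff, Finset.mem_filter]
        exact ⟨⟨Finset.mem_univ _, hgx⟩, hnot3 x (hO'sub hx)⟩
      rw [hb, Finset.mem_singleton] at hx'
      exact hx'
    · intro h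
      rw [h]
      exact ⟨self_mem_orbF _ b, hgb⟩
  rw [hfilt5, Finset.card_singleton] at hO5
  obtain ⟨g7', hg7', ho7', hg77'⟩ := exists_ord (stabP K a) 7 (by norm_num)
    (by rw [hL]; norm_num)
  have h3' := fix7 (hK (hLK hg7')) ho7'
  have hO7' := card_inv_modEq g7' 7 (by norm_num) hg77' (orbF (stabP K a) b)
    (fun i hi => invSet_orbF _ b g7' hg7' i hi)
  have hfilt7' : (orbF (stabP K a) b).filter (fun i => g7' i = i) = ∅ := by
    rw [Finset.eq_empty_iff_forall_notMem]
    intro x hx
    rw [Finset.mem_filter] at hx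
    have h5 : x ∈ ({p, q, a} : Finset GolayPt) :=
      fix_eq_of_card (g := g7') (hfix3 g7' hg7') (by rw [h3', h3pts]) hx.2
    exact hnot3 x (hO'sub hx.1) h5
  rw [hfilt7', Finset.card_empty] at hO7'
  have hO'le : (orbF (stabP K a) b).card ≤ 21 :=
    (Finset.card_le_card hO'sub).trans hWac.le
  have hO'21 : (orbF (stabP K a) b).card = 21 := by omega
  have hO'W : orbF (stabP K a) b = (W22 p q).erase a :=
    Finset.eq_of_subset_of_card_le hO'sub (by rw [hO'21, hWac])
  -- an element of order three in it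
  obtain ⟨g3, hg3, ho3, -⟩ := exists_ord (stabP K a) 3 (by norm_num) (by rw [hL]; norm_num)
  have h6 : (Finset.univ.filter (fun i => g3 i = i)).card = 6 := by
    obtain ⟨k, -, h | h⟩ := Helper6.Cls.ord3_cases (hK (hLK hg3)) ho3
    · exact h.1
    · exact absurd (hLp g3 hg3) (h.1 p)
  have hsub3 : ({p, q, a} : Finset GolayPt) ⊆ Finset.univ.filter (fun i => g3 i = i) :=
    fun i hi => Finset.mem_filter.2 ⟨Finset.mem_univ _, hfix3 g3 hg3 i hi⟩
  obtain ⟨r, hr⟩ : (Finset.univ.filter (fun i => g3 i = i) \ ({p, q, a} : Finset GolayPt)).Nonempty := by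
    rw [← Finset.card_pos, Finset.card_sdiff_of_subset hsub3, h6, h3pts]
    norm_num
  rw [Finset.mem_sdiff, Finset.mem_filter] at hr
  obtain ⟨⟨-, hgr⟩, hr3⟩ := hr
  have hrW : r ∈ (W22 p q).erase a := by
    rw [Finset.mem_erase, mem_W22]
    rw [Finset.mem_insert, Finset.mem_insert, Finset.mem_singleton] at hr3
    exact ⟨fun h => hr3 (Or.inr (Or.inr h)), fun h => hr3 (Or.inl h),
      fun h => hr3 (Or.inr (Or.inl h))⟩
  have hrO : orbF (stabP K a) r = (W22 p q).erase a := by
    rw [← hO'W] at hrW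
    rw [orbF_eq_of_mem hrW, hO'W]
  have h80 : Nat.card (stabP (stabP K a) r) = 80 := by
    have h1 := card_stabP_mul (stabP K a) r
    rw [hrO, hWac, hL] at h1
    omega
  have hmem : g3 ∈ stabP (stabP K a) r := mem_stabP.2 ⟨hg3, hgr⟩
  have hdvd := Subgroup.orderOf_dvd_natCard (stabP (stabP K a) r) hmem
  rw [ho3, h80] at hdvd
  omega

/-- The orders excluded for the subgroups of the stabiliser of two points of `M24`. -/
theorem m22_excl (K : Subgroup (Equiv.Perm GolayPt)) (hK : K ≤ M24) {p q : GolayPt}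
    (hpq : p ≠ q) (hp : ∀ k ∈ K, k p = p) (hq : ∀ k ∈ K, k q = q) :
    Nat.card K ≠ 36960 ∧ Nat.card K ≠ 9856 ∧ Nat.card K ≠ 7920 := by
  refine ⟨fun hc => no_card_36960 K hK hpq hp hq hc, fun hc => ?_, fun hc => ?_⟩
  · exact no_card_9856 (K.subgroupOf M24)
      (by rw [Nat.card_congr (Subgroup.subgroupOfEquivOfLe hK).toEquiv, hc])
  · exact no_card_7920 (p := p) (q := q) (K := K) ⟨hpq, hK, hp, hq, hc⟩

end Cfsg.Agent.Lib.Helper26
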