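import Cfsg.Agent.Lib.Helper26.HSLeech
import Cfsg.Agent.Lib.Helper26.M22Excl
import Cfsg.Agent.Lib.Helper92.LeechM22
import Cfsg.Agent.Lib.Helper6.OutPerm2

set_option autoImplicit false
set_option linter.unusedSectionVars false

open scoped Pointwise
open Cfsg Cfsg.Spor

namespace Cfsg.Agent.Lib.Helper26

open Cfsg.Agent.Lib Cfsg.Agent.Lib.Helper92 Cfsg.Agent.Lib.Helper7

universe u

section OutCongr

variable {G G' : Type u} [Group G] [Group G']

theorem mulAut_congr_conj' (e : G ≃* G') (g : G) :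
    MulAut.congr e (MulAut.conj g) = MulAut.conj (e g) := by
  ext z
  show e (g * e.symm z * g⁻¹) = e g * z * (e g)⁻¹
  rw [map_mul, map_mul, map_inv, e.apply_symm_apply]

/-- Isomorphic groups have outer automorphism groups of the same order. -/
theorem out_card_congr (e : G ≃* G') : Nat.card (Cfsg.Out G) = Nat.card (Cfsg.Out G') := by
  have he : (Cfsg.Inn G).map (MulAut.congr e : MulAut G →* MulAut G') = Cfsg.Inn G' := by
    ext x
    constructor
    · rintro ⟨y, ⟨g, rfl⟩, rfl⟩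
      exact ⟨e g, (mulAut_congr_conj' e g).symm⟩
    · rintro ⟨g', rfl⟩
      refine ⟨MulAut.conj (e.symm g'), ⟨e.symm g', rfl⟩, ?_⟩
      show MulAut.congr e (MulAut.conj (e.symm g')) = MulAut.conj g'
      rw [mulAut_congr_conj', e.apply_symm_apply]
  exact Nat.card_congr (QuotientGroup.congr (Cfsg.Inn G) (Cfsg.Inn G') (MulAut.congr e) he).toEquiv

end OutCongr

section Norm

variable {Ω : Type*} [Fintype Ω] [DecidableEq Ω]

/-- A permutation conjugating a finite group into itself also does so in the other direction. -/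
theorem conj_inv_mem (K : Subgroup (Equiv.Perm Ω)) (π : Equiv.Perm Ω)
    (h : ∀ g ∈ K, π * g * π⁻¹ ∈ K) : ∀ g ∈ K, π⁻¹ * g * π ∈ K := by
  have hinj : Function.Injective (fun g : ↥K => (⟨π * g.1 * π⁻¹, h g.1 g.2⟩ : ↥K)) := by
    intro a b hab
    apply Subtype.ext
    have h1 : π * a.1 * π⁻¹ = π * b.1 * π⁻¹ := congrArg Subtype.val hab
    exact mul_left_cancel (mul_right_cancel h1)
  have hsurj := Finite.injective_iff_surjective.1 hinj
  intro g hg
  obtain ⟨g₀, hg₀⟩ := hsurj ⟨g, hg⟩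
  have h1 : π * g₀.1 * π⁻¹ = g := congrArg Subtype.val hg₀
  rw [← h1]
  have h2 : π⁻¹ * (π * g₀.1 * π⁻¹) * π = g₀.1 := by group
  rw [h2]
  exact g₀.2

/-- Orbit sizes of point stabilisers are preserved by the permutations normalising the group. -/
theorem card_orbF_stabP_norm {K : Subgroup (Equiv.Perm Ω)} {π : Equiv.Perm Ω}
    (h1 : ∀ g ∈ K, π * g * π⁻¹ ∈ K) (x y : Ω) :
    (orbF (stabP K (π x)) (π y)).card = (orbF (stabP K x) y).card := by
  have h2 := conj_inv_mem K π h1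
  have e : orbF (stabP K (π x)) (π y) = (orbF (stabP K x) y).image π := by
    ext z
    rw [Finset.mem_image, mem_orbF]
    constructor
    · rintro ⟨h', hh', rfl⟩
      obtain ⟨ha, hb⟩ := mem_stabP.1 hh'
      refine ⟨(π⁻¹ * h' * π) y, mem_orbF.2 ⟨π⁻¹ * h' * π, mem_stabP.2 ⟨h2 h' ha, ?_⟩, rfl⟩, ?_⟩
      · simp [hb]
      · simp
    · rintro ⟨w0, hw0, rfl⟩
      obtain ⟨h, hh, rfl⟩ := mem_orbF.1 hw0
      obtain ⟨ha, hb⟩ := mem_stabP.1 hh
      refine ⟨π * h * π⁻¹, mem_stabP.2 ⟨h1 h ha, ?_⟩, ?_⟩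
      · simp [hb]
      · simp
  rw [e, Finset.card_image_of_injective _ π.injective]

end Norm

section AutGen

variable {G Ω : Type*} [Group G] [MulAction G Ω]

/-- A group of automorphisms of a graph of index two in the full automorphism group is
normal. -/
theorem autHom_range_normal (Γ : SimpleGraph Ω)
    (i : ∀ (g : G) (x y : Ω), Γ.Adj (g • x) (g • y) ↔ Γ.Adj x y)
    (hinj : Function.Injective (autHom Γ i)) {n : ℕ} (hn : n ≠ 0) (hG : Nat.card G = n)
    (hA : Nat.card (Γ ≃g Γ) = 2 * n) : (autHom Γ i).range.Normal := by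
  apply Subgroup.normal_of_index_eq_two
  have h1 : Nat.card (autHom Γ i).range = n := by
    rw [← hG]
    exact (Nat.card_congr (MonoidHom.ofInjective hinj).toEquiv).symm
  have h3 := Subgroup.card_mul_index (autHom Γ i).range
  rw [h1, hA] at h3
  have h4 : n * (autHom Γ i).range.index = n * 2 := by rw [h3, mul_comm]
  exact Nat.eq_of_mul_eq_mul_left (Nat.pos_of_ne_zero hn) h4

/-- Conjugation by a graph automorphism, for a normal group of automorphisms. -/
theorem autHom_conj (Γ : SimpleGraph Ω)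
    (i : ∀ (g : G) (x y : Ω), Γ.Adj (g • x) (g • y) ↔ Γ.Adj x y)
    (hn : (autHom Γ i).range.Normal) (ψ : Γ ≃g Γ) (g' : G) :
    ∃ g'' : G, ∀ x : Ω, ψ (g' • ψ.symm x) = g'' • x := by
  have hm1 : autHom Γ i g' ∈ (autHom Γ i).range := ⟨g', rfl⟩
  obtain ⟨g'', hg''⟩ := hn.conj_mem _ hm1 ψ
  refine ⟨g'', fun x => ?_⟩
  have h1 := congrArg (fun φ : Γ ≃g Γ => φ x) hg''
  exact h1.symm

end AutGen

/-- Two vectors of type 3 with inner product `-32`. -/
structure HSData (v w : leechLattice) : Prop where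
  hv : sqNorm (v : GolayPt → ℤ) = 48
  hw : sqNorm (w : GolayPt → ℤ) = 48
  hvw : dotInt (v : GolayPt → ℤ) (w : GolayPt → ℤ) = -32

section HS

variable {v w : leechLattice}

theorem hsGrp_mk (g : Co0) (h1 : g • v = v) (h2 : g • w = w) : g ∈ hsGrp v w :=
  Subgroup.mem_inf.mpr ⟨MulAction.mem_stabilizer_iff.mpr h1, MulAction.mem_stabilizer_iff.mpr h2⟩

theorem HSData.trans (D : HSData v w) (x y : ↥(hsSub v w)) : ∃ g : ↥(hsGrp v w), g • x = y := by
  obtain ⟨g, h1, h2, h3⟩ := (hs_orbit v w D.hv D.hw D.hvw).2 x.1 (hsSub_mem x) y.1 (hsSub_mem y)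
  exact ⟨⟨g, hsGrp_mk g h1 h2⟩, Subtype.ext h3⟩

theorem hsGraph_inv (g : ↥(hsGrp v w)) (x y : ↥(hsSub v w)) :
    (hsGraph v w).Adj (g • x) (g • y) ↔ (hsGraph v w).Adj x y := by
  rw [hsGraph_adj, hsGraph_adj, hsSub_smul, hsSub_smul, co0_smul_dotInt]

theorem HSData.stabTrans (D : HSData v w) (x y y' : ↥(hsSub v w)) (hy : y ≠ x) (hy' : y' ≠ x)
    (h : (hsGraph v w).Adj x y ↔ (hsGraph v w).Adj x y') :
    ∃ g : ↥(hsGrp v w), g • x = x ∧ g • y = y' := by
  obtain ⟨-, -, tS⟩ := hs_sub v w x.1 D.hv D.hw D.hvw (hsSub_mem x)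
  obtain ⟨g, h1, h2, h3, h4⟩ := tS y.1 (hsSub_mem y) y'.1 (hsSub_mem y')
    (fun e => hy (Subtype.ext e)) (fun e => hy' (Subtype.ext e)) h
  exact ⟨⟨g, hsGrp_mk g h1 h2⟩, Subtype.ext h3, Subtype.ext h4⟩

theorem HSData.nb_card (D : HSData v w) (x : ↥(hsSub v w)) :
    {y : ↥(hsSub v w) | (hsGraph v w).Adj x y}.ncard = 22 := by
  obtain ⟨n22, -, -⟩ := hs_sub v w x.1 D.hv D.hw D.hvw (hsSub_mem x)
  rw [← Set.ncard_image_of_injective _ Subtype.val_injective, ← n22]
  congr 1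
  ext y
  constructor
  · rintro ⟨y', hy', rfl⟩
    exact ⟨hsSub_mem y', hy'⟩
  · rintro ⟨h1, h2⟩
    exact ⟨⟨y, h1⟩, h2, rfl⟩

theorem HSData.far_card (D : HSData v w) (x : ↥(hsSub v w)) :
    {y : ↥(hsSub v w) | y ≠ x ∧ ¬ (hsGraph v w).Adj x y}.ncard = 77 := by
  obtain ⟨-, n77, -⟩ := hs_sub v w x.1 D.hv D.hw D.hvw (hsSub_mem x)
  rw [← Set.ncard_image_of_injective _ Subtype.val_injective, ← n77]
  congr 1
  ext y
  constructor
  · rintro ⟨y', hy', rfl⟩
    exact ⟨hsSub_mem y', fun e => hy'.1 (Subtype.ext e), hy'.2⟩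
  · rintro ⟨h1, h2, h3⟩
    exact ⟨⟨y, h1⟩, ⟨fun e => h2 (congrArg Subtype.val e), h3⟩, rfl⟩

/-- The permutation representation on the points. -/
def hsPerm (v w : leechLattice) : ↥(hsGrp v w) →* Equiv.Perm ↥(hsSub v w) :=
  MulAction.toPermHom _ _

theorem hsPerm_apply (g : ↥(hsGrp v w)) (x : ↥(hsSub v w)) : hsPerm v w g x = g • x := rfl

variable [Fintype ↥(hsSub v w)]

theorem HSData.card (D : HSData v w) : Fintype.card ↥(hsSub v w) = 100 := by
  rw [Fintype.card_eq_nat_card]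
  exact (hs_orbit v w D.hv D.hw D.hvw).1

theorem HSData.faithful (D : HSData v w) : Function.Injective (hsPerm v w) := by
  obtain ⟨hsimple, -⟩ := hs_isHS v w D.hv D.hw D.hvw
  rw [injective_iff_map_eq_one]
  intro g hg
  have hn : (hsPerm v w).ker.Normal := MonoidHom.normal_ker _
  have hmem : g ∈ (hsPerm v w).ker := MonoidHom.mem_ker.2 hg
  rcases hn.eq_bot_or_eq_top with h | h
  · rw [h, Subgroup.mem_bot] at hmem
    exact hmem
  · exfalso
    obtain ⟨x0, x1, hx01⟩ : ∃ x0 x1 : ↥(hsSub v w), x0 ≠ x1 := by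
      apply Fintype.exists_pair_of_one_lt_card
      rw [D.card]
      norm_num
    obtain ⟨k, hk⟩ := D.trans x0 x1
    have hk' : k ∈ (hsPerm v w).ker := by
      rw [h]
      exact Subgroup.mem_top k
    have h2 := congrArg (fun σ : Equiv.Perm ↥(hsSub v w) => σ x0) (MonoidHom.mem_ker.1 hk')
    exact hx01 (h2.symm.trans hk)

/-- The permutation group on the points. -/
def hsGX (v w : leechLattice) : Subgroup (Equiv.Perm ↥(hsSub v w)) := (hsPerm v w).range

theorem mem_hsGX {π : Equiv.Perm ↥(hsSub v w)} : π ∈ hsGX v w ↔ ∃ g, hsPerm v w g = π :=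
  Iff.rfl

theorem HSData.gx_card (D : HSData v w) : Nat.card (hsGX v w) = 44352000 := by
  obtain ⟨-, hcard⟩ := hs_isHS v w D.hv D.hw D.hvw
  rw [← hcard]
  exact (Nat.card_congr (MonoidHom.ofInjective D.faithful).toEquiv).symm

theorem HSData.gx_trans (D : HSData v w) (x y : ↥(hsSub v w)) : ∃ g ∈ hsGX v w, g x = y := by
  obtain ⟨g, hg⟩ := D.trans x y
  exact ⟨hsPerm v w g, ⟨g, rfl⟩, hg⟩

theorem gx_inv {π : Equiv.Perm ↥(hsSub v w)} (hπ : π ∈ hsGX v w) (x y : ↥(hsSub v w)) :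
    (hsGraph v w).Adj (π x) (π y) ↔ (hsGraph v w).Adj x y := by
  obtain ⟨g, rfl⟩ := hπ
  exact hsGraph_inv g x y

variable [DecidableEq ↥(hsSub v w)]

/-- The orbits of a point stabiliser. -/
theorem HSData.orb_eq (D : HSData v w) (x y : ↥(hsSub v w)) (hyx : y ≠ x) :
    ((orbF (stabP (hsGX v w) x) y : Finset ↥(hsSub v w)) : Set ↥(hsSub v w)) =
      {y' | y' ≠ x ∧ ((hsGraph v w).Adj x y' ↔ (hsGraph v w).Adj x y)} := by
  ext y'
  rw [Finset.mem_coe, mem_orbF]
  constructor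
  · rintro ⟨k, hk, rfl⟩
    obtain ⟨hk1, hk2⟩ := mem_stabP.1 hk
    refine ⟨fun e => hyx (k.injective (e.trans hk2.symm)), ?_⟩
    have h1 := gx_inv hk1 x y
    rw [hk2] at h1
    exact h1
  · rintro ⟨h1, h2⟩
    obtain ⟨g, hg1, hg2⟩ := D.stabTrans x y y' hyx h1 h2.symm
    exact ⟨hsPerm v w g, mem_stabP.2 ⟨⟨g, rfl⟩, hg1⟩, hg2⟩

theorem HSData.orb_card_adj (D : HSData v w) (x y : ↥(hsSub v w))
    (h : (hsGraph v w).Adj x y) : (orbF (stabP (hsGX v w) x) y).card = 22 := by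
  have hyx : y ≠ x := by
    intro e
    rw [e] at h
    exact (hsGraph v w).loopless.irrefl _ h
  rw [← Set.ncard_coe_finset, D.orb_eq x y hyx, ← D.nb_card x]
  congr 1
  ext y'
  constructor
  · rintro ⟨-, h2⟩
    exact h2.2 h
  · intro h2
    refine ⟨fun e => ?_, fun _ => h, fun _ => h2⟩
    rw [e] at h2
    exact (hsGraph v w).loopless.irrefl _ h2

theorem HSData.orb_card_far (D : HSData v w) (x y : ↥(hsSub v w)) (hyx : y ≠ x)
    (h : ¬ (hsGraph v w).Adj x y) : (orbF (stabP (hsGX v w) x) y).card = 77 := by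
  rw [← Set.ncard_coe_finset, D.orb_eq x y hyx, ← D.far_card x]
  congr 1
  ext y'
  constructor
  · rintro ⟨h1, h2⟩
    exact ⟨h1, fun h3 => h (h2.1 h3)⟩
  · rintro ⟨h1, h2⟩
    exact ⟨h1, fun h3 => absurd h3 h2, fun h3 => absurd h3 h⟩

theorem HSData.adj_iff (D : HSData v w) (x y : ↥(hsSub v w)) :
    (hsGraph v w).Adj x y ↔ (orbF (stabP (hsGX v w) x) y).card = 22 := by
  constructor
  · exact D.orb_card_adj x y
  · intro h
    by_contra hadj
    by_cases hyx : y = x
    · rw [hyx, orbF_stabP_self, Finset.card_singleton] at h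
      omega
    · rw [D.orb_card_far x y hyx hadj] at h
      omega

theorem HSData.stab_card (D : HSData v w) (x : ↥(hsSub v w)) :
    Nat.card (stabP (hsGX v w) x) = 443520 := by
  have h1 := card_stabP_of_trans (hsGX v w) D.gx_trans x
  rw [D.card, D.gx_card] at h1
  omega

theorem HSData.orb_dvd (D : HSData v w) (x y : ↥(hsSub v w)) (hyx : y ≠ x) :
    11 ∣ (orbF (stabP (hsGX v w) x) y).card := by
  by_cases h : (hsGraph v w).Adj x y
  · rw [D.orb_card_adj x y h]
    norm_num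
  · rw [D.orb_card_far x y hyx h]
    norm_num

/-- The stabiliser of a point fixes no other point. -/
theorem HSData.distinct (D : HSData v w) (x y : ↥(hsSub v w))
    (h : ∀ g ∈ hsGX v w, g x = x → g y = y) : x = y := by
  by_contra hxy
  have h1 := D.orb_dvd x y (Ne.symm hxy)
  have h2 : orbF (stabP (hsGX v w) x) y = {y} :=
    orbF_eq_singleton (fun k hk => h k (mem_stabP.1 hk).1 (mem_stabP.1 hk).2)
  rw [h2, Finset.card_singleton] at h1
  omega

/-- An element of order `11` fixes at most one point. -/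
theorem HSData.ord11 (D : HSData v w) {g : Equiv.Perm ↥(hsSub v w)} (hg : g ∈ hsGX v w)
    (ho : orderOf g = 11) {y z : ↥(hsSub v w)} (hy : g y = y) (hz : g z = z) : z = y := by
  by_contra hzy
  have h1 := card_stabP_mul (stabP (hsGX v w) y) z
  rw [D.stab_card y] at h1
  have h2 := D.orb_dvd y z hzy
  have hmem : g ∈ stabP (stabP (hsGX v w) y) z := mem_stabP.2 ⟨mem_stabP.2 ⟨hg, hy⟩, hz⟩
  have h3 := Subgroup.orderOf_dvd_natCard _ hmem
  rw [ho] at h3
  obtain ⟨a, ha⟩ := h2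
  obtain ⟨b, hb⟩ := h3
  rw [ha, hb] at h1
  have h4 : 121 * (b * a) = 443520 := by rw [← h1]; ring
  omega

/-- The stabiliser of a point embeds in the stabiliser of two points of `M24`. -/
theorem HSData.stab_embed (D : HSData v w) (x : leechLattice) (hx : x ∈ hsPts v w) :
    ∃ ρ : ↥(hsGrp v w ⊓ MulAction.stabilizer Co0 x) →* Equiv.Perm GolayPt,
      Function.Injective ρ ∧ ∀ t, ρ t ∈ M24 ∧ ρ t (pt 0) = pt 0 ∧ ρ t (pt 23) = pt 23 := by
  obtain ⟨g₁, e1, e2, e3⟩ := exists_to_vwx v w x D.hv D.hw D.hvw hx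
  have E1 : g₁ • v = ⟨vecOf v0L, v0L_mem⟩ := Subtype.ext e1
  have E2 : g₁ • w = ⟨vecOf w0L, w0L_mem⟩ := Subtype.ext e2
  have E3 : g₁ • x = ⟨vecOf a0L, a0L_mem⟩ := Subtype.ext e3
  have hmem : ∀ t : ↥(hsGrp v w ⊓ MulAction.stabilizer Co0 x), g₁ * t.1 * g₁⁻¹ ∈ stdK := by
    intro t
    obtain ⟨ht1, ht2⟩ := Subgroup.mem_inf.1 t.2
    obtain ⟨ht3, ht4⟩ := Subgroup.mem_inf.1 ht1
    rw [MulAction.mem_stabilizer_iff] at ht2 ht3 ht4
    rw [mem_stdK]
    refine ⟨?_, ?_, ?_⟩
    · rw [← E1, mul_smul, mul_smul, inv_smul_smul, ht3]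
    · rw [← E2, mul_smul, mul_smul, inv_smul_smul, ht4]
    · rw [← E3, mul_smul, mul_smul, inv_smul_smul, ht2]
  obtain ⟨c, hc⟩ : ∃ c : ↥(hsGrp v w ⊓ MulAction.stabilizer Co0 x) →* ↥stdK,
      Function.Injective c := by
    refine ⟨{ toFun := fun t => ⟨g₁ * t.1 * g₁⁻¹, hmem t⟩
              map_one' := ?_
              map_mul' := ?_ }, ?_⟩
    · apply Subtype.ext
      show g₁ * 1 * g₁⁻¹ = 1
      group
    · intro a b
      apply Subtype.ext
      show g₁ * (a.1 * b.1) * g₁⁻¹ = (g₁ * a.1 * g₁⁻¹) * (g₁ * b.1 * g₁⁻¹)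
      group
    · intro a b hab
      apply Subtype.ext
      have h1 : g₁ * a.1 * g₁⁻¹ = g₁ * b.1 * g₁⁻¹ := congrArg Subtype.val hab
      exact mul_left_cancel (mul_right_cancel h1)
  refine ⟨(Subgroup.subtype _).comp (m22Equiv.symm.toMonoidHom.comp c), ?_, ?_⟩
  · exact Subtype.val_injective.comp (m22Equiv.symm.injective.comp hc)
  · intro t
    have h1 := (m22Equiv.symm (c t)).2
    exact ⟨fixSub_le_M24 _ h1, (fixSub2_fix h1).1, (fixSub2_fix h1).2⟩

/-- Orders excluded for the subgroups of a point stabiliser. -/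
theorem HSData.excl (D : HSData v w) (y : ↥(hsSub v w))
    (S : Subgroup (Equiv.Perm ↥(hsSub v w))) (hS : S ≤ stabP (hsGX v w) y) :
    Nat.card S ≠ 36960 ∧ Nat.card S ≠ 9856 ∧ Nat.card S ≠ 7920 := by
  obtain ⟨ρ, hρ, hρM⟩ := D.stab_embed y.1 (hsSub_mem y)
  have hT : ∀ g : ↥(S.comap (hsPerm v w)),
      (g.1 : Co0) ∈ hsGrp v w ⊓ MulAction.stabilizer Co0 y.1 := by
    intro g
    refine Subgroup.mem_inf.2 ⟨g.1.2, MulAction.mem_stabilizer_iff.2 ?_⟩
    have h1 : hsPerm v w g.1 ∈ stabP (hsGX v w) y := hS g.2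
    have h2 : g.1 • y = y := (mem_stabP.1 h1).2
    exact congrArg Subtype.val h2
  obtain ⟨j, hj, hjM⟩ : ∃ j : ↥(S.comap (hsPerm v w)) →* Equiv.Perm GolayPt,
      Function.Injective j ∧ ∀ t, j t ∈ M24 ∧ j t (pt 0) = pt 0 ∧ j t (pt 23) = pt 23 := by
    refine ⟨ρ.comp { toFun := fun g => ⟨g.1.1, hT g⟩
                     map_one' := rfl
                     map_mul' := fun _ _ => rfl }, ?_, fun t => hρM _⟩
    apply hρ.comp
    intro a b hab
    have h1 : (a.1.1 : Co0) = b.1.1 :=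
      congrArg (fun t : ↥(hsGrp v w ⊓ MulAction.stabilizer Co0 y.1) => (t : Co0)) hab
    exact Subtype.ext (Subtype.ext h1)
  have hSG : S ≤ (hsPerm v w).range := hS.trans (stabP_le _ _)
  have hcard : Nat.card j.range = Nat.card S := by
    rw [← Nat.card_congr (MonoidHom.ofInjective hj).toEquiv,
      ← Subgroup.card_map_of_injective D.faithful, Subgroup.map_comap_eq_self hSG]
  rw [← hcard]
  apply m22_excl j.range (p := pt 0) (q := pt 23) _ (by decide)
  · rintro _ ⟨t, rfl⟩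
    exact (hjM t).2.1
  · rintro _ ⟨t, rfl⟩
    exact (hjM t).2.2
  · rintro _ ⟨t, rfl⟩
    exact (hjM t).1

theorem cases100 : ∀ n ≤ 100, n % 11 = 1 % 11 → 443520 % n = 0 →
    n = 1 ∨ n = 12 ∨ n = 45 ∨ n = 56 := by decide +kernel

/-- Every subgroup of index `100` is a point stabiliser. -/
theorem HSData.index (D : HSData v w) (H : Subgroup ↥(hsGX v w)) (hH : H.index = 100) :
    ∃ x : ↥(hsSub v w), H = MulAction.stabilizer ↥(hsGX v w) x := by
  have hHc : Nat.card H = 443520 := by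
    have h1 := Subgroup.card_mul_index H
    rw [hH, D.gx_card] at h1
    omega
  obtain ⟨Hp, hHp⟩ : ∃ Hp : Subgroup (Equiv.Perm ↥(hsSub v w)),
      Hp = H.map (hsGX v w).subtype := ⟨_, rfl⟩
  have hHpc : Nat.card Hp = 443520 := by
    rw [hHp, Subgroup.card_map_of_injective (Subgroup.subtype_injective _), hHc]
  have hHpG : Hp ≤ hsGX v w := by
    rw [hHp]
    rintro _ ⟨k, -, rfl⟩
    exact k.2
  obtain ⟨g, hg, ho, hg11⟩ := exists_ord Hp 11 (by norm_num) (by rw [hHpc]; norm_num)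
  have h1 := card_inv_modEq g 11 (by norm_num) hg11 Finset.univ (fun i _ => Finset.mem_univ _)
  rw [Finset.card_univ, D.card] at h1
  obtain ⟨y, hy⟩ : (Finset.univ.filter (fun i => g i = i)).Nonempty := by
    rw [← Finset.card_pos]
    omega
  rw [Finset.mem_filter] at hy
  have hgy := hy.2
  have hO := card_inv_modEq g 11 (by norm_num) hg11 (orbF Hp y)
    (fun i hi => invSet_orbF Hp y g hg i hi)
  have hfilt : (orbF Hp y).filter (fun i => g i = i) = {y} := by
    ext z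
    rw [Finset.mem_filter, Finset.mem_singleton]
    constructor
    · rintro ⟨-, hz⟩
      exact D.ord11 (hHpG hg) ho hgy hz
    · intro h
      rw [h]
      exact ⟨self_mem_orbF Hp y, hgy⟩
  rw [hfilt, Finset.card_singleton] at hO
  have hOd := card_orbF_dvd Hp y
  rw [hHpc] at hOd
  have hOle : (orbF Hp y).card ≤ 100 := by
    have h2 := Finset.card_le_univ (orbF Hp y)
    rw [D.card] at h2
    exact h2
  have hcases := cases100
  have hmul := card_stabP_mul Hp y
  rw [hHpc] at hmul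
  obtain ⟨e1, e2, e3⟩ := D.excl y (stabP Hp y)
    (fun k hk => mem_stabP.2 ⟨hHpG (mem_stabP.1 hk).1, (mem_stabP.1 hk).2⟩)
  have hO1 : (orbF Hp y).card = 1 := by
    rcases hcases _ hOle hO (Nat.mod_eq_zero_of_dvd hOd) with h | h | h | h
    · exact h
    · rw [h] at hmul
      exfalso
      apply e1
      omega
    · rw [h] at hmul
      exfalso
      apply e2
      omega
    · rw [h] at hmul
      exfalso
      apply e3
      omega
  have hfix := orbF_card_one_iff.1 hO1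
  have heq : Hp = stabP (hsGX v w) y := by
    apply Subgroup.eq_of_le_of_card_ge
    · intro k hk
      exact mem_stabP.2 ⟨hHpG hk, hfix k hk⟩
    · rw [D.stab_card y, hHpc]
  refine ⟨y, ?_⟩
  ext k
  constructor
  · intro hk
    have h2 : k.1 ∈ Hp := by
      rw [hHp]
      exact ⟨k, hk, rfl⟩
    rw [heq] at h2
    have h3 : k.1 y = y := (mem_stabP.1 h2).2
    exact h3
  · intro hk
    have hk' : k.1 y = y := hk
    have h2 : k.1 ∈ Hp := by
      rw [heq]
      exact mem_stabP.2 ⟨k.2, hk'⟩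
    rw [hHp] at h2
    obtain ⟨k', hk', e⟩ := h2
    have h3 : k' = k := Subtype.ext e
    rw [← h3]
    exact hk'

theorem HSData.pts (D : HSData v w) : Helper6.OutP.Pts (hsGX v w) Finset.univ where
  inv := fun _ _ _ _ => Finset.mem_univ _
  trans := fun x _ y _ => D.gx_trans x y
  fixOut := fun _ _ x hx => absurd (Finset.mem_univ x) hx
  distinct := fun x _ y _ h => D.distinct x y h
  index := fun H hH => by
    rw [Finset.card_univ, D.card] at hH
    obtain ⟨x, hx⟩ := D.index H hH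
    exact ⟨x, Finset.mem_univ _, hx⟩

/-- Graph automorphisms as permutations. -/
def autPerm {V : Type*} (Γ : SimpleGraph V) : (Γ ≃g Γ) →* Equiv.Perm V where
  toFun ψ := ψ.toEquiv
  map_one' := rfl
  map_mul' _ _ := rfl

theorem autPerm_apply {V : Type*} (Γ : SimpleGraph V) (ψ : Γ ≃g Γ) (x : V) :
    autPerm Γ ψ x = ψ x := rfl

theorem autPerm_injective {V : Type*} (Γ : SimpleGraph V) : Function.Injective (autPerm Γ) := by
  intro a b h
  ext x
  exact congrArg (fun σ : Equiv.Perm V => σ x) h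

theorem HSData.aut_card (D : HSData v w) :
    Nat.card ((hsGraph v w) ≃g (hsGraph v w)) = 88704000 := by
  classical
  obtain ⟨x0⟩ : Nonempty ↥(hsSub v w) := by
    rw [← Fintype.card_pos_iff, D.card]
    norm_num
  exact Helper93.HSG.srg100_aut_card (hs_R3 v w D.hv D.hw D.hvw x0).isSRG

theorem HSData.hsAut_normal (D : HSData v w) :
    (autHom (hsGraph v w) hsGraph_inv).range.Normal := by
  obtain ⟨-, hcard⟩ := hs_isHS v w D.hv D.hw D.hvw
  apply autHom_range_normal (hsGraph v w) hsGraph_inv _ (by norm_num) hcard D.aut_card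
  apply autHom_injective
  intro g hg
  apply D.faithful
  rw [map_one]
  exact Equiv.ext hg

theorem HSData.norm_of_aut (D : HSData v w) (ψ : (hsGraph v w) ≃g (hsGraph v w))
    (g' : ↥(hsGrp v w)) :
    ∃ g'' : ↥(hsGrp v w), autPerm (hsGraph v w) ψ * hsPerm v w g' * (autPerm (hsGraph v w) ψ)⁻¹ =
      hsPerm v w g'' := by
  obtain ⟨g'', hg''⟩ := autHom_conj (hsGraph v w) hsGraph_inv D.hsAut_normal ψ g'
  exact ⟨g'', Equiv.ext fun x => hg'' x⟩

theorem HSData.aut_of_norm (D : HSData v w) (π : Equiv.Perm ↥(hsSub v w))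
    (h : ∀ g ∈ hsGX v w, π * g * π⁻¹ ∈ hsGX v w) :
    ∃ ψ : (hsGraph v w) ≃g (hsGraph v w), autPerm (hsGraph v w) ψ = π := by
  have hrel : ∀ x y : ↥(hsSub v w), (hsGraph v w).Adj (π x) (π y) ↔ (hsGraph v w).Adj x y := by
    intro x y
    rw [D.adj_iff, D.adj_iff, card_orbF_stabP_norm h]
  exact ⟨{ toEquiv := π, map_rel_iff' := fun {x y} => hrel x y }, rfl⟩

/-- The permutations normalising the group are the automorphisms of the graph. -/
theorem HSData.norm_iff (D : HSData v w) (π : Equiv.Perm ↥(hsSub v w)) :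
    π ∈ (autPerm (hsGraph v w)).range ↔ ∀ g ∈ hsGX v w, π * g * π⁻¹ ∈ hsGX v w := by
  constructor
  · rintro ⟨ψ, rfl⟩ g ⟨g', rfl⟩
    obtain ⟨g'', hg''⟩ := D.norm_of_aut ψ g'
    exact ⟨g'', hg''.symm⟩
  · intro h
    obtain ⟨ψ, hψ⟩ := D.aut_of_norm π h
    exact ⟨ψ, hψ⟩

/-- The outer automorphism group of the joint stabiliser has order two. -/
theorem HSData.out_card (D : HSData v w) : Nat.card (Cfsg.Out ↥(hsGrp v w)) = 2 := by
  have h1 := D.pts.card_out_mul (autPerm (hsGraph v w)).range (fun π => by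
    rw [D.norm_iff]
    constructor
    · intro h
      exact ⟨fun x hx => absurd (Finset.mem_univ x) hx, h⟩
    · intro h
      exact h.2)
  have h2 : Nat.card (autPerm (hsGraph v w)).range = 88704000 := by
    rw [← D.aut_card]
    exact (Nat.card_congr (MonoidHom.ofInjective (autPerm_injective _)).toEquiv).symm
  rw [D.gx_card, h2] at h1
  have h3 : Nat.card (Cfsg.Out ↥(hsGX v w)) = 2 := by omega
  rw [← h3]
  exact out_card_congr (MonoidHom.ofInjective D.faithful)

end HS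

/-- The outer automorphism group of the Higman–Sims group has order two. -/
theorem out_HS : Nat.card (Cfsg.Out ↥Spor.HS) = 2 := by
  classical
  have D : HSData leechV hsW := ⟨hsV_norm, hsW_norm, hsVW_dot⟩
  have hfin : (hsPts leechV hsW).Finite := Set.finite_of_ncard_ne_zero (by
    rw [show (hsPts leechV hsW).ncard = 100 from (hs_orbit leechV hsW D.hv D.hw D.hvw).1]
    norm_num)
  have hFt : Fintype ↥(hsSub leechV hsW) := hfin.fintype
  rw [← out_card_congr hsIso]
  exact D.out_card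

end Cfsg.Agent.Lib.Helper26
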