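import Cfsg.Agent.Lib.Helper26.L23Chk
import Cfsg.Agent.Lib.Helper6.M24Nrm11

set_option autoImplicit false

open scoped Pointwise

namespace Cfsg.Agent.Lib.Helper26

open Cfsg.Agent.Lib.Helper7

/-! ### Multiplications of the projective line -/

/-- The multiplication by a unit as a permutation of the 24 points. -/
def mulP (u : (ZMod 23)ˣ) : Equiv.Perm Cfsg.GolayPt := Equiv.optionCongr (Units.mulLeft u)

theorem mulP_some (u : (ZMod 23)ˣ) (x : ZMod 23) :
    mulP u (some x) = some ((u : ZMod 23) * x) := rfl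

theorem mulP_none (u : (ZMod 23)ˣ) : mulP u none = none := rfl

theorem mulP_mul (u v : (ZMod 23)ˣ) : mulP (u * v) = mulP u * mulP v := by
  apply Equiv.ext
  intro p
  cases p with
  | none => rfl
  | some x =>
    show some (((u * v : (ZMod 23)ˣ) : ZMod 23) * x) = some ((u : ZMod 23) * ((v : ZMod 23) * x))
    rw [Units.val_mul, mul_assoc]

theorem mulP_one : mulP 1 = 1 := by
  apply Equiv.ext
  intro p
  cases p with
  | none => rfl
  | some x =>
    show some (((1 : (ZMod 23)ˣ) : ZMod 23) * x) = some x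
    rw [Units.val_one, one_mul]

theorem mulP_pow (u : (ZMod 23)ˣ) (k : ℕ) : mulP (u ^ k) = mulP u ^ k := by
  induction k with
  | zero => rw [pow_zero, pow_zero, mulP_one]
  | succ k ih => rw [pow_succ, pow_succ, mulP_mul, ih]

/-- The unit `2`. -/
def u2 : (ZMod 23)ˣ := ⟨2, 12, by decide, by decide⟩

/-- The doubling. -/
def mP : Equiv.Perm Cfsg.GolayPt := mulP u2

/-- The negation. -/
def negP : Equiv.Perm Cfsg.GolayPt := mulP (-1)

theorem repT_mP : RepT mP tM := by
  unfold RepT mP mulP u2
  decide +kernel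

theorem repT_negP : RepT negP tNeg := by
  unfold RepT negP mulP
  decide +kernel

theorem mP_mem : mP ∈ Cfsg.M24 := by
  have h1 : evalT ltabs2 [14, 14, 15, 15, 11, 5, 11, 8, 7] = tM := by decide +kernel
  have h2 := repT_evalW letters2_rep [14, 14, 15, 15, 11, 5, 11, 8, 7]
  rw [h1] at h2
  rw [repT_mP.ext h2]
  exact evalW_mem _ letters2_mem_M24 _

theorem sq_cases : ∀ x y : ZMod 23, x * y = 1 → ∃ k < 11, x * x = 2 ^ k := by decide +kernel

theorem sq_or_neg : ∀ x : ZMod 23, x ≠ 0 →
    (∃ r y, r * y = 1 ∧ x = r * r) ∨ (∃ r y, r * y = 1 ∧ x = -(r * r)) := by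
  decide +kernel

theorem inv_cases : ∀ x : ZMod 23, x ≠ 0 → ∃ y, x * y = 1 := by decide +kernel

theorem mulP_sq {u : (ZMod 23)ˣ} (hu : IsSquare u) : ∃ k : ℕ, mulP u = mP ^ k := by
  obtain ⟨r, rfl⟩ := hu
  obtain ⟨k, -, hk⟩ := sq_cases (r : ZMod 23) ((r⁻¹ : (ZMod 23)ˣ) : ZMod 23) r.mul_inv
  refine ⟨k, ?_⟩
  have e : r * r = u2 ^ k := Units.ext (by
    rw [Units.val_mul, Units.val_pow_eq_pow_val]
    exact hk)
  rw [e, mulP_pow]
  rfl

theorem isSquare_u2 : IsSquare u2 :=
  ⟨⟨5, 14, by decide, by decide⟩, Units.ext (by decide)⟩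

/-! ### The two groups -/

/-- Generators of the large group. -/
def gL : List (Equiv.Perm Cfsg.GolayPt) := [shiftPerm, Cfsg.projInv, mP]

/-- Generators of the small group. -/
def gF : List (Equiv.Perm Cfsg.GolayPt) := [shiftPerm, mP]

theorem gL_rep : List.Forall₂ RepT gL l23Gt :=
  List.Forall₂.cons repT_shift (List.Forall₂.cons repT_projInv
    (List.Forall₂.cons repT_mP List.Forall₂.nil))

theorem gF_rep : List.Forall₂ RepT gF f23Gt :=
  List.Forall₂.cons repT_shift (List.Forall₂.cons repT_mP List.Forall₂.nil)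

/-- The large group: generated by the shift, the inversion and the doubling. -/
def L23 : Subgroup (Equiv.Perm Cfsg.GolayPt) := Subgroup.closure {g | g ∈ gL}

/-- The small group: generated by the shift and the doubling. -/
def F23 : Subgroup (Equiv.Perm Cfsg.GolayPt) := Subgroup.closure {g | g ∈ gF}

theorem card_L23 : Nat.card ↥L23 = 6072 :=
  (table_group gL_rep 6072 l23Tab l23Nxt l23Par l23Gen l23Dep 6071 (by norm_num) l23_root
    l23_nxt l23_reach l23_sorted).2

theorem card_F23 : Nat.card ↥F23 = 253 :=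
  (table_group gF_rep 253 f23Tab f23Nxt f23Par f23Gen f23Dep 252 (by norm_num) f23_root
    f23_nxt f23_reach f23_sorted).2

theorem shift_mem_F23 : shiftPerm ∈ F23 :=
  Subgroup.subset_closure (show shiftPerm ∈ gF from List.mem_cons_self)

theorem mP_mem_F23 : mP ∈ F23 :=
  Subgroup.subset_closure (show mP ∈ gF from List.mem_cons_of_mem _ List.mem_cons_self)

theorem F23_le_L23 : F23 ≤ L23 := by
  apply Subgroup.closure_mono
  intro g hg
  have hg' : g ∈ gF := hg
  show g ∈ gL
  simp only [gF, List.mem_cons, List.not_mem_nil, or_false] at hg'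
  simp only [gL, List.mem_cons, List.not_mem_nil, or_false]
  rcases hg' with rfl | rfl
  · exact Or.inl rfl
  · exact Or.inr (Or.inr rfl)

theorem L23_le_M24 : L23 ≤ Cfsg.M24 := by
  unfold L23
  rw [Subgroup.closure_le]
  intro g hg
  have hg' : g ∈ gL := hg
  simp only [gL, List.mem_cons, List.not_mem_nil, or_false] at hg'
  rcases hg' with rfl | rfl | rfl
  · exact shiftPerm_mem
  · exact projInv_mem
  · exact mP_mem

theorem F23_le_stab : F23 ≤ MulAction.stabilizer (Equiv.Perm Cfsg.GolayPt) (none : Cfsg.GolayPt) := by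
  unfold F23
  rw [Subgroup.closure_le]
  intro g hg
  have hg' : g ∈ gF := hg
  simp only [gF, List.mem_cons, List.not_mem_nil, or_false] at hg'
  rcases hg' with rfl | rfl
  · exact MulAction.mem_stabilizer_iff.mpr rfl
  · exact MulAction.mem_stabilizer_iff.mpr rfl

/-- The group of the statement is the large group. -/
theorem closure_L_eq : Subgroup.closure ({Equiv.optionCongr (Equiv.addRight (1 : ZMod 23)),
    Cfsg.projInv} ∪ {g : Equiv.Perm Cfsg.GolayPt | ∃ u : (ZMod 23)ˣ, IsSquare u ∧
      g = Equiv.optionCongr (Units.mulLeft u)}) = L23 := by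
  apply le_antisymm
  · rw [Subgroup.closure_le]
    rintro x (hx | ⟨u, hu, rfl⟩)
    · rcases hx with rfl | hx
      · exact Subgroup.subset_closure (show shiftPerm ∈ gL from List.mem_cons_self)
      · rw [Set.mem_singleton_iff] at hx
        rw [hx]
        exact Subgroup.subset_closure
          (show Cfsg.projInv ∈ gL from List.mem_cons_of_mem _ List.mem_cons_self)
    · obtain ⟨k, hk⟩ := mulP_sq hu
      show mulP u ∈ L23
      rw [hk]
      exact Subgroup.pow_mem _ (F23_le_L23 mP_mem_F23) k
  · unfold L23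
    rw [Subgroup.closure_le]
    intro g hg
    have hg' : g ∈ gL := hg
    simp only [gL, List.mem_cons, List.not_mem_nil, or_false] at hg'
    rcases hg' with rfl | rfl | rfl
    · exact Subgroup.subset_closure (Or.inl (Or.inl rfl))
    · exact Subgroup.subset_closure (Or.inl (Or.inr rfl))
    · exact Subgroup.subset_closure (Or.inr ⟨u2, isSquare_u2, rfl⟩)

/-- The group of the statement is the small group. -/
theorem closure_F_eq : Subgroup.closure ({Equiv.optionCongr (Equiv.addRight (1 : ZMod 23))} ∪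
    {g : Equiv.Perm Cfsg.GolayPt | ∃ u : (ZMod 23)ˣ, IsSquare u ∧
      g = Equiv.optionCongr (Units.mulLeft u)}) = F23 := by
  apply le_antisymm
  · rw [Subgroup.closure_le]
    rintro x (hx | ⟨u, hu, rfl⟩)
    · rw [Set.mem_singleton_iff] at hx
      rw [hx]
      exact shift_mem_F23
    · obtain ⟨k, hk⟩ := mulP_sq hu
      show mulP u ∈ F23
      rw [hk]
      exact Subgroup.pow_mem _ mP_mem_F23 k
  · unfold F23
    rw [Subgroup.closure_le]
    intro g hg
    have hg' : g ∈ gF := hg
    simp only [gF, List.mem_cons, List.not_mem_nil, or_false] at hg'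
    rcases hg' with rfl | rfl
    · exact Subgroup.subset_closure (Or.inl rfl)
    · exact Subgroup.subset_closure (Or.inr ⟨u2, isSquare_u2, rfl⟩)

end Cfsg.Agent.Lib.Helper26
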