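import Cfsg.Agent.Lib.Helper26.TabGrp
import Cfsg.Agent.Lib.Helper26.L23Data

set_option autoImplicit false

namespace Cfsg.Agent.Lib.Helper26

open Cfsg.Agent.Lib.Helper7

/-- Packed table of the doubling `x ↦ 2 x`. -/
def tM : ℕ := 983435072843990828779021698901151808

/-- Packed table of the negation `x ↦ -x`. -/
def tNeg : ℕ := 956765793662171983829532039519557312

/-- Tables of the generators of the large group: the shift, the inversion, the doubling. -/
def l23Gt : List ℕ := [tA, tB, tM]

/-- Tables of the generators of the small group: the shift and the doubling. -/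
def f23Gt : List ℕ := [tA, tM]

/-- Entry of the table of the large group. -/
def l23Tab (i : ℕ) : ℕ := fld l23Big 184 0 120 i

/-- Parent of an entry. -/
def l23Par (i : ℕ) : ℕ := fld l23Big 184 120 13 i

/-- Generator carrying the parent to an entry. -/
def l23Gen (i : ℕ) : ℕ := fld l23Big 184 133 2 i

/-- Depth of an entry. -/
def l23Dep (i : ℕ) : ℕ := fld l23Big 184 135 7 i

/-- Position of the product of a generator with an entry. -/
def l23Nxt (s i : ℕ) : ℕ := fld l23Big 184 (142 + 13 * s) 13 i

/-- Entry of the table of the small group. -/
def f23Tab (i : ℕ) : ℕ := fld f23Big 152 0 120 i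

/-- Parent of an entry. -/
def f23Par (i : ℕ) : ℕ := fld f23Big 152 120 8 i

/-- Generator carrying the parent to an entry. -/
def f23Gen (i : ℕ) : ℕ := fld f23Big 152 128 1 i

/-- Depth of an entry. -/
def f23Dep (i : ℕ) : ℕ := fld f23Big 152 129 6 i

/-- Position of the product of a generator with an entry. -/
def f23Nxt (s i : ℕ) : ℕ := fld f23Big 152 (135 + 8 * s) 8 i

set_option maxRecDepth 1000000 in
theorem f23_nxt : allB (fun i => allB (fun s => decide (f23Nxt s i < 253) &&
    (mulT (f23Gt.getD s idT) (f23Tab i) == f23Tab (f23Nxt s i))) f23Gt.length) 253 = true := by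
  decide +kernel

set_option maxRecDepth 1000000 in
theorem f23_reach : allB (fun i => (i == 252) || (decide (f23Par i < 253) &&
    decide (f23Dep (f23Par i) < f23Dep i) && decide (f23Gen i < f23Gt.length) &&
    (f23Nxt (f23Gen i) (f23Par i) == i))) 253 = true := by
  decide +kernel

set_option maxRecDepth 1000000 in
theorem f23_sorted : allB (fun i => decide (canonT (f23Tab i) < canonT (f23Tab (i + 1))))
    (253 - 1) = true := by
  decide +kernel

theorem f23_root : f23Tab 252 = idT := by decide +kernel

set_option maxRecDepth 1000000 in
theorem l23_nxt : allB (fun i => allB (fun s => decide (l23Nxt s i < 6072) &&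
    (mulT (l23Gt.getD s idT) (l23Tab i) == l23Tab (l23Nxt s i))) l23Gt.length) 6072 = true := by
  decide +kernel

set_option maxRecDepth 1000000 in
theorem l23_reach : allB (fun i => (i == 6071) || (decide (l23Par i < 6072) &&
    decide (l23Dep (l23Par i) < l23Dep i) && decide (l23Gen i < l23Gt.length) &&
    (l23Nxt (l23Gen i) (l23Par i) == i))) 6072 = true := by
  decide +kernel

set_option maxRecDepth 1000000 in
theorem l23_sorted : allB (fun i => decide (canonT (l23Tab i) < canonT (l23Tab (i + 1))))
    (6072 - 1) = true := by
  decide +kernel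

theorem l23_root : l23Tab 6071 = idT := by decide +kernel

end Cfsg.Agent.Lib.Helper26
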