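import Mathlib
import Cfsg.Agent.Lib.Helper7.GolayOctad
import Cfsg.Agent.Lib.Helper7.GolaySimple

set_option autoImplicit false

open scoped Pointwise

namespace Cfsg.Agent.Lib.Helper26

open Cfsg.Agent.Lib.Helper7

/-! ### Images of bitmasks under tabulated permutations -/

/-- Image of a bitmask under the permutation whose inverse has the packed table `tinv`. -/
def permT (tinv m : ℕ) : ℕ := ofBits (fun j => m.testBit (nlane tinv j)) 24

theorem permT_lt (tinv m : ℕ) : permT tinv m < 2 ^ 24 := ofBits_lt _ _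

theorem smul_setOf {σ : Equiv.Perm Cfsg.GolayPt} {tinv : ℕ} (h : RepT σ⁻¹ tinv) (m : ℕ) :
    σ • Cfsg.Agent.Lib.Helper7.setOf m = Cfsg.Agent.Lib.Helper7.setOf (permT tinv m) := by
  ext p
  rw [← Finset.inv_smul_mem_iff, mem_setOf, mem_setOf, permT, testBit_ofBits]
  simp only [idx_lt p, decide_true, Bool.true_and]
  rw [Equiv.Perm.smul_def, h p, idx_pt (nlane_lt _ _)]

/-- Inverse tables of a list of words in the letters. -/
theorem rep_inv_words (ws : List (List ℕ)) :
    List.Forall₂ (fun σ t => RepT σ⁻¹ t) (ws.map (evalW letters2))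
      (ws.map (fun w => invT (evalT ltabs2 w))) := by
  induction ws with
  | nil => exact List.Forall₂.nil
  | cons w ws ih => exact List.Forall₂.cons (repT_evalW letters2_rep w).inv ih

theorem words_mem_M24 (ws : List (List ℕ)) : ∀ σ ∈ ws.map (evalW letters2), σ ∈ Cfsg.M24 := by
  intro σ hσ
  obtain ⟨w, -, rfl⟩ := List.mem_map.mp hσ
  exact evalW_mem _ letters2_mem_M24 w

theorem repInv_getD {L : List (Equiv.Perm Cfsg.GolayPt)} {T : List ℕ}
    (h : List.Forall₂ (fun σ t => RepT σ⁻¹ t) L T) (l : ℕ) :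
    RepT (L.getD l 1)⁻¹ (T.getD l idT) := by
  induction h generalizing l with
  | nil =>
    rw [List.getD_nil, List.getD_nil, inv_one]
    exact repT_one
  | cons hab _ ih =>
    cases l with
    | zero =>
      rw [List.getD_cons_zero, List.getD_cons_zero]
      exact hab
    | succ l =>
      rw [List.getD_cons_succ, List.getD_cons_succ]
      exact ih l

/-! ### Orbit certificates -/

/-- Check of a breadth-first certificate: entry number `n` of the certificate (for the object at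
position `s + n`) names an earlier position and a generator mapping that object to this one. -/
def chkOrb (act : ℕ → ℕ → ℕ) (Tinv : List ℕ) (objs : List ℕ) : List (ℕ × ℕ) → ℕ → Bool
  | [], _ => true
  | c :: cs, i => decide (c.1 < i) && (act (Tinv.getD c.2 idT) (objs.getD c.1 0) == objs.getD i 0)
      && chkOrb act Tinv objs cs (i + 1)

theorem chkOrb_spec (act : ℕ → ℕ → ℕ) (Tinv : List ℕ) (objs : List ℕ) (cs : List (ℕ × ℕ))
    (s : ℕ) (h : chkOrb act Tinv objs cs s = true) (n : ℕ) (hn : n < cs.length) :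
    (cs.getD n (0, 0)).1 < s + n ∧
      act (Tinv.getD (cs.getD n (0, 0)).2 idT) (objs.getD (cs.getD n (0, 0)).1 0)
        = objs.getD (s + n) 0 := by
  induction cs generalizing s n with
  | nil => simp at hn
  | cons c cs ih =>
    simp only [chkOrb, Bool.and_eq_true, decide_eq_true_eq, beq_iff_eq] at h
    obtain ⟨⟨h1, h2⟩, h3⟩ := h
    cases n with
    | zero =>
      rw [List.getD_cons_zero, Nat.add_zero]
      exact ⟨h1, h2⟩
    | succ n =>
      rw [List.getD_cons_succ]
      have := ih (s + 1) h3 n (by simpa using hn)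
      rw [show s + (n + 1) = s + 1 + n by omega]
      exact this

/-- Soundness of orbit certificates. -/
theorem orbit_of_chk {X : Type*} [MulAction (Equiv.Perm Cfsg.GolayPt) X]
    (S : Subgroup (Equiv.Perm Cfsg.GolayPt)) (den : ℕ → X) (act : ℕ → ℕ → ℕ)
    (hact : ∀ (σ : Equiv.Perm Cfsg.GolayPt) (t c : ℕ), RepT σ⁻¹ t → σ • den c = den (act t c))
    {L : List (Equiv.Perm Cfsg.GolayPt)} {Tinv : List ℕ}
    (hrep : List.Forall₂ (fun σ t => RepT σ⁻¹ t) L Tinv) (hL : ∀ σ ∈ L, σ ∈ S)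
    (objs : List ℕ) (cert : List (ℕ × ℕ)) (hlen : cert.length + 1 = objs.length)
    (hchk : chkOrb act Tinv objs cert 1 = true) :
    ∀ i < objs.length, ∃ u ∈ S, u • den (objs.getD 0 0) = den (objs.getD i 0) := by
  intro i
  induction i using Nat.strong_induction_on with
  | _ i ih =>
    intro hi
    rcases Nat.eq_zero_or_pos i with h0 | h0
    · subst h0
      exact ⟨1, S.one_mem, one_smul _ _⟩
    · obtain ⟨n, rfl⟩ : ∃ n, i = 1 + n := ⟨i - 1, by omega⟩
      have hn : n < cert.length := by omega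
      obtain ⟨h1, h2⟩ := chkOrb_spec act Tinv objs cert 1 hchk n hn
      obtain ⟨u, hu, hu2⟩ := ih _ h1 (by omega)
      refine ⟨L.getD (cert.getD n (0, 0)).2 1 * u,
        S.mul_mem (getD_mem_subgroup S hL _) hu, ?_⟩
      rw [mul_smul, hu2, hact _ _ _ (repInv_getD hrep _), h2]

theorem orbit_of_chk_mem {X : Type*} [MulAction (Equiv.Perm Cfsg.GolayPt) X]
    (S : Subgroup (Equiv.Perm Cfsg.GolayPt)) (den : ℕ → X) (act : ℕ → ℕ → ℕ)
    (hact : ∀ (σ : Equiv.Perm Cfsg.GolayPt) (t c : ℕ), RepT σ⁻¹ t → σ • den c = den (act t c))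
    {L : List (Equiv.Perm Cfsg.GolayPt)} {Tinv : List ℕ}
    (hrep : List.Forall₂ (fun σ t => RepT σ⁻¹ t) L Tinv) (hL : ∀ σ ∈ L, σ ∈ S)
    (objs : List ℕ) (cert : List (ℕ × ℕ)) (hlen : cert.length + 1 = objs.length)
    (hchk : chkOrb act Tinv objs cert 1 = true) :
    ∀ c ∈ objs, ∃ u ∈ S, u • den (objs.getD 0 0) = den c := by
  intro c hc
  obtain ⟨i, hi, rfl⟩ := List.getElem_of_mem hc
  have := orbit_of_chk S den act hact hrep hL objs cert hlen hchk i hi
  rw [List.getD_eq_getElem _ _ hi] at this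
  exact this

/-- Any two listed objects are in one orbit. -/
theorem orbit_of_chk_pair {X : Type*} [MulAction (Equiv.Perm Cfsg.GolayPt) X]
    (S : Subgroup (Equiv.Perm Cfsg.GolayPt)) (den : ℕ → X) (act : ℕ → ℕ → ℕ)
    (hact : ∀ (σ : Equiv.Perm Cfsg.GolayPt) (t c : ℕ), RepT σ⁻¹ t → σ • den c = den (act t c))
    {L : List (Equiv.Perm Cfsg.GolayPt)} {Tinv : List ℕ}
    (hrep : List.Forall₂ (fun σ t => RepT σ⁻¹ t) L Tinv) (hL : ∀ σ ∈ L, σ ∈ S)
    (objs : List ℕ) (cert : List (ℕ × ℕ)) (hlen : cert.length + 1 = objs.length)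
    (hchk : chkOrb act Tinv objs cert 1 = true) :
    ∀ c ∈ objs, ∀ c' ∈ objs, ∃ u ∈ S, u • den c = den c' := by
  intro c hc c' hc'
  obtain ⟨u, hu, hu2⟩ := orbit_of_chk_mem S den act hact hrep hL objs cert hlen hchk c hc
  obtain ⟨v, hv, hv2⟩ := orbit_of_chk_mem S den act hact hrep hL objs cert hlen hchk c' hc'
  refine ⟨v * u⁻¹, S.mul_mem hv (S.inv_mem hu), ?_⟩
  rw [← hu2, mul_smul, inv_smul_smul, hv2]

/-! ### Counting code words -/

/-- Number of `k < n` with `f k`. -/
def cntL (f : ℕ → Bool) : ℕ → ℕ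
  | 0 => 0
  | n + 1 => Nat.add (cond (f n) 1 0) (cntL f n)

theorem cntL_eq (f : ℕ → Bool) (n : ℕ) :
    cntL f n = ((Finset.range n).filter (fun k => f k = true)).card := by
  induction n with
  | zero => simp [cntL]
  | succ n ih =>
    rw [Finset.range_add_one, Finset.filter_insert]
    by_cases h : f n = true
    · rw [if_pos h, Finset.card_insert_of_notMem (by simp)]
      simp only [cntL, h, cond_true]
      rw [ih]
      exact Nat.add_comm _ _
    · rw [if_neg h]
      have h' : f n = false := by simpa using h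
      simp only [cntL, h', cond_false]
      rw [ih]
      exact Nat.zero_add _

theorem isCode_enc {k : ℕ} (hk : k < 4096) : isCode (enc k) = true := by
  unfold isCode
  rw [enc_shift k hk]
  exact beq_self_eq_true _

theorem enc_injective {k k' : ℕ} (hk : k < 4096) (hk' : k' < 4096) (h : enc k = enc k') :
    k = k' := by
  rw [← enc_shift k hk, ← enc_shift k' hk', h]

theorem mem_wordsOfWeight_iff (w : ℕ) (o : Finset Cfsg.GolayPt) :
    o ∈ Cfsg.wordsOfWeight (Cfsg.golayCode : Set (Cfsg.GolayPt → ZMod 2)) w ↔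
      ∃ k < 4096, popc (enc k) = w ∧ o = Cfsg.Agent.Lib.Helper7.setOf (enc k) := by
  constructor
  · rintro ⟨h1, h2⟩
    obtain ⟨k, hk, rfl⟩ := exists_mask_of_mem_golaySupports h1
    rw [card_setOf] at h2
    exact ⟨k, hk, h2, rfl⟩
  · rintro ⟨k, hk, h2, rfl⟩
    exact ⟨setOf_mem_golaySupports (enc_lt k) (isCode_enc hk), by rw [card_setOf, h2]⟩

theorem mem_octads_iff_enc (o : Finset Cfsg.GolayPt) :
    o ∈ Cfsg.octads ↔ ∃ k < 4096, popc (enc k) = 8 ∧ o = Cfsg.Agent.Lib.Helper7.setOf (enc k) :=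
  mem_wordsOfWeight_iff 8 o

theorem mem_dodecads_iff_enc (o : Finset Cfsg.GolayPt) :
    o ∈ Cfsg.dodecads ↔ ∃ k < 4096, popc (enc k) = 12 ∧ o = Cfsg.Agent.Lib.Helper7.setOf (enc k) :=
  mem_wordsOfWeight_iff 12 o

/-- Counting the code words of a given weight with a property. -/
theorem ncard_words_filter (w : ℕ) (P : Finset Cfsg.GolayPt → Prop) (f : ℕ → Bool)
    (hP : ∀ k < 4096, popc (enc k) = w → (P (Cfsg.Agent.Lib.Helper7.setOf (enc k)) ↔ f k = true)) :
    {o | o ∈ Cfsg.wordsOfWeight (Cfsg.golayCode : Set (Cfsg.GolayPt → ZMod 2)) w ∧ P o}.ncard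
      = cntL (fun k => popc (enc k) == w && f k) 4096 := by
  classical
  rw [cntL_eq]
  have hset : {o | o ∈ Cfsg.wordsOfWeight (Cfsg.golayCode : Set (Cfsg.GolayPt → ZMod 2)) w ∧ P o}
      = (fun k => Cfsg.Agent.Lib.Helper7.setOf (enc k)) ''
        (((Finset.range 4096).filter (fun k => (popc (enc k) == w && f k) = true) : Finset ℕ) :
          Set ℕ) := by
    ext o
    simp only [Set.mem_ofPred_eq, Set.mem_image, Finset.mem_coe, Finset.mem_filter,
      Finset.mem_range, Bool.and_eq_true, beq_iff_eq]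
    constructor
    · rintro ⟨h1, h2⟩
      obtain ⟨k, hk, hw, rfl⟩ := (mem_wordsOfWeight_iff w o).mp h1
      exact ⟨k, ⟨hk, hw, (hP k hk hw).mp h2⟩, rfl⟩
    · rintro ⟨k, ⟨hk, hw, hf⟩, rfl⟩
      exact ⟨(mem_wordsOfWeight_iff w _).mpr ⟨k, hk, hw, rfl⟩, (hP k hk hw).mpr hf⟩
  rw [hset, Set.InjOn.ncard_image, Set.ncard_coe_finset]
  intro k hk k' hk' h
  simp only [Finset.mem_coe, Finset.mem_filter, Finset.mem_range] at hk hk'
  exact enc_injective hk.1 hk'.1 (setOf_injective (enc_lt k) (enc_lt k') h)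

end Cfsg.Agent.Lib.Helper26
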