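import Cfsg.Agent.Lib.Helper27.AutTower
import Cfsg.Prelude.Def_KGroupFacts

set_option autoImplicit false

/-! # An abstract criterion for an outer automorphism group of order two

A group with a self-centralising subgroup `⟨n⟩` of order `11` (with `11²` not dividing the group
order), an element `f` with `f n f⁻¹ = n³` whose centraliser is `{f^i h^j}`, generated by `n, f, h`,
and with enough relations, has exactly two classes of automorphisms. -/

namespace Cfsg.Agent.Lib.Helper26.McL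

open Cfsg Cfsg.Agent.Lib.Helper27

section Abs

variable {G : Type*} [Group G]

/-- Words in three letters. -/
def wd3 (a b c : G) (W : List ℕ) : G :=
  (W.map fun t => if t = 0 then a else if t = 1 then b else c).prod

theorem wd3_nil (a b c : G) : wd3 a b c [] = 1 := by simp [wd3]

theorem wd3_cons (a b c : G) (t : ℕ) (W : List ℕ) :
    wd3 a b c (t :: W) = (if t = 0 then a else if t = 1 then b else c) * wd3 a b c W := by
  simp [wd3]

theorem map_wd3 {G' : Type*} [Group G'] (γ : G →* G') (a b c : G) (W : List ℕ) :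
    γ (wd3 a b c W) = wd3 (γ a) (γ b) (γ c) W := by
  induction W with
  | nil => simp [wd3]
  | cons t W ih =>
    rw [wd3_cons, wd3_cons, map_mul, ih]
    congr 1
    split_ifs <;> rfl

theorem eq_of_gen3 {a b c : G} (hgen : Subgroup.closure {a, b, c} = ⊤) (α β : MulAut G)
    (h1 : α a = β a) (h2 : α b = β b) (h3 : α c = β c) : α = β := by
  have h : (α.toMonoidHom : G →* G) = β.toMonoidHom := by
    apply MonoidHom.eq_of_eqOn_dense hgen
    intro y hy
    rcases hy with rfl | rfl | rfl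
    · exact h1
    · exact h2
    · exact h3
  ext y
  exact congrArg (fun f : G →* G => f y) h

theorem conj_pow_f {n f : G} (hfn : f * n * f⁻¹ = n ^ 3) (b : ℕ) :
    f ^ b * n * (f ^ b)⁻¹ = n ^ 3 ^ b := by
  induction b with
  | zero => simp
  | succ b ih =>
    have h1 : f ^ (b + 1) * n * (f ^ (b + 1))⁻¹ = f * (f ^ b * n * (f ^ b)⁻¹) * f⁻¹ := by
      rw [pow_succ']
      simp only [mul_inv_rev, mul_assoc]
    rw [h1, ih, ← conj_pow, hfn, ← pow_mul, ← pow_succ']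

theorem res_cases11 : ∀ m < 11, m ≠ 0 → ∃ b < 5, 3 ^ b * m % 11 = 1 ∨ 3 ^ b * m % 11 = 10 := by
  decide

theorem comm_pow_f {n f : G} (hfn : f * n * f⁻¹ = n ^ 3) (a : ℕ) :
    f * n ^ a = n ^ (3 * a) * f := by
  have h : f * n ^ a * f⁻¹ = n ^ (3 * a) := by rw [← conj_pow, hfn, ← pow_mul]
  rw [← h]
  group

/-- The normal form of an automorphism. -/
theorem aut_cases [Finite G] {n f h : G} (ζ : MulAut G) {i0 j0 : ℕ}
    (hn : orderOf n = 11) (h11 : ¬ 11 ^ 2 ∣ Nat.card G)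
    (hfn : f * n * f⁻¹ = n ^ 3) (hhf : h * f = f * h)
    (hCn : ∀ g : G, g * n = n * g → g ∈ Subgroup.zpowers n)
    (hCf : ∀ g : G, g * f = f * g → ∃ i < 5, ∃ j < 5, g = f ^ i * h ^ j)
    (hgen : Subgroup.closure {n, f, h} = ⊤)
    (hζn : ζ n = n) (hζf : ζ f = f) (hζh : ζ h = f ^ i0 * h ^ j0)
    (hrel : ∀ k, (k = 1 ∨ k = 10) → ∀ i < 5, ∀ j < 5,
      (k = 1 ∧ i = 0 ∧ j = 1) ∨ (k = 1 ∧ i = i0 ∧ j = j0) ∨
        ∃ W : List ℕ, wd3 n f h W = 1 ∧ wd3 (n ^ k) f (f ^ i * h ^ j) W ≠ 1)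
    (α : MulAut G) : ∃ u : G, MulAut.conj u * α = 1 ∨ MulAut.conj u * α = ζ := by
  have : Fact (Nat.Prime 11) := ⟨by norm_num⟩
  have hPc : Nat.card (Subgroup.zpowers n) = 11 := by rw [Nat.card_zpowers, hn]
  have hP'c : Nat.card (Subgroup.zpowers (α n)) = 11 := by
    rw [Nat.card_zpowers, MulEquiv.orderOf_eq, hn]
  obtain ⟨g, hg⟩ :=
    AutTower.exists_conj_mem h11 (Subgroup.zpowers n) (Subgroup.zpowers (α n)) hPc hP'c
  obtain ⟨k, hk⟩ := AutTower.exists_pow_of_mem_zpowers (hg _ (Subgroup.mem_zpowers (α n)))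
  obtain ⟨β, hβ⟩ : ∃ β : MulAut G, β = MulAut.conj g * α := ⟨_, rfl⟩
  have hβn : β n = n ^ k := by rw [hβ]; exact hk
  have hn1 : n ≠ 1 := by
    intro h1
    rw [h1, orderOf_one] at hn
    norm_num at hn
  have hk1 : n ^ k ≠ 1 := by
    intro h1
    rw [h1] at hβn
    exact hn1 (β.injective (by rw [hβn, map_one]))
  obtain ⟨l, hl⟩ := AutTower.exists_pow_pow_eq hn hk1
  have hβf : β f * n * (β f)⁻¹ = n ^ 3 := by
    have e1 : β f * n ^ k * (β f)⁻¹ = (n ^ k) ^ 3 := by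
      rw [← hβn, ← map_inv, ← map_mul, ← map_mul, hfn, map_pow]
    calc β f * n * (β f)⁻¹ = β f * (n ^ k) ^ l * (β f)⁻¹ := by rw [hl]
      _ = (β f * n ^ k * (β f)⁻¹) ^ l := by rw [conj_pow]
      _ = ((n ^ k) ^ 3) ^ l := by rw [e1]
      _ = ((n ^ k) ^ l) ^ 3 := pow_right_comm _ _ _
      _ = n ^ 3 := by rw [hl]
  have hc : (f⁻¹ * β f) * n = n * (f⁻¹ * β f) := by
    have e2 : β f * n = n ^ 3 * β f := by
      rw [← hβf]; group
    have e4 : f⁻¹ * n ^ 3 = n * f⁻¹ := by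
      rw [← hfn]; group
    calc f⁻¹ * β f * n = f⁻¹ * (β f * n) := mul_assoc _ _ _
      _ = f⁻¹ * (n ^ 3 * β f) := by rw [e2]
      _ = f⁻¹ * n ^ 3 * β f := (mul_assoc _ _ _).symm
      _ = n * f⁻¹ * β f := by rw [e4]
      _ = n * (f⁻¹ * β f) := mul_assoc _ _ _
  obtain ⟨i, hi⟩ := AutTower.exists_pow_of_mem_zpowers (hCn _ hc)
  have hβf' : β f = f * n ^ i := by rw [← hi]; group
  have hn11 : n ^ 11 = 1 := by rw [← hn]; exact pow_orderOf_eq_one n
  obtain ⟨γ, hγ⟩ : ∃ γ : MulAut G, γ = MulAut.conj (n ^ (7 * i)) * β := ⟨_, rfl⟩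
  have hγn : γ n = n ^ k := by
    have e : γ n = n ^ (7 * i) * β n * (n ^ (7 * i))⁻¹ := by rw [hγ]; rfl
    rw [e, hβn, ← pow_add, mul_inv_eq_iff_eq_mul, ← pow_add, add_comm]
  have hγf : γ f = f := by
    have e : γ f = n ^ (7 * i) * β f * (n ^ (7 * i))⁻¹ := by rw [hγ]; rfl
    rw [e, hβf', mul_inv_eq_iff_eq_mul, comm_pow_f hfn (7 * i), comm_pow_f hfn i, ← mul_assoc,
      ← pow_add]
    congr 1
    have e3 : 3 * (7 * i) = (7 * i + 3 * i) + 11 * i := by ring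
    rw [e3, pow_add (n) (7 * i + 3 * i) (11 * i), pow_mul n 11 i, hn11, one_pow, mul_one, pow_add]
  have hkm : n ^ k = n ^ (k % 11) := by rw [← hn, pow_mod_orderOf]
  have hm0 : k % 11 ≠ 0 := by
    intro h0
    apply hk1
    rw [hkm, h0, pow_zero]
  obtain ⟨b, -, hb⟩ := res_cases11 (k % 11) (Nat.mod_lt _ (by norm_num)) hm0
  obtain ⟨δ, hδ⟩ : ∃ δ : MulAut G, δ = MulAut.conj (f ^ b) * γ := ⟨_, rfl⟩
  have hδn : δ n = n ^ (3 ^ b * (k % 11) % 11) := by
    have e : δ n = f ^ b * γ n * (f ^ b)⁻¹ := by rw [hδ]; rfl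
    have e2 : n ^ (3 ^ b * (k % 11) % 11) = n ^ (3 ^ b * (k % 11)) := by
      have h := pow_mod_orderOf n (3 ^ b * (k % 11))
      rw [hn] at h
      exact h
    rw [e, hγn, hkm, ← conj_pow, conj_pow_f hfn, ← pow_mul, e2]
  have hδf : δ f = f := by
    have e : δ f = f ^ b * γ f * (f ^ b)⁻¹ := by rw [hδ]; rfl
    rw [e, hγf]
    group
  have hδh : δ h * f = f * δ h := by
    have e := congrArg δ hhf
    rw [map_mul, map_mul, hδf] at e
    exact e
  obtain ⟨i', hi', j', hj', hij⟩ := hCf _ hδh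
  have hδα : MulAut.conj (f ^ b * n ^ (7 * i) * g) * α = δ := by
    rw [hδ, hγ, hβ, map_mul, map_mul, mul_assoc, mul_assoc]
  refine ⟨f ^ b * n ^ (7 * i) * g, ?_⟩
  rw [hδα]
  rcases hrel _ hb i' hi' j' hj' with ⟨e1, e2, e3⟩ | ⟨e1, e2, e3⟩ | ⟨W, hW1, hW2⟩
  · left
    apply eq_of_gen3 hgen
    · rw [hδn, e1, pow_one]; rfl
    · rw [hδf]; rfl
    · rw [hij, e2, e3, pow_zero, one_mul, pow_one]; rfl
  · right
    apply eq_of_gen3 hgen
    · rw [hδn, e1, pow_one, hζn]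
    · rw [hδf, hζf]
    · rw [hij, e2, e3, hζh]
  · exfalso
    apply hW2
    have h3 := map_wd3 δ.toMonoidHom n f h W
    rw [hW1, map_one] at h3
    have e5 : δ.toMonoidHom n = n ^ (3 ^ b * (k % 11) % 11) := hδn
    have e6 : δ.toMonoidHom f = f := hδf
    have e7 : δ.toMonoidHom h = f ^ i' * h ^ j' := hij
    rw [e5, e6, e7] at h3
    exact h3.symm

/-- The outer automorphism group has order two. -/
theorem out_two [Finite G] {n f h : G} (ζ : MulAut G) {i0 j0 : ℕ}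
    (hn : orderOf n = 11) (h11 : ¬ 11 ^ 2 ∣ Nat.card G)
    (hfn : f * n * f⁻¹ = n ^ 3) (hhf : h * f = f * h)
    (hCn : ∀ g : G, g * n = n * g → g ∈ Subgroup.zpowers n)
    (hCf : ∀ g : G, g * f = f * g → ∃ i < 5, ∃ j < 5, g = f ^ i * h ^ j)
    (hgen : Subgroup.closure {n, f, h} = ⊤)
    (hζn : ζ n = n) (hζf : ζ f = f) (hζh : ζ h = f ^ i0 * h ^ j0)
    (hζ2 : ζ * ζ = 1) (hζh1 : ζ h ≠ h)
    (hrel : ∀ k, (k = 1 ∨ k = 10) → ∀ i < 5, ∀ j < 5,
      (k = 1 ∧ i = 0 ∧ j = 1) ∨ (k = 1 ∧ i = i0 ∧ j = j0) ∨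
        ∃ W : List ℕ, wd3 n f h W = 1 ∧ wd3 (n ^ k) f (f ^ i * h ^ j) W ≠ 1) :
    Nat.card (Cfsg.Out G) = 2 := by
  have key := aut_cases ζ hn h11 hfn hhf hCn hCf hgen hζn hζf hζh hrel
  have hζ : ζ ∉ Cfsg.Inn G := by
    rintro ⟨m, hm⟩
    have e1 : m * n * m⁻¹ = n := by
      have := congrArg (fun φ : MulAut G => φ n) hm
      simp only [hζn] at this
      exact this
    have hmn : m * n = n * m := mul_inv_eq_iff_eq_mul.mp e1
    obtain ⟨i, hi⟩ := AutTower.exists_pow_of_mem_zpowers (hCn m hmn)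
    have e2 : m * f * m⁻¹ = f := by
      have := congrArg (fun φ : MulAut G => φ f) hm
      simp only [hζf] at this
      exact this
    have hmf : m * f = f * m := mul_inv_eq_iff_eq_mul.mp e2
    rw [hi, comm_pow_f hfn i] at hmf
    have e3 : n ^ i = n ^ (3 * i) := mul_right_cancel hmf
    have e4 := pow_eq_pow_iff_modEq.mp e3
    rw [hn] at e4
    have e5 : i % 11 = 0 := by
      unfold Nat.ModEq at e4
      omega
    have e6 : m = 1 := by
      rw [hi, ← pow_mod_orderOf, hn, e5, pow_zero]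
    apply hζh1
    rw [← hm, e6]
    simp
  show (Cfsg.Inn G).index = 2
  rw [Subgroup.index_eq_two_iff]
  refine ⟨ζ, fun b => ?_⟩
  by_cases hb : b ∈ Cfsg.Inn G
  · right
    refine ⟨hb, fun h2 => hζ ?_⟩
    have e : ζ = b⁻¹ * (b * ζ) := by group
    rw [e]
    exact Subgroup.mul_mem _ (Subgroup.inv_mem _ hb) h2
  · left
    obtain ⟨u, hu | hu⟩ := key b
    · exfalso
      apply hb
      have e : b = (MulAut.conj u)⁻¹ := eq_inv_of_mul_eq_one_right hu
      rw [e]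
      exact Subgroup.inv_mem _ ⟨u, rfl⟩
    · refine ⟨?_, hb⟩
      have e : b * ζ = (MulAut.conj u)⁻¹ := by
        have e' : b = (MulAut.conj u)⁻¹ * ζ := by rw [← hu]; group
        rw [e', mul_assoc, hζ2, mul_one]
      rw [e]
      exact Subgroup.inv_mem _ ⟨u, rfl⟩

end Abs

end Cfsg.Agent.Lib.Helper26.McL
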