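import Cfsg.Agent.Lib.Helper26.McElts

set_option autoImplicit false

/-! # The stabiliser of a point in `Co3`: its order and three generators -/

namespace Cfsg.Agent.Lib.Helper26.Co3

open Cfsg Cfsg.Spor Cfsg.Agent.Lib.Helper7 Cfsg.Agent.Lib.Helper92

/-- The stabiliser of the first point in `Co3`. -/
def Mc : Subgroup ↥Spor.Co3 := fixS ⊤ 0

theorem mem_Mc {g : ↥Spor.Co3} : g ∈ Mc ↔ g.1 (P 0) = P 0 := by
  unfold Mc
  rw [mem_fixS]
  exact ⟨fun h => h.2, fun h => ⟨Subgroup.mem_top _, h⟩⟩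

/-- The orbit of the first point under `Z` and `X`. -/
def orb0 : List (ℕ × ℕ × ℕ) := [(276, 0, 0), (1, 0, 1), (277, 276, 1), (488, 1, 0), (2, 1, 1), (212, 277, 0), (278, 277, 1), (333, 488, 1), (547, 2, 0), (3, 2, 1), (57, 212, 1), (271, 278, 0), (279, 278, 1), (353, 333, 1), (535, 547, 1), (459, 3, 0), (4, 3, 1), (77, 57, 1), (259, 271, 1), (183, 279, 0), (280, 279, 1), (295, 353, 0), (382, 353, 1), (546, 535, 0), (484, 535, 1), (531, 459, 1), (545, 4, 0), (5, 4, 1), (19, 77, 0), (106, 77, 1), (270, 259, 0), (208, 259, 1), (255, 183, 1), (269, 280, 0), (281, 280, 1), (296, 295, 1), (256, 382, 0), (425, 382, 1), (529, 546, 1), (321, 484, 1), (88, 531, 0), (476, 531, 1), (524, 545, 1), (35, 5, 0), (6, 5, 1), (20, 19, 1), (532, 106, 0), (149, 106, 1), (253, 270, 1), (45, 208, 1), (364, 255, 0), (200, 255, 1), (248, 269, 1), (311, 281, 0), (282, 281, 1), (399, 296, 0), (297, 296, 1), (202, 256, 1), (318, 425, 0), (486, 425, 1), (16, 529, 0), (467, 529,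 1), (369, 321, 0), (337, 321, 1), (122, 88, 1), (503, 476, 0), (301, 476, 1), (548, 524, 0), (447, 524, 1), (43, 35, 1), (414, 6, 0), (7, 6, 1), (123, 20, 0), (21, 20, 1), (478, 532, 1), (42, 149, 0), (210, 149, 1), (292, 253, 0), (191, 253, 1), (93, 45, 0), (61, 45, 1), (398, 364, 1), (227, 200, 0), (25, 200, 1), (272, 248, 0), (171, 248, 1), (319, 311, 1), (138, 282, 0), (283, 282, 1), (449, 399, 1), (442, 297, 0), (298, 297, 1), (205, 202, 0), (30, 202, 1), (331, 318, 1), (139, 486, 0), (328, 486, 1), (17, 16, 1), (470, 467, 0), (542, 467, 1), (406, 369, 1), (291, 337, 0), (359, 337, 1), (440, 122, 0), (172, 122, 1), (379, 503, 1), (303, 301, 1), (536, 548, 1), (451, 447, 0), (515, 447, 1), (462, 43, 0), (56, 43, 1), (469, 414, 1), (26, 7, 0), (8, 7, 1), (173, 123, 1), (166, 21, 0), (22, 21, 1), (481, 478, 0), (306, 478, 1), (55, 42, 1), (415, 210, 0), (52, 210, 1), (293, 292, 1), (194, 191, 0), (266, 191, 1), (130, 93, 1), (15, 61, 0), (83, 61, 1),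 (164, 398, 0), (448, 398, 1), (103, 227, 1), (27, 25, 1), (260, 272, 1), (175, 171, 0), (239, 171, 1), (186, 319, 0), (332, 319, 1), (193, 138, 1), (302, 283, 0), (284, 283, 1), (360, 449, 0), (518, 449, 1), (509, 442, 1), (494, 298, 0), (41, 205, 1), (110, 30, 0), (243, 331, 0), (350, 331, 1), (431, 328, 0), (347, 328, 1), (74, 17, 0), (18, 17, 1), (512, 542, 1), (86, 406, 0), (458, 406, 1), (274, 359, 0), (392, 359, 1), (507, 440, 1), (241, 172, 1), (517, 379, 0), (420, 379, 1), (307, 303, 1), (540, 536, 0), (520, 451, 1), (151, 515, 0), (419, 515, 1), (534, 462, 1), (456, 56, 0), (75, 56, 1), (463, 469, 0), (544, 469, 1), (29, 26, 1), (450, 8, 0), (9, 8, 1), (84, 173, 0), (242, 173, 1), (233, 166, 1), (218, 22, 0), (317, 481, 1), (386, 306, 0), (519, 55, 0), (155, 52, 0), (71, 52, 1), (294, 293, 1), (236, 266, 1), (362, 130, 0), (182, 130, 1), (550, 83, 0), (116, 83, 1), (231, 164, 1), (144, 103, 1), (31, 27, 1), (264, 260, 0), (244, 175, 1), (427,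 239, 0), (143, 239, 1), (258, 186, 1), (180, 332, 0), (351, 332, 1), (187, 193, 0), (268, 193, 1), (305, 302, 1), (174, 284, 0), (285, 284, 1), (393, 360, 1), (497, 518, 0), (428, 518, 1), (365, 509, 0), (401, 509, 1), (352, 494, 1), (53, 41, 1), (154, 110, 1), (157, 243, 1), (377, 350, 1), (94, 347, 0), (373, 347, 1), (101, 74, 1), (371, 18, 0), (510, 512, 0), (407, 512, 1), (120, 86, 1), (433, 458, 0), (530, 458, 1), (438, 392, 1), (153, 507, 0), (389, 507, 1), (146, 241, 1), (422, 517, 1), (48, 420, 0), (477, 420, 1), (185, 307, 0), (312, 307, 1), (504, 540, 1), (87, 520, 0), (435, 520, 1), (213, 151, 1), (475, 419, 1), (338, 534, 0), (483, 534, 1), (527, 456, 1), (446, 75, 0), (104, 75, 1), (537, 463, 1), (114, 544, 0), (521, 544, 1), (441, 29, 0), (34, 29, 1), (10, 9, 1), (117, 84, 1), (221, 242, 0), (152, 242, 1), (89, 233, 0), (125, 233, 1), (76, 218, 1), (329, 317, 1), (430, 386, 1), (370, 71, 0), (97, 71, 1), (95, 294, 0), (234, 236, 0), (131,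 236, 1), (396, 362, 1), (254, 182, 1), (162, 116, 1), (429, 231, 0), (113, 231, 1), (324, 144, 0), (201, 144, 1), (461, 31, 0), (36, 31, 1), (228, 264, 1), (363, 244, 0), (159, 244, 1), (489, 427, 1), (199, 143, 1), (62, 258, 0), (207, 258, 1), (251, 180, 1), (170, 351, 0), (380, 351, 1), (261, 187, 1), (390, 268, 0), (245, 268, 1), (165, 305, 0), (310, 305, 1), (286, 285, 1), (203, 393, 0), (423, 428, 0), (490, 428, 1), (522, 401, 0), (453, 401, 1), (408, 352, 0), (381, 352, 1), (480, 53, 0), (72, 53, 1), (412, 154, 0), (217, 154, 1), (220, 157, 1), (417, 377, 1), (132, 94, 1), (167, 373, 0), (141, 101, 1), (410, 371, 1), (403, 510, 1), (411, 407, 0), (460, 407, 1), (128, 120, 0), (496, 433, 1), (474, 530, 1), (215, 153, 1), (434, 389, 1), (204, 146, 1), (66, 48, 1), (150, 477, 0), (304, 477, 1), (257, 185, 1), (287, 312, 0), (322, 312, 1), (543, 504, 0), (383, 504, 1), (121, 87, 1), (499, 435, 1), (59, 213, 1), (156, 475, 0), (299, 475, 1), (361, 338,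 1), (491, 483, 0), (320, 483, 1), (161, 527, 0), (514, 446, 1), (326, 104, 0), (147, 104, 1), (492, 537, 1), (160, 114, 1), (439, 521, 1), (508, 441, 1), (454, 34, 0), (40, 34, 1), (11, 10, 1), (479, 117, 0), (214, 152, 1), (246, 125, 0), (177, 125, 1), (105, 76, 1), (348, 329, 1), (136, 430, 0), (493, 430, 1), (443, 97, 0), (134, 95, 1), (127, 234, 1), (135, 131, 0), (184, 131, 1), (404, 396, 0), (198, 254, 1), (158, 113, 1), (342, 324, 1), (426, 201, 0), (28, 201, 1), (533, 461, 1), (46, 36, 1), (267, 228, 0), (107, 228, 1), (397, 363, 1), (223, 159, 1), (335, 489, 1), (432, 199, 0), (23, 199, 1), (85, 62, 1), (44, 207, 1), (437, 251, 0), (238, 170, 1), (50, 380, 0), (216, 261, 1), (436, 390, 1), (163, 245, 1), (232, 165, 1), (178, 310, 0), (316, 310, 1), (32, 203, 1), (33, 490, 0), (336, 490, 1), (444, 522, 1), (523, 453, 1), (424, 381, 1), (313, 480, 1), (54, 72, 0), (99, 72, 1), (466, 412, 1), (69, 217, 1), (334, 220, 0), (82, 220, 1), (384, 417,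 0), (472, 417, 1), (108, 141, 0), (196, 141, 1), (51, 410, 0), (464, 410, 1), (455, 403, 1), (465, 411, 1), (58, 496, 0), (358, 496, 1), (551, 474, 0), (498, 434, 1), (37, 204, 1), (90, 66, 1), (211, 150, 1), (309, 304, 1), (325, 257, 0), (206, 257, 1), (288, 287, 1), (339, 322, 1), (516, 543, 1), (471, 383, 0), (47, 121, 0), (368, 499, 1), (79, 59, 1), (219, 156, 1), (300, 299, 1), (394, 361, 1), (225, 161, 1), (68, 514, 0), (344, 326, 1), (501, 492, 0), (341, 492, 1), (385, 160, 0), (224, 160, 1), (506, 439, 1), (395, 508, 1), (525, 454, 1), (12, 11, 1), (308, 479, 1), (60, 214, 1), (168, 246, 1), (247, 177, 1), (148, 105, 1), (330, 348, 0), (375, 348, 1), (190, 136, 1), (345, 493, 1), (327, 134, 0), (188, 134, 1), (179, 127, 1), (189, 135, 1), (275, 198, 0), (222, 158, 1), (366, 342, 1), (487, 426, 1), (49, 533, 0), (482, 533, 1), (63, 46, 1), (240, 267, 1), (195, 107, 0), (323, 397, 0), (92, 223, 1), (355, 335, 1), (495, 432, 1), (24, 23, 1), (118,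 85, 1), (65, 216, 1), (109, 436, 0), (500, 436, 1), (230, 163, 1), (119, 232, 1), (249, 178, 1), (91, 32, 0), (38, 32, 1), (39, 33, 1), (357, 336, 1), (511, 444, 1), (445, 523, 1), (485, 424, 1), (73, 54, 1), (402, 99, 0), (354, 334, 1), (81, 82, 0), (115, 82, 1), (421, 472, 0), (549, 472, 1), (145, 196, 0), (273, 196, 1), (70, 51, 1), (538, 464, 1), (452, 455, 0), (526, 455, 1), (539, 465, 1), (78, 58, 1), (391, 358, 1), (142, 498, 0), (124, 90, 1), (315, 309, 1), (343, 325, 1), (289, 206, 0), (96, 339, 0), (64, 47, 1), (405, 368, 1), (457, 219, 0), (80, 219, 1), (129, 300, 0), (98, 225, 1), (374, 501, 1), (356, 506, 0), (388, 506, 1), (13, 12, 1), (367, 308, 0), (314, 308, 1), (235, 168, 1), (169, 247, 1), (209, 148, 1), (349, 330, 1), (126, 375, 0), (346, 327, 1), (262, 188, 1), (176, 179, 0), (250, 179, 1), (263, 189, 1), (418, 222, 0), (400, 366, 1), (67, 49, 1), (372, 63, 0), (340, 323, 1), (181, 495, 0), (112, 230, 1), (14, 38, 0), (111, 511,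 0), (513, 445, 1), (100, 73, 1), (192, 354, 0), (541, 549, 0), (265, 273, 0), (502, 538, 0), (468, 78, 0), (197, 142, 1), (376, 124, 0), (140, 343, 0), (290, 289, 1), (528, 457, 1), (137, 98, 1), (413, 374, 1), (387, 356, 1), (237, 169, 1), (226, 262, 0), (473, 418, 1), (416, 67, 0), (252, 181, 1), (409, 513, 1), (505, 541, 1), (229, 265, 1), (378, 502, 1), (102, 197, 0), (133, 137, 0)]

set_option maxRecDepth 100000 in
theorem orb0_ok : orbOK [tZ, tX] [0, 1] [0] orb0 = true := by decide +kernel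

set_option maxRecDepth 100000 in
theorem orb0_nd : nodupN (0 :: orb0.map (fun q => q.1)) = true := by decide +kernel

set_option maxRecDepth 100000 in
theorem orb0_len : (0 :: orb0.map (fun q => q.1)).length = 552 := by decide +kernel

set_option maxRecDepth 100000 in
theorem card_Mc_le : Nat.card Mc ≤ 898128000 := by
  have hacc : ∀ T ∈ [tZ, tX], Real (⊤ : Subgroup ↥Spor.Co3) T := by
    intro T hT
    simp only [List.mem_cons, List.not_mem_nil, or_false] at hT
    rcases hT with rfl | rfl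
    · exact ⟨Z, Subgroup.mem_top _, actsZ⟩
    · exact ⟨X, Subgroup.mem_top _, actsX⟩
  have hreach := orb_reach (H := ⊤) (K := ⊤) hacc (pre := [])
    (fun _ hp => absurd hp List.not_mem_nil) (fun g hg _ => hg) (b := 0) (gs := [0, 1])
    (by decide +kernel) orb0 [0]
    (by
      intro y hy
      rw [List.mem_singleton] at hy
      subst hy
      exact ⟨by norm_num, 1, Subgroup.mem_top _, rfl⟩) orb0_ok
  have hstep := orbit_step (⊤ : Subgroup ↥Spor.Co3) 0 (0 :: orb0.map (fun q => q.1))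
    (nodupN_sound (0 :: orb0.map (fun q => q.1)) orb0_nd)
    (by
      intro y hy
      rcases List.mem_cons.mp hy with rfl | hy
      · norm_num
      · exact (hreach y hy).1)
    (by
      intro y hy
      rcases List.mem_cons.mp hy with rfl | hy
      · exact ⟨1, Subgroup.mem_top _, rfl⟩
      · exact (hreach y hy).2)
  rw [orb0_len, Subgroup.card_top, card_co3] at hstep
  have e : Nat.card Mc = Nat.card (fixS (⊤ : Subgroup ↥Spor.Co3) 0) := rfl
  omega

/-- The program. -/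
def mprog : List Ins := [.mul 2 2, .mul 3 0, .mul 4 0, .mul 5 0, .mul 6 0, .mul 7 0, .mul 8 0, .mul 9 0, .mul 10 0, .mul 9 11, .mul 10 8, .mul 11 7, .mul 12 7, .mul 13 5, .mul 14 5, .mul 15 15, .mul 18 6, .mul 17 6, .mul 18 6, .mul 21 6, .mul 22 5, .mul 21 5, .mul 24 5, .mul 23 5, .mul 24 5, .mul 25 5, .mul 28 5, .mul 28 6, .mul 28 6, .mul 31 5, .mul 32 5, .mul 31 5, .mul 32 4, .mul 35 4, .mul 35 4, .mul 35 4, .mul 36 4, .mul 39 3, .mul 38 3, .mul 40 1, .mul 42 41, .mul 42 41, .mul 42 0, .mul 33 0, .mul 45 3, .mul 46 47, .mul 1 0, .mul 4 0, .mul 1 3, .mul 0 4, .mul 1 52, .mul 1 2, .mul 3 1, .mul 4 9, .mul 6 0, .mul 11 0, .mul 1 0, .mul 5 57, .mul 3 0, .mul 59 6, .mul 12 3, .mul 4 1, .mul 2 0, .mul 0 8, .mul 2 9, .mul 1 12, .mul 5 0, .mul 8 3, .mul 1 9, .mul 8 14, .mul 1 0, .mul 3 12, .inv 58, .mul 0 1, .mul 0 0, .mul 1 0, .mul 2 0, .mul 9 16, .inv 42, .mul 0 1, .mul 0 5, .mul 1 5, .mul 2 5, .mul 9 3, .mul 4 4, .mul 11 4, .mul 12 4, .mul 7 3, .mul 8 3,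 .mul 9 3, .mul 16 3, .mul 17 3, .mul 12 3, .mul 19 3, .mul 20 3, .mul 21 3, .mul 22 3, .mul 17 3, .mul 24 3, .mul 25 3, .mul 26 3, .mul 21 3, .mul 24 33, .inv 66, .mul 0 1, .inv 22, .mul 0 1, .mul 39 42, .inv 85, .mul 0 1, .inv 10, .mul 0 1, .mul 0 0, .mul 6 0, .mul 2 1, .mul 8 1, .mul 4 2, .mul 10 2, .mul 6 3, .mul 7 3, .mul 8 3, .mul 9 3, .mul 10 3, .mul 16 3, .mul 12 3, .mul 22 54, .inv 93, .mul 0 1, .inv 27, .mul 0 1, .inv 7, .mul 0 1, .mul 24 54, .inv 93, .mul 0 1, .inv 36, .mul 0 1, .inv 12, .mul 0 1, .mul 7 0, .mul 1 0, .mul 2 0, .mul 77 34, .mul 0 78, .inv 105, .mul 0 1, .inv 48, .mul 0 1, .inv 24, .mul 0 1, .mul 79 24, .inv 124, .mul 0 1, .inv 51, .mul 0 1, .inv 33, .mul 0 1, .inv 15, .mul 0 1]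

/-- The chain of transversals. -/
def mlevels : List (ℕ × List ℕ × List (ℕ × ℕ × ℕ)) := [(1, [161, 160, 159, 85, 79, 52, 47, 27, 20, 9, 0], [(2, 1, 0), (5, 1, 2), (4, 2, 0), (8, 2, 1), (357, 2, 2), (441, 2, 3), (430, 2, 4), (10, 5, 0), (59, 5, 2), (417, 5, 3), (472, 5, 4), (312, 5, 5), (322, 5, 6), (17, 5, 7), (45, 5, 8), (14, 5, 9), (18, 4, 1), (453, 4, 2), (446, 4, 3), (458, 4, 4), (397, 4, 5), (493, 4, 6), (13, 4, 7), (411, 4, 8), (19, 4, 9), (16, 8, 0), (6, 8, 1), (522, 8, 2), (526, 8, 3), (22, 8, 4), (366, 8, 5), (15, 8, 7), (362, 8, 8), (21, 8, 10), (386, 357, 0), (506, 357, 2), (202, 357, 3), (387, 357, 4), (216, 357, 5), (490, 357, 6), (456, 357, 7), (324, 357, 9), (405, 357, 10), (416, 441, 0), (415, 441, 1), (367, 441, 2), (348, 441, 3), (468, 441, 4), (108, 441, 5), (436, 441, 6), (543, 441, 7), (494, 441, 10), (527, 430, 1), (363, 430, 2), (107, 430, 3), (503, 430, 4), (510, 430, 6), (375, 430, 7), (20, 10, 0), (465, 10, 2), (507, 10, 3),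 (369, 10, 4), (525, 10, 6), (546, 10, 8), (12, 10, 10), (25, 59, 0), (311, 59, 2), (32, 59, 3), (125, 59, 4), (269, 59, 5), (364, 59, 6), (245, 59, 7), (176, 59, 9), (396, 417, 0), (470, 417, 1), (540, 417, 5), (461, 417, 6), (454, 417, 7), (400, 417, 10), (449, 472, 1), (11, 472, 2), (327, 472, 7), (342, 312, 1), (145, 312, 2), (191, 312, 3), (354, 312, 4), (485, 312, 7), (448, 312, 9), (381, 322, 0), (501, 322, 1), (496, 322, 2), (464, 322, 3), (385, 322, 4), (339, 322, 6), (7, 17, 1), (473, 17, 2), (307, 17, 3), (343, 17, 4), (23, 45, 0), (30, 45, 1), (319, 45, 2), (532, 45, 4), (207, 14, 2), (491, 14, 5), (418, 18, 2), (42, 18, 3), (9, 18, 7), (373, 453, 0), (152, 453, 3), (128, 453, 5), (361, 453, 7), (442, 453, 8), (370, 453, 9), (399, 453, 10), (423, 446, 2), (548, 446, 4), (486, 446, 5), (208, 446, 6), (500, 446, 8), (514, 446, 9), (438, 446, 10), (509, 458, 1), (480, 458, 2), (406, 458, 3), (443, 458, 7), (346, 458, 8), (380, 458, 10), (534,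 397, 1), (499, 397, 2), (3, 397, 6), (392, 397, 9), (498, 493, 1), (57, 493, 3), (163, 493, 4), (310, 493, 5), (344, 493, 7), (429, 493, 10), (426, 13, 2), (316, 13, 4), (372, 13, 8), (437, 411, 4), (466, 411, 9), (530, 411, 10), (200, 19, 2), (455, 16, 2), (517, 16, 5), (305, 16, 6), (508, 16, 8), (469, 6, 2), (425, 6, 5), (402, 6, 6), (431, 522, 0), (551, 522, 3), (236, 522, 4), (309, 522, 5), (355, 522, 7), (413, 522, 9), (349, 522, 10), (432, 526, 0), (489, 526, 5), (102, 526, 6), (518, 366, 0), (513, 366, 2), (538, 366, 7), (528, 366, 10), (481, 15, 8), (340, 362, 0), (487, 362, 1), (212, 362, 3), (359, 362, 4), (412, 362, 5), (451, 362, 8), (52, 21, 2), (471, 21, 8), (544, 386, 3), (408, 386, 5), (477, 386, 6), (376, 386, 7), (394, 386, 9), (460, 506, 2), (329, 506, 4), (98, 506, 5), (515, 506, 6), (303, 506, 9), (146, 202, 0), (221, 202, 1), (347, 202, 3), (542, 202, 4), (76, 202, 5), (206, 202, 6), (393, 202, 8), (89, 202, 9), (54, 202, 10),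 (47, 387, 3), (300, 387, 4), (420, 387, 8), (410, 387, 9), (103, 216, 1), (337, 216, 4), (82, 216, 7), (168, 216, 10), (427, 490, 0), (157, 490, 6), (537, 490, 9), (462, 456, 10), (112, 324, 3), (475, 324, 9), (391, 405, 9), (326, 416, 0), (533, 416, 1), (440, 415, 1), (520, 415, 7), (549, 415, 8), (479, 367, 2), (351, 367, 9), (531, 348, 2), (229, 348, 5), (259, 348, 8), (325, 348, 9), (248, 468, 6), (424, 468, 7), (171, 108, 7), (84, 436, 3), (331, 543, 2), (332, 543, 7), (44, 494, 4), (315, 527, 4), (382, 527, 6), (302, 527, 7), (390, 527, 10), (131, 107, 5), (350, 107, 8), (353, 503, 2), (69, 20, 2), (550, 507, 8), (539, 525, 1), (127, 311, 3), (187, 311, 4), (240, 32, 1), (138, 32, 4), (143, 32, 9), (174, 125, 2), (80, 125, 7), (169, 125, 10), (95, 269, 1), (41, 269, 4), (226, 269, 8), (113, 269, 10), (519, 364, 4), (260, 364, 6), (334, 245, 8), (183, 245, 9), (253, 176, 2), (511, 461, 0), (377, 454, 3), (119, 327, 2), (398, 342, 4), (65, 145, 6),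 (92, 191, 0), (523, 381, 0), (434, 381, 1), (133, 381, 4), (60, 496, 2), (457, 307, 2), (28, 23, 4), (314, 23, 5), (37, 23, 8), (159, 207, 5), (495, 42, 5), (62, 152, 6), (265, 128, 1), (271, 361, 3), (228, 340, 4), (198, 542, 5)]), (2, [85, 79, 52, 47, 27, 20, 9, 0], [(441, 2, 0), (430, 2, 1), (348, 441, 0), (468, 441, 1), (108, 441, 2), (436, 441, 3), (543, 441, 4), (312, 441, 5), (494, 441, 7), (107, 430, 0), (503, 430, 1), (362, 430, 2), (510, 430, 3), (375, 430, 4), (3, 348, 0), (466, 348, 1), (229, 348, 2), (431, 348, 3), (449, 348, 4), (259, 348, 5), (325, 348, 6), (376, 348, 7), (13, 468, 0), (540, 468, 1), (498, 468, 2), (248, 468, 3), (424, 468, 4), (477, 468, 5), (526, 468, 6), (507, 108, 1), (11, 108, 2), (546, 108, 3), (171, 108, 4), (501, 108, 5), (57, 108, 7), (84, 436, 0), (373, 436, 1), (369, 436, 2), (406, 436, 3), (397, 436, 4), (326, 436, 5), (343, 436, 6), (305, 436, 7), (363, 543, 1), (332, 543, 4), (412, 543, 7), (191, 312, 0),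 (354, 312, 1), (454, 312, 2), (8, 312, 3), (485, 312, 4), (448, 312, 6), (425, 494, 0), (44, 494, 1), (493, 494, 2), (385, 494, 4), (491, 107, 0), (131, 107, 2), (473, 107, 3), (350, 107, 5), (212, 107, 7), (525, 503, 2), (446, 503, 4), (6, 503, 5), (481, 503, 6), (465, 503, 7), (359, 362, 1), (500, 362, 3), (402, 362, 4), (451, 362, 5), (327, 362, 6), (396, 362, 7), (470, 510, 0), (464, 510, 1), (392, 510, 3), (471, 510, 4), (415, 510, 5), (316, 510, 6), (339, 375, 0), (12, 375, 1), (549, 375, 3), (416, 375, 5), (518, 3, 2), (22, 466, 3), (423, 466, 4), (417, 466, 6), (351, 466, 7), (16, 229, 1), (30, 229, 4), (319, 229, 5), (386, 431, 2), (495, 431, 6), (394, 449, 0), (342, 449, 1), (315, 449, 5), (489, 259, 1), (457, 259, 3), (65, 259, 6), (509, 325, 0), (398, 325, 3), (437, 325, 5), (10, 376, 0), (523, 376, 2), (548, 13, 0), (372, 13, 5), (21, 13, 6), (19, 540, 0), (344, 540, 6), (486, 498, 0), (366, 498, 1), (534, 498, 3), (302, 498, 6), (527, 248,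 1), (42, 248, 7), (163, 424, 2), (408, 424, 4), (322, 477, 0), (390, 477, 5), (544, 477, 7), (9, 526, 0), (102, 526, 3), (520, 507, 1), (533, 507, 2), (528, 507, 3), (550, 507, 5), (508, 11, 2), (4, 11, 6), (7, 546, 0), (429, 546, 1), (538, 546, 3), (514, 546, 5), (346, 546, 6), (472, 171, 3), (539, 501, 0), (377, 501, 4), (208, 57, 6), (530, 369, 3), (380, 406, 6), (45, 397, 0), (367, 397, 1), (458, 343, 2), (145, 305, 1), (15, 363, 1), (438, 332, 2), (443, 412, 2), (461, 412, 5), (382, 191, 1), (532, 191, 3), (307, 354, 4), (17, 448, 1), (310, 425, 1), (440, 44, 2), (25, 131, 4), (487, 350, 4), (411, 446, 4), (400, 6, 5), (5, 470, 0), (517, 415, 7), (14, 316, 3), (20, 339, 0), (18, 518, 3)]), (3, [52, 47, 27, 20, 9, 0], [(518, 3, 0), (332, 3, 1), (346, 518, 0), (18, 518, 1), (448, 518, 2), (412, 518, 3), (385, 518, 4), (375, 518, 5), (438, 332, 0), (451, 332, 1), (441, 332, 2), (507, 332, 4), (392, 346, 0), (525, 346, 2), (367, 346, 3), (429, 346,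 4), (503, 346, 5), (411, 18, 0), (21, 18, 1), (9, 18, 2), (465, 18, 3), (13, 18, 4), (6, 18, 5), (514, 448, 0), (326, 448, 1), (461, 448, 2), (485, 448, 3), (443, 412, 0), (415, 412, 1), (430, 412, 2), (351, 385, 0), (380, 385, 1), (416, 385, 2), (436, 375, 0), (549, 375, 1), (312, 375, 4), (20, 438, 3), (372, 438, 4), (310, 438, 5), (528, 451, 0), (494, 451, 1), (530, 451, 2), (8, 451, 3), (108, 441, 0), (543, 441, 2), (533, 507, 0), (550, 507, 3), (538, 392, 3), (425, 392, 5), (396, 525, 4), (327, 525, 5), (16, 367, 1), (458, 367, 3), (417, 367, 5), (546, 429, 0), (539, 429, 2), (19, 429, 3), (446, 503, 2), (481, 503, 4), (15, 411, 1), (472, 411, 3), (466, 411, 4), (517, 21, 1), (11, 21, 2), (471, 21, 3), (7, 9, 2), (10, 9, 4), (406, 465, 4), (316, 13, 0), (22, 13, 2), (402, 6, 1), (12, 6, 2), (400, 6, 3), (493, 514, 2), (423, 514, 4), (520, 514, 5), (491, 326, 1), (57, 326, 3), (501, 326, 5), (362, 461, 1), (377, 485, 0), (486, 485, 1), (339, 443,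 3), (500, 443, 4), (454, 443, 5), (510, 430, 1), (548, 351, 0), (508, 351, 4), (369, 436, 0), (397, 436, 2), (343, 436, 4), (305, 436, 5), (344, 20, 3), (45, 310, 0), (366, 310, 1), (171, 108, 2), (4, 425, 1), (540, 396, 5), (208, 446, 1), (5, 472, 1), (17, 517, 1), (14, 316, 1), (322, 491, 2), (470, 377, 1)]), (4, [27, 20, 9, 0], [(13, 4, 0), (411, 4, 1), (19, 4, 2), (22, 13, 0), (372, 13, 1), (21, 13, 2), (503, 411, 0), (472, 411, 1), (466, 411, 2), (530, 411, 3), (8, 19, 0), (310, 19, 1), (11, 19, 2), (20, 19, 3), (423, 22, 1), (7, 22, 2), (16, 22, 3), (548, 372, 0), (517, 372, 1), (539, 372, 2), (549, 372, 3), (471, 21, 1), (18, 21, 2), (9, 21, 3), (446, 503, 0), (6, 503, 1), (481, 503, 2), (465, 503, 3), (327, 472, 0), (400, 472, 2), (417, 466, 2), (351, 466, 3), (15, 8, 0), (362, 8, 1), (451, 310, 0), (429, 310, 1), (510, 310, 2), (10, 11, 0), (533, 11, 1), (344, 20, 1), (540, 423, 0), (316, 423, 1), (520, 7, 1), (508, 16, 1), (367, 548, 0), (525,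 548, 2), (443, 548, 3), (500, 517, 0), (406, 539, 1), (438, 539, 2), (514, 539, 3), (402, 549, 2), (339, 471, 0), (12, 6, 0), (493, 481, 2), (458, 481, 3), (380, 465, 1), (346, 465, 3), (396, 327, 1), (486, 327, 2), (415, 400, 2), (454, 417, 0), (546, 429, 2)]), (5, [0], [(14, 5, 0), (17, 14, 0)])]

set_option maxRecDepth 1000000 in
theorem mchain_ok : chainOK (run mprog [tH, tF, tN]) [] mlevels = true := by decide +kernel

theorem mlevels_prod : (mlevels.map (fun l => l.2.2.length + 1)).prod = 898128000 := by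
  decide +kernel

theorem gen_le : Subgroup.closure {N, F, H} ≤ Mc := by
  rw [Subgroup.closure_le]
  intro x hx
  rcases hx with rfl | rfl | rfl
  · exact mem_Mc.mpr N_fix
  · exact mem_Mc.mpr F_fix
  · exact mem_Mc.mpr H_fix

theorem card_gen : 898128000 ≤ Nat.card (Subgroup.closure {N, F, H}) := by
  have hacc : ∀ T ∈ run mprog [tH, tF, tN], Real (Subgroup.closure {N, F, H}) T := by
    apply real_run
    intro T hT
    simp only [List.mem_cons, List.not_mem_nil, or_false] at hT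
    rcases hT with rfl | rfl | rfl
    · exact ⟨H, Subgroup.subset_closure (by simp), actsH⟩
    · exact ⟨F, Subgroup.subset_closure (by simp), actsF⟩
    · exact ⟨N, Subgroup.subset_closure (by simp), actsN⟩
  have h1 := chain_card hacc mlevels [] _ (fun _ hp => absurd hp List.not_mem_nil)
    (fun g hg _ => hg) mchain_ok
  rw [mlevels_prod] at h1
  exact h1

/-- The three elements generate the stabiliser. -/
theorem hgenM : Subgroup.closure {N, F, H} = Mc :=
  Subgroup.eq_of_le_of_card_ge gen_le (le_trans card_Mc_le card_gen)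

theorem card_Mc : Nat.card Mc = 898128000 := by
  apply le_antisymm card_Mc_le
  rw [← hgenM]
  exact card_gen

end Cfsg.Agent.Lib.Helper26.Co3
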