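import Cfsg.Agent.Lib.Helper26.McCent
import Cfsg.Agent.Lib.Helper26.McGen
import Cfsg.Agent.Lib.Helper26.McAbs

set_option autoImplicit false

/-! # The outer automorphism group of the McLaughlin group has order two -/

namespace Cfsg.Agent.Lib.Helper26.Co3

open Cfsg Cfsg.Spor Cfsg.Agent.Lib.Helper7 Cfsg.Agent.Lib.Helper92 Cfsg.Agent.Lib.Helper26.McL

/-- Table of a word in three letters. -/
def wdT3 (Ta Tb Tc : ℕ) : List ℕ → ℕ
  | [] => idT
  | t :: W => compT (if t = 0 then Ta else if t = 1 then Tb else Tc) (wdT3 Ta Tb Tc W)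

theorem acts_wd3 {a b c : ↥Spor.Co3} {Ta Tb Tc : ℕ} (ha : Acts a.1 Ta) (hb : Acts b.1 Tb)
    (hc : Acts c.1 Tc) : ∀ W : List ℕ, Acts (wd3 a b c W).1 (wdT3 Ta Tb Tc W)
  | [] => by
    rw [wd3_nil]
    exact acts_one
  | t :: W => by
    have ih := acts_wd3 ha hb hc W
    rw [wd3_cons]
    show Acts ((if t = 0 then a else if t = 1 then b else c) * wd3 a b c W).1
      (compT (if t = 0 then Ta else if t = 1 then Tb else Tc) (wdT3 Ta Tb Tc W))
    split_ifs
    · exact acts_mul ha ih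
    · exact acts_mul hb ih
    · exact acts_mul hc ih

theorem wd3_append {M : Type*} [Group M] (a b c : M) (u v : List ℕ) :
    wd3 a b c (u ++ v) = wd3 a b c u * wd3 a b c v := by
  unfold wd3
  rw [List.map_append, List.prod_append]

theorem wd3_rep {M : Type*} [Group M] (a b c : M) (w : List ℕ) (o : ℕ) :
    wd3 a b c (List.replicate o w).flatten = wd3 a b c w ^ o := by
  induction o with
  | zero => simp [wd3]
  | succ o ih => rw [List.replicate_succ, List.flatten_cons, wd3_append, ih, pow_succ']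

/-- The first relation word. -/
def rw1 : List ℕ := [0, 2, 2]

/-- The second relation word. -/
def rw2 : List ℕ := [2, 0, 0, 1]

theorem rel1 : wd3 N F H rw1 ^ 7 = 1 := by
  have h2 : powT (wdT3 tN tF tH rw1) 7 = idT := by decide +kernel
  exact co3_ext ((acts_pow (acts_wd3 actsN actsF actsH rw1) 7).congr h2) acts_one

theorem rel2 : wd3 N F H rw2 ^ 8 = 1 := by
  have h2 : powT (wdT3 tN tF tH rw2) 8 = idT := by decide +kernel
  exact co3_ext ((acts_pow (acts_wd3 actsN actsF actsH rw2) 8).congr h2) acts_one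

/-- Table of a power of a word in candidate images of the generators. -/
def relT (k i j : ℕ) (w : List ℕ) (o : ℕ) : ℕ :=
  powT (wdT3 (powT tN k) tF (compT (powT tF i) (powT tH j)) w) o

/-- The table moves a point. -/
def moved (T : ℕ) : Bool := (List.range 552).any (fun p => !(Nat.beq (ln T p) p))

theorem ne_of_moved {a : ↥Spor.Co3} {T : ℕ} (ha : Acts a.1 T) (hm : moved T = true) : a ≠ 1 := by
  obtain ⟨p, hp, hne⟩ := List.any_eq_true.mp hm
  have hp' : p < 552 := List.mem_range.mp hp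
  apply co3_ne ha acts_one p hp'
  rw [ln_idT hp']
  intro e
  rw [e, Nat.beq_refl] at hne
  exact absurd hne (by decide)

set_option maxRecDepth 100000 in
theorem relChk : [1, 10].all (fun k => (List.range 5).all (fun i => (List.range 5).all (fun j =>
    (Nat.beq k 1 && Nat.beq i 0 && Nat.beq j 1) || (Nat.beq k 1 && Nat.beq i 0 && Nat.beq j 4) ||
      moved (relT k i j rw1 7) || moved (relT k i j rw2 8)))) = true := by decide +kernel

theorem hrelC (k : ℕ) (hk : k = 1 ∨ k = 10) (i : ℕ) (hi : i < 5) (j : ℕ) (hj : j < 5) :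
    (k = 1 ∧ i = 0 ∧ j = 1) ∨ (k = 1 ∧ i = 0 ∧ j = 4) ∨
      ∃ W : List ℕ, wd3 N F H W = 1 ∧ wd3 (N ^ k) F (F ^ i * H ^ j) W ≠ 1 := by
  have hk' : k ∈ [1, 10] := by
    rcases hk with rfl | rfl <;> simp
  have h1 := List.all_eq_true.mp (List.all_eq_true.mp (List.all_eq_true.mp relChk k hk') i
    (List.mem_range.mpr hi)) j (List.mem_range.mpr hj)
  simp only [Bool.or_eq_true, Bool.and_eq_true] at h1
  have hacts : ∀ (w : List ℕ) (o : ℕ),
      Acts (wd3 (N ^ k) F (F ^ i * H ^ j) w ^ o).1 (relT k i j w o) :=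
    fun w o => acts_pow (acts_wd3 (acts_pow actsN k) actsF
      (acts_mul (acts_pow actsF i) (acts_pow actsH j)) w) o
  rcases h1 with ((⟨⟨e1, e2⟩, e3⟩ | ⟨⟨e1, e2⟩, e3⟩) | hm) | hm
  · exact Or.inl ⟨Nat.eq_of_beq_eq_true e1, Nat.eq_of_beq_eq_true e2, Nat.eq_of_beq_eq_true e3⟩
  · exact Or.inr (Or.inl
      ⟨Nat.eq_of_beq_eq_true e1, Nat.eq_of_beq_eq_true e2, Nat.eq_of_beq_eq_true e3⟩)
  · refine Or.inr (Or.inr ⟨(List.replicate 7 rw1).flatten, ?_, ?_⟩)
    · rw [wd3_rep]
      exact rel1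
    · rw [wd3_rep]
      exact ne_of_moved (hacts rw1 7) hm
  · refine Or.inr (Or.inr ⟨(List.replicate 8 rw2).flatten, ?_, ?_⟩)
    · rw [wd3_rep]
      exact rel2
    · rw [wd3_rep]
      exact ne_of_moved (hacts rw2 8) hm

/-! ### The stabiliser as a group -/

/-- The element `N` in the stabiliser. -/
noncomputable def nM : ↥Mc := ⟨N, mem_Mc.mpr N_fix⟩

/-- The element `F` in the stabiliser. -/
noncomputable def fM : ↥Mc := ⟨F, mem_Mc.mpr F_fix⟩

/-- The element `H` in the stabiliser. -/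
noncomputable def hM : ↥Mc := ⟨H, mem_Mc.mpr H_fix⟩

theorem Z_conj_mem {m : ↥Spor.Co3} (hm : m ∈ Mc) : Z * m * Z ∈ Mc := by
  rw [mem_Mc] at hm ⊢
  show Z.1 (m.1 (Z.1 (P 0))) = P 0
  rw [Z_0, fix_pair m hm, Z_276]

theorem Z_cancel_left (x : ↥Spor.Co3) : Z * (Z * x) = x := by
  rw [← mul_assoc, hZ2, one_mul]

theorem Z_cancel_right (x : ↥Spor.Co3) : x * Z * Z = x := by
  rw [mul_assoc, hZ2, mul_one]

theorem Z_conj_conj (x : ↥Spor.Co3) : Z * (Z * x * Z) * Z = x := by
  rw [mul_assoc Z x Z, Z_cancel_left, Z_cancel_right]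

/-- Conjugation by `Z` on the stabiliser. -/
noncomputable def zeta : MulAut ↥Mc where
  toFun m := ⟨Z * m.1 * Z, Z_conj_mem m.2⟩
  invFun m := ⟨Z * m.1 * Z, Z_conj_mem m.2⟩
  left_inv m := Subtype.ext (Z_conj_conj m.1)
  right_inv m := Subtype.ext (Z_conj_conj m.1)
  map_mul' a b := by
    apply Subtype.ext
    show Z * (a.1 * b.1) * Z = (Z * a.1 * Z) * (Z * b.1 * Z)
    simp only [mul_assoc]
    rw [Z_cancel_left]

theorem zeta_val (m : ↥Mc) : (zeta m).1 = Z * m.1 * Z := rfl

theorem zeta_n : zeta nM = nM := by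
  apply Subtype.ext
  show Z * N * Z = N
  rw [hZN, Z_cancel_right]

theorem zeta_f : zeta fM = fM := by
  apply Subtype.ext
  show Z * F * Z = F
  rw [hZF, Z_cancel_right]

theorem zeta_h : zeta hM = fM ^ 0 * hM ^ 4 := by
  apply Subtype.ext
  show Z * H * Z = F ^ 0 * H ^ 4
  exact hZH

theorem zeta_h1 : zeta hM ≠ hM := by
  intro e
  exact hZH1 (congrArg Subtype.val e)

theorem zeta_sq : zeta * zeta = 1 := by
  apply MulEquiv.ext
  intro m
  apply Subtype.ext
  show Z * (Z * m.1 * Z) * Z = m.1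
  exact Z_conj_conj m.1

theorem order_nM : orderOf nM = 11 := by
  rw [← Subgroup.orderOf_coe]
  exact hN

/-- The outer automorphism group of the stabiliser has order two. -/
theorem out_Mc : Nat.card (Cfsg.Out ↥Mc) = 2 := by
  apply out_two zeta (n := nM) (f := fM) (h := hM) (i0 := 0) (j0 := 4) order_nM
  · rw [card_Mc]
    decide
  · exact Subtype.ext hFN
  · exact Subtype.ext hHF
  · intro g hg
    obtain ⟨i, hi⟩ := centN g.1 (mem_Mc.mp g.2) (congrArg Subtype.val hg)
    have e : g = nM ^ i := Subtype.ext hi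
    rw [e]
    exact Subgroup.pow_mem _ (Subgroup.mem_zpowers _) i
  · intro g hg
    obtain ⟨i, hi, j, hj, hij⟩ := centF g.1 (mem_Mc.mp g.2) (congrArg Subtype.val hg)
    exact ⟨i, hi, j, hj, Subtype.ext hij⟩
  · apply Subgroup.map_injective Mc.subtype_injective
    rw [MonoidHom.map_closure, ← MonoidHom.range_eq_map, Subgroup.range_subtype]
    have e : (Mc.subtype '' {nM, fM, hM}) = {N, F, H} := by
      rw [Set.image_insert_eq, Set.image_insert_eq, Set.image_singleton]
      rfl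
    rw [e, hgenM]
  · exact zeta_n
  · exact zeta_f
  · exact zeta_h
  · exact zeta_sq
  · exact zeta_h1
  · intro k hk i hi j hj
    rcases hrelC k hk i hi j hj with h1 | h1 | ⟨W, hW1, hW2⟩
    · exact Or.inl h1
    · exact Or.inr (Or.inl h1)
    · refine Or.inr (Or.inr ⟨W, ?_, ?_⟩)
      · apply Mc.subtype_injective
        rw [map_wd3, map_one]
        exact hW1
      · intro e
        apply hW2
        have e2 := congrArg Mc.subtype e
        rw [map_wd3, map_one] at e2
        exact e2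

/-! ### Transfer to the McLaughlin group -/

theorem mulAut_congr_conj2 {A B : Type} [Group A] [Group B] (e : A ≃* B) (g : A) :
    MulAut.congr e (MulAut.conj g) = MulAut.conj (e g) := by
  ext z
  show e (g * e.symm z * g⁻¹) = e g * z * (e g)⁻¹
  rw [map_mul, map_mul, map_inv, e.apply_symm_apply]

/-- Isomorphic groups have outer automorphism groups of the same order. -/
theorem out_card_congr2 {A B : Type} [Group A] [Group B] (e : A ≃* B) :
    Nat.card (Cfsg.Out A) = Nat.card (Cfsg.Out B) := by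
  have he : (Cfsg.Inn A).map (MulAut.congr e : MulAut A →* MulAut B) = Cfsg.Inn B := by
    ext x
    constructor
    · rintro ⟨y, ⟨g, rfl⟩, rfl⟩
      exact ⟨e g, (mulAut_congr_conj2 e g).symm⟩
    · rintro ⟨g', rfl⟩
      refine ⟨MulAut.conj (e.symm g'), ⟨e.symm g', rfl⟩, ?_⟩
      show MulAut.congr e (MulAut.conj (e.symm g')) = MulAut.conj g'
      rw [mulAut_congr_conj2, e.apply_symm_apply]
  exact Nat.card_congr (QuotientGroup.congr (Cfsg.Inn A) (Cfsg.Inn B) (MulAut.congr e) he).toEquiv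

theorem mcl_eq : Spor.McL.subgroupOf Spor.Co3 = Mc := by
  ext g
  rw [Subgroup.mem_subgroupOf, mem_Mc]
  have hadd : ∀ x : leechLattice, g.1 (-x) = - g.1 x := fun x => map_neg (toHom g.2.1) x
  constructor
  · intro h
    have hu : g.1 leechU = leechU := h.2
    rw [P0_eq, hadd, hu]
  · intro h
    refine ⟨g.2, ?_⟩
    show g.1 leechU = leechU
    have e : leechU = - P 0 := by rw [P0_eq, neg_neg]
    rw [e, hadd, h]

/-- The outer automorphism group of the McLaughlin group has order two. -/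
theorem out_McL : Nat.card (Cfsg.Out ↥Spor.McL) = 2 := by
  have e1 : ↥(Spor.McL.subgroupOf Spor.Co3) ≃* ↥Spor.McL :=
    Subgroup.subgroupOfEquivOfLe inf_le_left
  have e2 : ↥(Spor.McL.subgroupOf Spor.Co3) ≃* ↥Mc := MulEquiv.subgroupCongr mcl_eq
  rw [out_card_congr2 (e1.symm.trans e2)]
  exact out_Mc

end Cfsg.Agent.Lib.Helper26.Co3
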