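import Mathlib

set_option autoImplicit false
set_option linter.unusedSectionVars false
open scoped Pointwise

namespace Cfsg.Agent.Lib.Helper26

section OrbTools

variable {Ω : Type*} [Fintype Ω] [DecidableEq Ω]

/-- A finite set mapped into itself by every element of `K`. -/
def InvSet (K : Subgroup (Equiv.Perm Ω)) (T : Finset Ω) : Prop :=
  ∀ k ∈ K, ∀ i ∈ T, k i ∈ T

theorem InvSet.iff {K : Subgroup (Equiv.Perm Ω)} {T : Finset Ω} (h : InvSet K T)
    {k : Equiv.Perm Ω} (hk : k ∈ K) (i : Ω) : k i ∈ T ↔ i ∈ T := by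
  constructor
  · intro hi
    have := h k⁻¹ (K.inv_mem hk) _ hi
    simpa using this
  · exact h k hk i

theorem InvSet.smul_eq {K : Subgroup (Equiv.Perm Ω)} {T : Finset Ω} (h : InvSet K T)
    {k : Equiv.Perm Ω} (hk : k ∈ K) : k • T = T := by
  ext i
  rw [Finset.mem_smul_finset]
  constructor
  · rintro ⟨y, hy, rfl⟩
    exact h k hk y hy
  · intro hi
    exact ⟨k⁻¹ i, (h.iff (K.inv_mem hk) i).2 hi, by simp⟩

theorem InvSet.compl {K : Subgroup (Equiv.Perm Ω)} {T : Finset Ω} (h : InvSet K T) :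
    InvSet K (Finset.univ \ T) := by
  intro k hk i hi
  rw [Finset.mem_sdiff] at hi ⊢
  exact ⟨Finset.mem_univ _, fun hc => hi.2 ((h.iff hk i).1 hc)⟩

theorem InvSet.union {K : Subgroup (Equiv.Perm Ω)} {T T' : Finset Ω} (h : InvSet K T)
    (h' : InvSet K T') : InvSet K (T ∪ T') := by
  intro k hk i hi
  rw [Finset.mem_union] at hi ⊢
  rcases hi with hi | hi
  · exact Or.inl (h k hk i hi)
  · exact Or.inr (h' k hk i hi)

theorem invSet_singleton {K : Subgroup (Equiv.Perm Ω)} {x : Ω} (hx : ∀ k ∈ K, k x = x) :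
    InvSet K {x} := by
  intro k hk i hi
  rw [Finset.mem_singleton] at hi ⊢
  rw [hi]
  exact hx k hk

theorem invSet_of_smul_eq {K : Subgroup (Equiv.Perm Ω)} {T : Finset Ω}
    (h : ∀ k ∈ K, k • T = T) : InvSet K T := by
  intro k hk i hi
  have h1 : k • i ∈ k • T := Finset.smul_mem_smul_finset hi
  rw [h k hk] at h1
  exact h1

/-- Restriction of the elements of `K` to an invariant set. -/
def resPerm (K : Subgroup (Equiv.Perm Ω)) (T : Finset Ω) (h : InvSet K T) (k : ↥K) :
    Equiv.Perm ↥T :=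
  Equiv.Perm.subtypePerm k.1 (fun i => h.iff k.2 i)

theorem resPerm_apply (K : Subgroup (Equiv.Perm Ω)) (T : Finset Ω) (h : InvSet K T) (k : ↥K)
    (a : ↥T) : (resPerm K T h k a : Ω) = k.1 a := rfl

theorem resPerm_injective (K : Subgroup (Equiv.Perm Ω)) (A : Finset Ω) (hA : InvSet K A)
    (hf : ∀ k ∈ K, (∀ i ∈ A, k i = i) → k = 1) : Function.Injective (resPerm K A hA) := by
  intro k1 k2 he
  have h1 : k1.1⁻¹ * k2.1 = 1 := by
    apply hf _ (K.mul_mem (K.inv_mem k1.2) k2.2)
    intro i hi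
    have h2 := congrArg (fun σ : Equiv.Perm ↥A => (σ ⟨i, hi⟩ : Ω)) he
    simp only [resPerm_apply] at h2
    rw [Equiv.Perm.mul_apply, ← h2]
    simp
  exact Subtype.ext (inv_mul_eq_one.1 h1)

/-- Pigeonhole: a group too big to act faithfully on an invariant set has a nontrivial element
fixing it pointwise. -/
theorem exists_fix_of_card_lt (K : Subgroup (Equiv.Perm Ω)) (S : Finset Ω) (hS : InvSet K S)
    (hc : S.card.factorial < Nat.card K) : ∃ k ∈ K, k ≠ 1 ∧ ∀ i ∈ S, k i = i := by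
  by_contra hcon
  have hf : ∀ k ∈ K, (∀ i ∈ S, k i = i) → k = 1 := by
    intro k hk hfix
    by_contra hne
    exact hcon ⟨k, hk, hne, hfix⟩
  have h1 := Nat.card_le_card_of_injective _ (resPerm_injective K S hS hf)
  rw [Nat.card_perm, Nat.card_eq_fintype_card (α := ↥S), Fintype.card_coe] at h1
  omega

/-- A faithful action of a group of order `n!` on `n` points induces every permutation. -/
theorem surj_of_faithful (K : Subgroup (Equiv.Perm Ω)) (A : Finset Ω) (hA : InvSet K A)
    (hf : ∀ k ∈ K, (∀ i ∈ A, k i = i) → k = 1) (hc : Nat.card K = A.card.factorial)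
    (σ : Equiv.Perm ↥A) : ∃ k ∈ K, ∀ a : ↥A, k (a : Ω) = σ a := by
  have hbij := (resPerm_injective K A hA hf).bijective_of_nat_card_le
    (by rw [Nat.card_perm, Nat.card_eq_fintype_card (α := ↥A), Fintype.card_coe, hc])
  obtain ⟨k, hk⟩ := hbij.2 σ
  exact ⟨k.1, k.2, fun a => by rw [← hk]; rfl⟩

/-- The orbit of a point as a finite set. -/
noncomputable def orbF (K : Subgroup (Equiv.Perm Ω)) (u : Ω) : Finset Ω := by
  classical exact Finset.univ.filter (fun v => v ∈ MulAction.orbit K u)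

theorem mem_orbF {K : Subgroup (Equiv.Perm Ω)} {u v : Ω} :
    v ∈ orbF K u ↔ ∃ k ∈ K, k u = v := by
  classical
  unfold orbF
  rw [Finset.mem_filter, MulAction.mem_orbit_iff]
  constructor
  · rintro ⟨_, k, hk⟩
    exact ⟨k.1, k.2, hk⟩
  · rintro ⟨k, hk, h⟩
    exact ⟨Finset.mem_univ _, ⟨k, hk⟩, h⟩

theorem self_mem_orbF (K : Subgroup (Equiv.Perm Ω)) (u : Ω) : u ∈ orbF K u :=
  mem_orbF.2 ⟨1, K.one_mem, rfl⟩

theorem invSet_orbF (K : Subgroup (Equiv.Perm Ω)) (u : Ω) : InvSet K (orbF K u) := by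
  intro k hk i hi
  obtain ⟨k', hk', rfl⟩ := mem_orbF.1 hi
  exact mem_orbF.2 ⟨k * k', K.mul_mem hk hk', rfl⟩

theorem orbF_eq_of_mem {K : Subgroup (Equiv.Perm Ω)} {u v : Ω} (h : v ∈ orbF K u) :
    orbF K v = orbF K u := by
  obtain ⟨k, hk, rfl⟩ := mem_orbF.1 h
  ext w
  simp only [mem_orbF]
  constructor
  · rintro ⟨k', hk', rfl⟩
    exact ⟨k' * k, K.mul_mem hk' hk, rfl⟩
  · rintro ⟨k', hk', rfl⟩
    exact ⟨k' * k⁻¹, K.mul_mem hk' (K.inv_mem hk), by simp⟩

theorem card_orbF_dvd (K : Subgroup (Equiv.Perm Ω)) (u : Ω) : (orbF K u).card ∣ Nat.card K := by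
  classical
  have h1 : (orbF K u).card = (MulAction.orbit K u).ncard := by
    rw [← Set.ncard_coe_finset]
    congr 1
    ext v
    simp [orbF]
  rw [h1, ← MulAction.index_stabilizer]
  exact Subgroup.index_dvd_card _

/-- The size of a set invariant under an element of prime order `p` is congruent mod `p` to the
number of its fixed points. -/
theorem card_inv_modEq (g : Equiv.Perm Ω) (p : ℕ) (hp : p.Prime) (hg : g ^ p = 1) (T : Finset Ω)
    (hT : ∀ i ∈ T, g i ∈ T) : T.card % p = (T.filter (fun i => g i = i)).card % p := by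
  have : Fact p.Prime := ⟨hp⟩
  let f : Function.End ↥T := fun i => ⟨g i, hT i i.2⟩
  have key : ∀ n : ℕ, ∀ i : ↥T, ((f ^ n) i : Ω) = (g ^ n) i := by
    intro n
    induction n with
    | zero => intro i; rfl
    | succ n ih =>
      intro i
      rw [pow_succ, pow_succ]
      show ((f ^ n) (f i) : Ω) = (g ^ n) (g i)
      rw [ih]
  have hf : f ^ p ^ 1 = 1 := by
    rw [pow_one]
    funext i
    apply Subtype.ext
    rw [key, hg]
    rfl
  have h1 := Equiv.Perm.card_fixedPoints_modEq hf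
  rw [Fintype.card_coe] at h1
  have h2 : Fintype.card ↥(Function.fixedPoints f) = (T.filter (fun i => g i = i)).card := by
    have e1 : (T.filter (fun i => g i = i)) =
        (Finset.univ.filter (fun i : ↥T => f i = i)).map (Function.Embedding.subtype _) := by
      ext i
      simp only [Finset.mem_filter, Finset.mem_map, Finset.mem_univ, true_and,
        Function.Embedding.coe_subtype]
      constructor
      · rintro ⟨hi, hgi⟩
        exact ⟨⟨i, hi⟩, Subtype.ext hgi, rfl⟩
      · rintro ⟨a, ha, rfl⟩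
        exact ⟨a.2, congrArg Subtype.val ha⟩
    rw [e1, Finset.card_map]
    apply Fintype.card_of_subtype
    intro i
    rw [Finset.mem_filter]
    exact ⟨fun h => h.2, fun h => ⟨Finset.mem_univ _, h⟩⟩
  rw [h2] at h1
  exact h1

end OrbTools

end Cfsg.Agent.Lib.Helper26
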