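import Cfsg.Agent.Lib.Helper26.OrbTools

set_option autoImplicit false
set_option linter.unusedSectionVars false
open scoped Pointwise

namespace Cfsg.Agent.Lib.Helper26

section OrbTools2

variable {Ω : Type*} [Fintype Ω] [DecidableEq Ω]

theorem InvSet.sdiff {K : Subgroup (Equiv.Perm Ω)} {T T' : Finset Ω} (h : InvSet K T)
    (h' : InvSet K T') : InvSet K (T \ T') := by
  intro k hk i hi
  rw [Finset.mem_sdiff] at hi ⊢
  exact ⟨h k hk i hi.1, fun hc => hi.2 ((h'.iff hk i).1 hc)⟩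

theorem InvSet.inter {K : Subgroup (Equiv.Perm Ω)} {T T' : Finset Ω} (h : InvSet K T)
    (h' : InvSet K T') : InvSet K (T ∩ T') := by
  intro k hk i hi
  rw [Finset.mem_inter] at hi ⊢
  exact ⟨h k hk i hi.1, h' k hk i hi.2⟩

theorem InvSet.mono {K L : Subgroup (Equiv.Perm Ω)} {T : Finset Ω} (h : InvSet K T)
    (hL : L ≤ K) : InvSet L T :=
  fun k hk i hi => h k (hL hk) i hi

theorem orbF_subset_of_inv {K : Subgroup (Equiv.Perm Ω)} {T : Finset Ω} (h : InvSet K T)
    {t : Ω} (ht : t ∈ T) : orbF K t ⊆ T := by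
  intro w hw
  obtain ⟨k, hk, rfl⟩ := mem_orbF.1 hw
  exact h k hk t ht

theorem orbF_eq_singleton {K : Subgroup (Equiv.Perm Ω)} {x : Ω} (hx : ∀ k ∈ K, k x = x) :
    orbF K x = {x} := by
  ext w
  rw [mem_orbF, Finset.mem_singleton]
  constructor
  · rintro ⟨k, hk, rfl⟩
    exact hx k hk
  · rintro rfl
    exact ⟨1, K.one_mem, rfl⟩

theorem not_mem_orbF_of_fix {K : Subgroup (Equiv.Perm Ω)} {x u : Ω} (hx : ∀ k ∈ K, k x = x)
    (hu : u ≠ x) : x ∉ orbF K u := by
  intro h
  obtain ⟨k, hk, e⟩ := mem_orbF.1 h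
  apply hu
  have h1 := hx k hk
  exact k.injective (e.trans h1.symm)

/-- A divisor of all orbit sizes in an invariant set divides the size of the set. -/
theorem dvd_card_of_dvd_orbits (K : Subgroup (Equiv.Perm Ω)) (d : ℕ) :
    ∀ (n : ℕ) (T : Finset Ω), T.card = n → InvSet K T →
      (∀ t ∈ T, d ∣ (orbF K t).card) → d ∣ T.card := by
  intro n
  induction n using Nat.strong_induction_on with
  | _ n ih =>
    intro T hn hT hd
    rcases T.eq_empty_or_nonempty with rfl | ⟨t, ht⟩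
    · simp
    · have hsub : orbF K t ⊆ T := orbF_subset_of_inv hT ht
      have hinv : InvSet K (T \ orbF K t) := hT.sdiff (invSet_orbF K t)
      have hlt : (T \ orbF K t).card < n := by
        rw [← hn]
        apply Finset.card_lt_card
        rw [Finset.ssubset_iff_of_subset Finset.sdiff_subset]
        exact ⟨t, ht, fun h => (Finset.mem_sdiff.1 h).2 (self_mem_orbF K t)⟩
      have h1 := ih _ hlt (T \ orbF K t) rfl hinv (fun s hs => hd s (Finset.mem_sdiff.1 hs).1)
      rw [← Finset.card_sdiff_add_card_eq_card hsub]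
      exact dvd_add h1 (hd t ht)

/-- The stabiliser of a point in `K`, as a subgroup of the symmetric group. -/
def stabP (K : Subgroup (Equiv.Perm Ω)) (a : Ω) : Subgroup (Equiv.Perm Ω) :=
  K ⊓ MulAction.stabilizer (Equiv.Perm Ω) a

theorem mem_stabP {K : Subgroup (Equiv.Perm Ω)} {a : Ω} {k : Equiv.Perm Ω} :
    k ∈ stabP K a ↔ k ∈ K ∧ k a = a := by
  unfold stabP
  rw [Subgroup.mem_inf, MulAction.mem_stabilizer_iff]
  rfl

theorem stabP_le (K : Subgroup (Equiv.Perm Ω)) (a : Ω) : stabP K a ≤ K := inf_le_left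

theorem card_orbF_eq_ncard (K : Subgroup (Equiv.Perm Ω)) (u : Ω) :
    (orbF K u).card = (MulAction.orbit K u).ncard := by
  classical
  rw [← Set.ncard_coe_finset]
  congr 1
  ext v
  simp [orbF]

theorem card_stabP_mul (K : Subgroup (Equiv.Perm Ω)) (a : Ω) :
    Nat.card (stabP K a) * (orbF K a).card = Nat.card K := by
  have h2 := Subgroup.card_mul_index (MulAction.stabilizer K a)
  rw [MulAction.index_stabilizer] at h2
  have e : ↥(stabP K a) ≃ ↥(MulAction.stabilizer K a) :=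
    { toFun := fun k => ⟨⟨k.1, (mem_stabP.1 k.2).1⟩, (mem_stabP.1 k.2).2⟩
      invFun := fun k => ⟨k.1.1, mem_stabP.2 ⟨k.1.2, k.2⟩⟩
      left_inv := fun _ => rfl
      right_inv := fun _ => rfl }
  rw [Nat.card_congr e, card_orbF_eq_ncard]
  exact h2

/-- Orbits of point stabilisers are carried to each other by the elements of the group. -/
theorem orbF_stabP_conj {K : Subgroup (Equiv.Perm Ω)} {k : Equiv.Perm Ω} (hk : k ∈ K) (x y : Ω) :
    orbF (stabP K (k x)) (k y) = (orbF (stabP K x) y).image k := by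
  ext w
  rw [Finset.mem_image, mem_orbF]
  constructor
  · rintro ⟨h', hh', rfl⟩
    obtain ⟨h1, h2⟩ := mem_stabP.1 hh'
    refine ⟨(k⁻¹ * h' * k) y, mem_orbF.2 ⟨k⁻¹ * h' * k, mem_stabP.2
      ⟨K.mul_mem (K.mul_mem (K.inv_mem hk) h1) hk, ?_⟩, rfl⟩, ?_⟩
    · simp [h2]
    · simp
  · rintro ⟨w0, hw0, rfl⟩
    obtain ⟨h, hh, rfl⟩ := mem_orbF.1 hw0
    obtain ⟨h1, h2⟩ := mem_stabP.1 hh
    refine ⟨k * h * k⁻¹, mem_stabP.2 ⟨K.mul_mem (K.mul_mem hk h1) (K.inv_mem hk), ?_⟩, ?_⟩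
    · simp [h2]
    · simp

theorem card_orbF_stabP_conj {K : Subgroup (Equiv.Perm Ω)} {k : Equiv.Perm Ω} (hk : k ∈ K)
    (x y : Ω) : (orbF (stabP K (k x)) (k y)).card = (orbF (stabP K x) y).card := by
  rw [orbF_stabP_conj hk, Finset.card_image_of_injective _ k.injective]

end OrbTools2

end Cfsg.Agent.Lib.Helper26
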