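import Cfsg.Agent.Lib.Helper26.OrbTools2

set_option autoImplicit false
set_option linter.unusedSectionVars false
open scoped Pointwise

namespace Cfsg.Agent.Lib.Helper26

section OrbTools3

variable {Ω : Type*} [Fintype Ω] [DecidableEq Ω]

/-- The pointwise stabiliser of a finite set in `K`. -/
def fixP (K : Subgroup (Equiv.Perm Ω)) (S : Finset Ω) : Subgroup (Equiv.Perm Ω) where
  carrier := {k | k ∈ K ∧ ∀ i ∈ S, k i = i}
  one_mem' := ⟨K.one_mem, fun _ _ => rfl⟩
  mul_mem' := by
    rintro a b ⟨ha, ha'⟩ ⟨hb, hb'⟩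
    exact ⟨K.mul_mem ha hb, fun i hi => by rw [Equiv.Perm.mul_apply, hb' i hi, ha' i hi]⟩
  inv_mem' := by
    rintro a ⟨ha, ha'⟩
    exact ⟨K.inv_mem ha, fun i hi => by
      rw [Equiv.Perm.inv_eq_iff_eq]
      exact (ha' i hi).symm⟩

theorem mem_fixP {K : Subgroup (Equiv.Perm Ω)} {S : Finset Ω} {k : Equiv.Perm Ω} :
    k ∈ fixP K S ↔ k ∈ K ∧ ∀ i ∈ S, k i = i := Iff.rfl

theorem fixP_le (K : Subgroup (Equiv.Perm Ω)) (S : Finset Ω) : fixP K S ≤ K := fun _ hk => hk.1

/-- Restriction to an invariant set as a homomorphism. -/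
def resHom (K : Subgroup (Equiv.Perm Ω)) (T : Finset Ω) (h : InvSet K T) :
    ↥K →* Equiv.Perm ↥T where
  toFun := resPerm K T h
  map_one' := by
    ext
    rfl
  map_mul' := by
    intros
    ext
    rfl

/-- The order of `K` divides the order of the pointwise stabiliser of an invariant set times the
order of the symmetric group on that set. -/
theorem card_dvd_fixP_mul (K : Subgroup (Equiv.Perm Ω)) (T : Finset Ω) (h : InvSet K T) :
    Nat.card K ∣ Nat.card (fixP K T) * T.card.factorial := by
  have h1 := Subgroup.card_mul_index (resHom K T h).ker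
  rw [Subgroup.index_ker] at h1
  have h2 : Nat.card ↥(resHom K T h).range ∣ T.card.factorial := by
    have h3 := Subgroup.card_subgroup_dvd_card (resHom K T h).range
    rwa [Nat.card_perm, Nat.card_eq_fintype_card (α := ↥T), Fintype.card_coe] at h3
  have e : ↥(resHom K T h).ker ≃ ↥(fixP K T) :=
    { toFun := fun k => ⟨k.1.1, k.1.2, fun i hi => by
          have h4 := congrArg (fun σ : Equiv.Perm ↥T => (σ ⟨i, hi⟩ : Ω)) (MonoidHom.mem_ker.1 k.2)
          exact h4⟩
      invFun := fun k => ⟨⟨k.1, k.2.1⟩, MonoidHom.mem_ker.2 (by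
          ext i
          exact k.2.2 i.1 i.2)⟩
      left_inv := fun _ => rfl
      right_inv := fun _ => rfl }
  rw [Nat.card_congr e] at h1
  rw [← h1]
  exact Nat.mul_dvd_mul_left _ h2

/-- A symmetric group of degree at least five has no proper subgroup of small index other than
the alternating group. -/
theorem no_small_index {α : Type*} [Fintype α] [DecidableEq α] (h5 : 5 ≤ Nat.card α)
    (L : Subgroup (Equiv.Perm α)) (h1 : L.index ≠ 1) (h2 : L.index ≠ 2)
    (hlt : L.index.factorial < Nat.card (alternatingGroup α)) : False := by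
  obtain ⟨φ, hφ⟩ : ∃ φ : Equiv.Perm α →* Equiv.Perm (Equiv.Perm α ⧸ L),
      φ = MulAction.toPermHom (Equiv.Perm α) (Equiv.Perm α ⧸ L) := ⟨_, rfl⟩
  obtain ⟨ψ, hψ⟩ : ∃ ψ : ↥(alternatingGroup α) →* Equiv.Perm (Equiv.Perm α ⧸ L),
      ψ = φ.comp (alternatingGroup α).subtype := ⟨_, rfl⟩
  have := alternatingGroup.isSimpleGroup h5
  have hnt : Nontrivial α := by
    rw [← Finite.one_lt_card_iff_nontrivial]
    omega
  rcases (MonoidHom.normal_ker ψ).eq_bot_or_eq_top with hb | ht
  · have hinj : Function.Injective ψ := (MonoidHom.ker_eq_bot_iff ψ).1 hb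
    have hle := Nat.card_le_card_of_injective ψ hinj
    rw [Nat.card_perm, ← Subgroup.index_eq_card] at hle
    omega
  · have hle : alternatingGroup α ≤ L := by
      intro g hg
      have h3 : (⟨g, hg⟩ : ↥(alternatingGroup α)) ∈ ψ.ker := by
        rw [ht]
        trivial
      have h4 : g ∈ φ.ker := by
        rw [MonoidHom.mem_ker, hψ] at h3
        exact MonoidHom.mem_ker.2 h3
      rw [hφ, ← Subgroup.normalCore_eq_ker] at h4
      exact Subgroup.normalCore_le L h4
    have hd := Subgroup.index_dvd_of_le hle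
    rw [alternatingGroup.index_eq_two] at hd
    rcases (Nat.dvd_prime Nat.prime_two).1 hd with h | h
    exacts [h1 h, h2 h]

/-- A group acting faithfully on an invariant set of size at least five cannot have small index
(other than one or two) in the symmetric group of that set. -/
theorem no_faithful_small_index (K : Subgroup (Equiv.Perm Ω)) (A : Finset Ω) (hA : InvSet K A)
    (hf : ∀ k ∈ K, (∀ i ∈ A, k i = i) → k = 1) (m : ℕ)
    (hm : Nat.card K * m = A.card.factorial) (h5 : 5 ≤ A.card) (h1 : m ≠ 1) (h2 : m ≠ 2)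
    (hlt : 2 * m.factorial < A.card.factorial) : False := by
  have hinj : Function.Injective (resHom K A hA) := resPerm_injective K A hA hf
  have hc : Nat.card ↥(resHom K A hA).range = Nat.card K :=
    (Nat.card_congr (MonoidHom.ofInjective hinj).toEquiv).symm
  have hcA : Nat.card ↥A = A.card := by
    rw [Nat.card_eq_fintype_card, Fintype.card_coe]
  have h3 := Subgroup.card_mul_index (resHom K A hA).range
  rw [hc, Nat.card_perm, hcA, ← hm] at h3
  have hpos : 0 < Nat.card K := Nat.card_pos
  have hidx : (resHom K A hA).range.index = m := Nat.eq_of_mul_eq_mul_left hpos h3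
  have hnt : Nontrivial ↥A := by
    rw [← Finite.one_lt_card_iff_nontrivial, hcA]
    omega
  have halt := two_mul_nat_card_alternatingGroup (α := ↥A)
  rw [Nat.card_perm, hcA] at halt
  apply no_small_index (α := ↥A) (by rw [hcA]; exact h5) (resHom K A hA).range
  · rw [hidx]
    exact h1
  · rw [hidx]
    exact h2
  · rw [hidx]
    omega

/-- Elements of prime order in a subgroup of a symmetric group. -/
theorem exists_ord (K : Subgroup (Equiv.Perm Ω)) (p : ℕ) (hp : p.Prime) (h : p ∣ Nat.card K) :
    ∃ g ∈ K, orderOf g = p ∧ g ^ p = 1 := by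
  have : Fact p.Prime := ⟨hp⟩
  obtain ⟨g, hg⟩ := exists_prime_orderOf_dvd_card' (G := ↥K) p h
  have ho : orderOf g.1 = p := by
    rw [Subgroup.orderOf_coe]
    exact hg
  refine ⟨g.1, g.2, ho, ?_⟩
  rw [← ho]
  exact pow_orderOf_eq_one _

theorem stabP_comm (K : Subgroup (Equiv.Perm Ω)) (a b : Ω) :
    stabP (stabP K a) b = stabP (stabP K b) a := by
  ext k
  simp only [mem_stabP]
  tauto

/-- For point stabilisers of equal order, the orbit of `b` under the stabiliser of `a` is as
large as the orbit of `a` under the stabiliser of `b`. -/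
theorem rel_symm (K : Subgroup (Equiv.Perm Ω)) (a b : Ω)
    (h : Nat.card (stabP K a) = Nat.card (stabP K b)) :
    (orbF (stabP K a) b).card = (orbF (stabP K b) a).card := by
  have h1 := card_stabP_mul (stabP K a) b
  have h2 := card_stabP_mul (stabP K b) a
  rw [stabP_comm, h, ← h2] at h1
  have hpos : 0 < Nat.card (stabP (stabP K b) a) := Nat.card_pos
  exact Nat.eq_of_mul_eq_mul_left hpos h1

theorem exists_of_orbF_card (K : Subgroup (Equiv.Perm Ω)) (a : Ω)
    (h : (orbF K a).card = Fintype.card Ω) (b : Ω) : ∃ k ∈ K, k a = b := by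
  have h1 : orbF K a = Finset.univ := Finset.eq_univ_of_card _ h
  exact mem_orbF.1 (h1 ▸ Finset.mem_univ b)

/-- In a transitive group all point stabilisers have the same order. -/
theorem card_stabP_of_trans (K : Subgroup (Equiv.Perm Ω)) (htr : ∀ a b : Ω, ∃ k ∈ K, k a = b)
    (a : Ω) : Nat.card (stabP K a) * Fintype.card Ω = Nat.card K := by
  have h1 := card_stabP_mul K a
  have h2 : orbF K a = Finset.univ := by
    ext b
    simp only [Finset.mem_univ, iff_true]
    exact mem_orbF.2 (htr a b)
  rwa [h2, Finset.card_univ] at h1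

theorem mem_orbF_stabP_self {K : Subgroup (Equiv.Perm Ω)} {a b : Ω}
    (h : b ∈ orbF (stabP K a) a) : b = a := by
  obtain ⟨k, hk, rfl⟩ := mem_orbF.1 h
  exact (mem_stabP.1 hk).2

theorem orbF_stabP_self (K : Subgroup (Equiv.Perm Ω)) (a : Ω) : orbF (stabP K a) a = {a} :=
  orbF_eq_singleton (fun _ hk => (mem_stabP.1 hk).2)

theorem not_mem_orbF_stabP {K : Subgroup (Equiv.Perm Ω)} {a b : Ω} (h : b ≠ a) :
    a ∉ orbF (stabP K a) b :=
  not_mem_orbF_of_fix (fun _ hk => (mem_stabP.1 hk).2) h

/-- An element fixing one point of an invariant pair fixes the other one. -/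
theorem fix_other {P : Subgroup (Equiv.Perm Ω)} {D : Finset Ω} (hD : InvSet P D)
    (hc : D.card = 2) {x y : Ω} (hx : x ∈ D) (hy : y ∈ D) (hxy : x ≠ y) {k : Equiv.Perm Ω}
    (hk : k ∈ P) (hkx : k x = x) : k y = y := by
  have hky := hD k hk y hy
  by_contra hne
  have hsub : ({x, y, k y} : Finset Ω) ⊆ D := by
    intro i hi
    simp only [Finset.mem_insert, Finset.mem_singleton] at hi
    rcases hi with rfl | rfl | rfl <;> assumption
  have h3 : ({x, y, k y} : Finset Ω).card = 3 := by
    rw [Finset.card_eq_three]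
    exact ⟨x, y, k y, hxy, fun h => hxy (k.injective (hkx.trans h)), fun h => hne h.symm, rfl⟩
  have := Finset.card_le_card hsub
  omega

/-- Counting in an invariant set is unchanged by moving the parameter of an invariant
relation. -/
theorem card_filter_conj {k : Equiv.Perm Ω} (X : Finset Ω) (hX : ∀ x, k x ∈ X ↔ x ∈ X)
    (r : Ω → Ω → Prop) [DecidableRel r] (hr : ∀ x y, r (k x) (k y) ↔ r x y) (y : Ω) :
    (X.filter (fun x => r x (k y))).card = (X.filter (fun x => r x y)).card := by
  have e : X.filter (fun x => r x (k y)) = (X.filter (fun x => r x y)).image k := by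
    ext z
    rw [Finset.mem_image, Finset.mem_filter]
    constructor
    · rintro ⟨hz, hrz⟩
      refine ⟨k⁻¹ z, Finset.mem_filter.2 ⟨?_, ?_⟩, by simp⟩
      · rw [← hX]
        simpa using hz
      · rw [← hr]
        simpa using hrz
    · rintro ⟨x, hx, rfl⟩
      rw [Finset.mem_filter] at hx
      exact ⟨(hX x).2 hx.1, (hr x y).2 hx.2⟩
  rw [e, Finset.card_image_of_injective _ k.injective]

theorem orbF_card_one_iff {L : Subgroup (Equiv.Perm Ω)} {b : Ω} :
    (orbF L b).card = 1 ↔ ∀ k ∈ L, k b = b := by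
  constructor
  · intro h k hk
    obtain ⟨w, hw⟩ := Finset.card_eq_one.1 h
    have h1 : b ∈ orbF L b := self_mem_orbF L b
    have h2 : k b ∈ orbF L b := invSet_orbF L b k hk b h1
    rw [hw, Finset.mem_singleton] at h1 h2
    rw [h2, h1]
  · intro h
    rw [orbF_eq_singleton h, Finset.card_singleton]

/-- Point stabilisers of equal order, one fixing the point of the other, coincide. -/
theorem stabP_eq_of_fix {K : Subgroup (Equiv.Perm Ω)} {a b : Ω}
    (hc : Nat.card (stabP K a) = Nat.card (stabP K b)) (h : ∀ k ∈ stabP K a, k b = b) :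
    stabP K a = stabP K b :=
  Subgroup.eq_of_le_of_card_ge (fun k hk => mem_stabP.2 ⟨(mem_stabP.1 hk).1, h k hk⟩) hc.ge

end OrbTools3

end Cfsg.Agent.Lib.Helper26
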