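import Mathlib
import Cfsg.Agent.Lib.Helper93.SRGd

set_option autoImplicit false

namespace Cfsg.Agent.Lib.Helper26

/-- A transitive group of automorphisms of a triangle-free graph of valency `22` on `100`
points whose point stabiliser is transitive on the non-neighbours. -/
structure R3 (G : Type*) {Ω : Type*} [Group G] [MulAction G Ω] [Fintype Ω]
    (Γ : SimpleGraph Ω) (a : Ω) : Prop where
  card : Fintype.card Ω = 100
  trans : ∀ x : Ω, ∃ g : G, g • a = x
  inv : ∀ (g : G) (x y : Ω), Γ.Adj x y → Γ.Adj (g • x) (g • y)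
  deg : {y | Γ.Adj a y}.ncard = 22
  tri : ∀ y z, Γ.Adj a y → Γ.Adj a z → ¬ Γ.Adj y z
  far : ∀ y z, y ≠ a → z ≠ a → ¬ Γ.Adj a y → ¬ Γ.Adj a z → ∃ g : G, g • a = a ∧ g • y = z

section

variable {G : Type*} {Ω : Type*} [Group G] [MulAction G Ω] [Fintype Ω] {Γ : SimpleGraph Ω} {a : Ω}

theorem R3.inv' (h : R3 G Γ a) (g : G) (x y : Ω) : Γ.Adj (g • x) (g • y) ↔ Γ.Adj x y := by
  constructor
  · intro h1
    have h2 := h.inv g⁻¹ _ _ h1
    rwa [inv_smul_smul, inv_smul_smul] at h2
  · exact h.inv g x y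

/-- The graph is strongly regular with parameters `(100, 22, 0, 6)`. -/
theorem R3.isSRG (h : R3 G Γ a) [DecidableRel Γ.Adj] : Γ.IsSRGWith 100 22 0 6 := by
  classical
  obtain ⟨nb, hnb⟩ : ∃ nb : Ω → Finset Ω, ∀ x y, y ∈ nb x ↔ Γ.Adj x y :=
    ⟨fun x => Finset.univ.filter (fun y => Γ.Adj x y), fun x y => by simp⟩
  have nb_smul : ∀ (g : G) (x : Ω), nb (g • x) = (nb x).image (fun y => g • y) := by
    intro g x
    ext z
    rw [hnb, Finset.mem_image]
    constructor
    · intro hz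
      refine ⟨g⁻¹ • z, ?_, smul_inv_smul g z⟩
      rw [hnb, ← h.inv' g, smul_inv_smul]
      exact hz
    · rintro ⟨y, hy, rfl⟩
      rw [h.inv' g]
      exact (hnb x y).1 hy
  have hinj : ∀ g : G, Function.Injective (fun y : Ω => g • y) := fun g => MulAction.injective g
  have cn_smul : ∀ (g : G) (x y : Ω), (nb (g • x) ∩ nb (g • y)).card = (nb x ∩ nb y).card := by
    intro g x y
    rw [nb_smul, nb_smul, ← Finset.image_inter _ _ (hinj g), Finset.card_image_of_injective _ (hinj g)]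
  have hdega : (nb a).card = 22 := by
    have h1 : ((nb a : Finset Ω) : Set Ω) = {y | Γ.Adj a y} := by
      ext y
      simp [hnb]
    rw [← Set.ncard_coe_finset, h1]
    exact h.deg
  have hdeg : ∀ x, (nb x).card = 22 := by
    intro x
    obtain ⟨g, rfl⟩ := h.trans x
    rw [nb_smul, Finset.card_image_of_injective _ (hinj g)]
    exact hdega
  have hlam_a : ∀ y, Γ.Adj a y → nb a ∩ nb y = ∅ := by
    intro y hy
    rw [Finset.eq_empty_iff_forall_notMem]
    intro z hz
    rw [Finset.mem_inter, hnb, hnb] at hz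
    exact h.tri y z hy hz.1 hz.2
  have hlam : ∀ x y, Γ.Adj x y → (nb x ∩ nb y).card = 0 := by
    intro x y hxy
    obtain ⟨g, rfl⟩ := h.trans x
    have h1 : Γ.Adj a (g⁻¹ • y) := by
      rw [← h.inv' g, smul_inv_smul]
      exact hxy
    have h2 := cn_smul g a (g⁻¹ • y)
    rw [smul_inv_smul, hlam_a _ h1, Finset.card_empty] at h2
    exact h2
  obtain ⟨Far, hFar⟩ : ∃ Far : Finset Ω, ∀ y, y ∈ Far ↔ y ≠ a ∧ ¬ Γ.Adj a y :=
    ⟨Finset.univ.filter (fun y => y ≠ a ∧ ¬ Γ.Adj a y), fun y => by simp⟩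
  have hFarc : Far.card = 77 := by
    have h1 : Far = Finset.univ \ insert a (nb a) := by
      ext y
      rw [hFar, Finset.mem_sdiff, Finset.mem_insert, hnb]
      constructor
      · rintro ⟨h1, h2⟩
        refine ⟨Finset.mem_univ _, ?_⟩
        rintro (h3 | h3)
        · exact h1 h3
        · exact h2 h3
      · rintro ⟨-, h2⟩
        exact ⟨fun h3 => h2 (Or.inl h3), fun h3 => h2 (Or.inr h3)⟩
    have h2 : a ∉ nb a := by
      rw [hnb]
      exact Γ.loopless.irrefl a
    rw [h1, Finset.card_sdiff_of_subset (Finset.subset_univ _), Finset.card_univ, h.card,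
      Finset.card_insert_of_notMem h2, hdega]
  obtain ⟨c₀, hc₀⟩ : Far.Nonempty := by
    rw [← Finset.card_pos, hFarc]
    norm_num
  have hmu_a : ∀ y ∈ Far, (nb a ∩ nb y).card = (nb a ∩ nb c₀).card := by
    intro y hy
    obtain ⟨h1, h2⟩ := (hFar y).1 hy
    obtain ⟨h3, h4⟩ := (hFar c₀).1 hc₀
    obtain ⟨g, hg1, hg2⟩ := h.far c₀ y h3 h1 h4 h2
    have h5 := cn_smul g a c₀
    rw [hg1, hg2] at h5
    exact h5
  have hcount := Finset.sum_card_bipartiteAbove_eq_sum_card_bipartiteBelow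
    (s := nb a) (t := Far) (fun d z => Γ.Adj d z)
  have hL : ∀ d ∈ nb a, (Far.bipartiteAbove (fun d z => Γ.Adj d z) d).card = 21 := by
    intro d hd
    have hd' : Γ.Adj a d := (hnb a d).1 hd
    have h1 : Far.bipartiteAbove (fun d z => Γ.Adj d z) d = (nb d).erase a := by
      ext z
      rw [Finset.bipartiteAbove, Finset.mem_filter, hFar, Finset.mem_erase, hnb]
      constructor
      · rintro ⟨⟨h1, -⟩, h3⟩
        exact ⟨h1, h3⟩
      · rintro ⟨h1, h3⟩
        exact ⟨⟨h1, fun h4 => h.tri d z hd' h4 h3⟩, h3⟩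
    have h2 : a ∈ nb d := by
      rw [hnb]
      exact hd'.symm
    rw [h1, Finset.card_erase_of_mem h2, hdeg]
  have hR : ∀ z ∈ Far, ((nb a).bipartiteBelow (fun d z => Γ.Adj d z) z).card =
      (nb a ∩ nb c₀).card := by
    intro z hz
    have h1 : (nb a).bipartiteBelow (fun d z => Γ.Adj d z) z = nb a ∩ nb z := by
      ext d
      rw [Finset.bipartiteBelow, Finset.mem_filter, Finset.mem_inter, hnb, hnb]
      constructor
      · rintro ⟨h1, h2⟩
        exact ⟨h1, h2.symm⟩
      · rintro ⟨h1, h2⟩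
        exact ⟨h1, h2.symm⟩
    rw [h1]
    exact hmu_a z hz
  rw [Finset.sum_congr rfl hL, Finset.sum_congr rfl hR, Finset.sum_const, Finset.sum_const,
    hdega, hFarc, smul_eq_mul, smul_eq_mul] at hcount
  have hm : (nb a ∩ nb c₀).card = 6 := by omega
  have hmu : ∀ x y, x ≠ y → ¬ Γ.Adj x y → (nb x ∩ nb y).card = 6 := by
    intro x y hxy hadj
    obtain ⟨g, rfl⟩ := h.trans x
    have h1 : g⁻¹ • y ∈ Far := by
      rw [hFar]
      constructor
      · intro h2
        apply hxy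
        rw [← h2, smul_inv_smul]
      · intro h2
        apply hadj
        have h3 := h.inv g _ _ h2
        rwa [smul_inv_smul] at h3
    have h2 := cn_smul g a (g⁻¹ • y)
    rw [smul_inv_smul] at h2
    rw [h2, hmu_a _ h1, hm]
  have hcn : ∀ x y, Fintype.card ↥(Γ.commonNeighbors x y) = (nb x ∩ nb y).card := by
    intro x y
    rw [Fintype.card_eq_nat_card, Nat.card_coe_set_eq, ← Set.ncard_coe_finset]
    congr 1
    ext z
    simp [SimpleGraph.mem_commonNeighbors, hnb]
  refine ⟨h.card, fun v => ?_, fun v w hvw => ?_, fun v w hvw hadj => ?_⟩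
  · rw [← SimpleGraph.card_neighborFinset_eq_degree, ← hdeg v]
    congr 1
    ext z
    simp [hnb]
  · rw [hcn]
    exact hlam v w hvw
  · rw [hcn]
    exact hmu v w hvw hadj

end

/-- The neighbours of a point cannot be pairwise adjacent. -/
theorem no_clique {G : Type*} {Ω : Type*} [Group G] [MulAction G Ω] [Fintype Ω]
    {Γ : SimpleGraph Ω} {a : Ω} (hcard : Fintype.card Ω = 100)
    (htrans : ∀ x : Ω, ∃ g : G, g • a = x)
    (hinv : ∀ (g : G) (x y : Ω), Γ.Adj x y → Γ.Adj (g • x) (g • y))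
    (hdeg : {y | Γ.Adj a y}.ncard = 22)
    (hcl : ∀ y z, Γ.Adj a y → Γ.Adj a z → y ≠ z → Γ.Adj y z) : False := by
  classical
  have inv' : ∀ (g : G) (x y : Ω), Γ.Adj (g • x) (g • y) ↔ Γ.Adj x y := by
    intro g x y
    constructor
    · intro h1
      have h2 := hinv g⁻¹ _ _ h1
      rwa [inv_smul_smul, inv_smul_smul] at h2
    · exact hinv g x y
  obtain ⟨nb, hnb⟩ : ∃ nb : Ω → Finset Ω, ∀ x y, y ∈ nb x ↔ Γ.Adj x y :=
    ⟨fun x => Finset.univ.filter (fun y => Γ.Adj x y), fun x y => by simp⟩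
  have nb_smul : ∀ (g : G) (x : Ω), nb (g • x) = (nb x).image (fun y => g • y) := by
    intro g x
    ext z
    rw [hnb, Finset.mem_image]
    constructor
    · intro hz
      refine ⟨g⁻¹ • z, ?_, smul_inv_smul g z⟩
      rw [hnb, ← inv' g, smul_inv_smul]
      exact hz
    · rintro ⟨y, hy, rfl⟩
      rw [inv' g]
      exact (hnb x y).1 hy
  have hinj : ∀ g : G, Function.Injective (fun y : Ω => g • y) := fun g => MulAction.injective g
  have hdega : (nb a).card = 22 := by
    have h1 : ((nb a : Finset Ω) : Set Ω) = {y | Γ.Adj a y} := by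
      ext y
      simp [hnb]
    rw [← Set.ncard_coe_finset, h1]
    exact hdeg
  obtain ⟨C, hC⟩ : ∃ C : Ω → Finset Ω, ∀ x, C x = insert x (nb x) := ⟨_, fun _ => rfl⟩
  have hCsmul : ∀ (g : G) (x : Ω), C (g • x) = (C x).image (fun y => g • y) := by
    intro g x
    rw [hC, hC, nb_smul, Finset.image_insert]
  have hCa : (C a).card = 23 := by
    rw [hC, Finset.card_insert_of_notMem, hdega]
    rw [hnb]
    exact Γ.loopless.irrefl a
  have hCcard : ∀ x, (C x).card = 23 := by
    intro x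
    obtain ⟨g, rfl⟩ := htrans x
    rw [hCsmul, Finset.card_image_of_injective _ (hinj g)]
    exact hCa
  have hkey_a : ∀ y ∈ C a, C y = C a := by
    intro y hy
    symm
    apply Finset.eq_of_subset_of_card_le
    · intro z hz
      rw [hC, Finset.mem_insert, hnb] at hy hz
      rw [hC, Finset.mem_insert, hnb]
      rcases hy with hy | hy
      · rw [hy]
        exact hz
      · rcases hz with hz | hz
        · rw [hz]
          exact Or.inr hy.symm
        · by_cases hzy : z = y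
          · exact Or.inl hzy
          · exact Or.inr (hcl y z hy hz (Ne.symm hzy))
    · rw [hCcard, hCcard]
  have hkey : ∀ x y, y ∈ C x → C y = C x := by
    intro x y hy
    obtain ⟨g, rfl⟩ := htrans x
    rw [hCsmul] at hy
    obtain ⟨y', hy', rfl⟩ := Finset.mem_image.1 hy
    rw [hCsmul, hCsmul, hkey_a y' hy']
  have hsum := Finset.card_eq_sum_card_image C Finset.univ
  have hterm : ∀ S ∈ Finset.univ.image C, (Finset.univ.filter (fun x => C x = S)).card = 23 := by
    intro S hS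
    obtain ⟨x₀, -, rfl⟩ := Finset.mem_image.1 hS
    have h1 : Finset.univ.filter (fun x => C x = C x₀) = C x₀ := by
      ext x
      rw [Finset.mem_filter]
      constructor
      · rintro ⟨-, h⟩
        rw [← h, hC]
        exact Finset.mem_insert_self _ _
      · intro h
        exact ⟨Finset.mem_univ _, hkey x₀ x h⟩
    rw [h1, hCcard]
  rw [Finset.sum_congr rfl hterm, Finset.sum_const, Finset.card_univ, hcard, smul_eq_mul] at hsum
  omega

section Glue

/-- A group acting by automorphisms of a graph, as a homomorphism to the automorphism group. -/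
def autHom {G Ω : Type*} [Group G] [MulAction G Ω] (Γ : SimpleGraph Ω)
    (i : ∀ (g : G) (x y : Ω), Γ.Adj (g • x) (g • y) ↔ Γ.Adj x y) : G →* (Γ ≃g Γ) where
  toFun g := { toEquiv := MulAction.toPerm g, map_rel_iff' := fun {x y} => i g x y }
  map_one' := by
    ext x
    exact one_smul G x
  map_mul' g h := by
    ext x
    exact mul_smul g h x

theorem autHom_apply {G Ω : Type*} [Group G] [MulAction G Ω] (Γ : SimpleGraph Ω)
    (i : ∀ (g : G) (x y : Ω), Γ.Adj (g • x) (g • y) ↔ Γ.Adj x y) (g : G) (x : Ω) :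
    autHom Γ i g x = g • x := rfl

theorem autHom_injective {G Ω : Type*} [Group G] [MulAction G Ω] (Γ : SimpleGraph Ω)
    (i : ∀ (g : G) (x y : Ω), Γ.Adj (g • x) (g • y) ↔ Γ.Adj x y)
    (f : ∀ g : G, (∀ x : Ω, g • x = x) → g = 1) : Function.Injective (autHom Γ i) := by
  rw [injective_iff_map_eq_one]
  intro g hg
  apply f
  intro x
  rw [← autHom_apply Γ i, hg]
  rfl

/-- Transport of automorphisms along a graph isomorphism. -/
def conjIso {V W : Type*} {Γ : SimpleGraph V} {Γ' : SimpleGraph W} (ψ : Γ ≃g Γ') :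
    (Γ ≃g Γ) ≃* (Γ' ≃g Γ') where
  toFun φ := (ψ.symm.trans φ).trans ψ
  invFun φ := (ψ.trans φ).trans ψ.symm
  left_inv φ := by
    ext x
    simp
  right_inv φ := by
    ext x
    simp
  map_mul' φ φ' := by
    ext x
    simp

variable {G₁ G₂ Ω₁ Ω₂ : Type*} [Group G₁] [Group G₂] [MulAction G₁ Ω₁] [MulAction G₂ Ω₂]
  [Fintype Ω₁] [Fintype Ω₂]

/-- Two groups of order `44352000` acting faithfully on strongly regular graphs with
parameters `(100, 22, 0, 6)`, one of them simple, are isomorphic. -/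
theorem iso_of_srg100 (Γ₁ : SimpleGraph Ω₁) (Γ₂ : SimpleGraph Ω₂) [DecidableRel Γ₁.Adj]
    [DecidableRel Γ₂.Adj] (h₁ : Γ₁.IsSRGWith 100 22 0 6) (h₂ : Γ₂.IsSRGWith 100 22 0 6)
    (i₁ : ∀ (g : G₁) (x y : Ω₁), Γ₁.Adj (g • x) (g • y) ↔ Γ₁.Adj x y)
    (i₂ : ∀ (g : G₂) (x y : Ω₂), Γ₂.Adj (g • x) (g • y) ↔ Γ₂.Adj x y)
    (f₁ : ∀ g : G₁, (∀ x : Ω₁, g • x = x) → g = 1)
    (f₂ : ∀ g : G₂, (∀ x : Ω₂, g • x = x) → g = 1)
    (c₁ : Nat.card G₁ = 44352000) (c₂ : Nat.card G₂ = 44352000) (hs : IsSimpleGroup G₂) :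
    Nonempty (G₁ ≃* G₂) := by
  obtain ⟨ψ⟩ := Helper93.HSG.srg100_iso h₁ h₂
  have hA := Helper93.HSG.srg100_aut_card h₂
  have hfin : Finite (Γ₂ ≃g Γ₂) := Nat.finite_of_card_ne_zero (by rw [hA]; norm_num)
  obtain ⟨F₁, hF₁⟩ : ∃ F₁ : G₁ →* (Γ₂ ≃g Γ₂), Function.Injective F₁ :=
    ⟨(conjIso ψ).toMonoidHom.comp (autHom Γ₁ i₁),
      (conjIso ψ).injective.comp (autHom_injective Γ₁ i₁ f₁)⟩
  obtain ⟨F₂, hF₂⟩ : ∃ F₂ : G₂ →* (Γ₂ ≃g Γ₂), Function.Injective F₂ :=
    ⟨autHom Γ₂ i₂, autHom_injective Γ₂ i₂ f₂⟩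
  have hN₁ : Nat.card F₁.range = 44352000 := by
    rw [← c₁]
    exact (Nat.card_congr (MonoidHom.ofInjective hF₁).toEquiv).symm
  have hN₂ : Nat.card F₂.range = 44352000 := by
    rw [← c₂]
    exact (Nat.card_congr (MonoidHom.ofInjective hF₂).toEquiv).symm
  have hidx : F₁.range.index = 2 := by
    have h3 := Subgroup.card_mul_index F₁.range
    rw [hN₁, hA] at h3
    omega
  have hnorm : F₁.range.Normal := Subgroup.normal_of_index_eq_two hidx
  have hsimple : IsSimpleGroup F₂.range := (MonoidHom.ofInjective hF₂).isSimpleGroup_congr.mp hs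
  have heq : F₁.range = F₂.range := by
    have hno : (F₁.range.subgroupOf F₂.range).Normal := Subgroup.normal_subgroupOf
    rcases hno.eq_bot_or_eq_top with h3 | h3
    · exfalso
      have h4 := Subgroup.relIndex_dvd_index_of_normal F₁.range F₂.range
      rw [Subgroup.relIndex, h3, Subgroup.index_bot, hN₂, hidx] at h4
      omega
    · rw [Subgroup.subgroupOf_eq_top] at h3
      exact (Subgroup.eq_of_le_of_card_ge h3 (by rw [hN₁, hN₂])).symm
  exact ⟨(MonoidHom.ofInjective hF₁).trans ((MulEquiv.subgroupCongr heq).trans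
    (MonoidHom.ofInjective hF₂).symm)⟩

end Glue

end Cfsg.Agent.Lib.Helper26
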