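import Mathlib

set_option autoImplicit false

namespace Cfsg.Agent.Lib.Helper26

open Module

section Ree

variable {Ω : Type*} [Fintype Ω] [DecidableEq Ω]

/-- The operator of a permutation on the rational functions on the points. -/
noncomputable def permOp (g : Equiv.Perm Ω) : (Ω → ℚ) →ₗ[ℚ] (Ω → ℚ) :=
  LinearMap.funLeft ℚ ℚ (g⁻¹ : Equiv.Perm Ω)

omit [Fintype Ω] [DecidableEq Ω] in
theorem permOp_apply (g : Equiv.Perm Ω) (v : Ω → ℚ) (i : Ω) : permOp g v i = v (g⁻¹ i) := rfl

omit [Fintype Ω] [DecidableEq Ω] in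
theorem permOp_mul (g h : Equiv.Perm Ω) (v : Ω → ℚ) : permOp (g * h) v = permOp g (permOp h v) := by
  funext i
  rw [permOp_apply, permOp_apply, permOp_apply, mul_inv_rev, Equiv.Perm.mul_apply]

omit [Fintype Ω] [DecidableEq Ω] in
theorem permOp_one (v : Ω → ℚ) : permOp (1 : Equiv.Perm Ω) v = v := by
  funext i
  rw [permOp_apply, inv_one, Equiv.Perm.one_apply]

omit [Fintype Ω] in
theorem permOp_single (g : Equiv.Perm Ω) (j : Ω) :
    permOp g (Pi.single j (1 : ℚ)) = Pi.single (g j) (1 : ℚ) := by
  funext i
  rw [permOp_apply, Pi.single_apply, Pi.single_apply]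
  have h : (g⁻¹ i = j) ↔ (i = g j) := by
    constructor
    · intro e
      rw [← e]
      exact (g.apply_symm_apply i).symm
    · intro e
      rw [e]
      exact g.symm_apply_apply j
  simp only [h]

/-- The difference of the identity and the operator of a permutation. -/
noncomputable def diffOp (g : Equiv.Perm Ω) : (Ω → ℚ) →ₗ[ℚ] (Ω → ℚ) := LinearMap.id - permOp g

omit [Fintype Ω] [DecidableEq Ω] in
theorem diffOp_apply (g : Equiv.Perm Ω) (v : Ω → ℚ) : diffOp g v = v - permOp g v := rfl

omit [DecidableEq Ω] in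
/-- Scott's inequality for three permutations with product one. -/
theorem scott_three (x y z : Equiv.Perm Ω) (hxyz : x * y * z = 1) :
    finrank ℚ (Ω → ℚ)
        + finrank ℚ ↥(LinearMap.range (diffOp x) ⊔ LinearMap.range (diffOp y))
      ≤ finrank ℚ ↥(LinearMap.range (diffOp x)) + finrank ℚ ↥(LinearMap.range (diffOp y))
        + finrank ℚ ↥(LinearMap.range (diffOp z))
        + finrank ℚ ↥(LinearMap.ker (diffOp x) ⊓ LinearMap.ker (diffOp y)) := by
  set Rx := LinearMap.range (diffOp x) with hRx
  set Ry := LinearMap.range (diffOp y) with hRy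
  set Rz := LinearMap.range (diffOp z) with hRz
  let Φ : (Ω → ℚ) →ₗ[ℚ] (↥Rx × ↥Ry × ↥Rz) :=
    (diffOp x).rangeRestrict.prod ((diffOp y).rangeRestrict.prod (diffOp z).rangeRestrict)
  let Ψ : (↥Rx × ↥Ry × ↥Rz) →ₗ[ℚ] (Ω → ℚ) :=
    Rx.subtype.coprod (((permOp x).comp Ry.subtype).coprod ((permOp (x * y)).comp Rz.subtype))
  have hΨ : ∀ a : ↥Rx × ↥Ry × ↥Rz,
      Ψ a = (a.1 : Ω → ℚ) + (permOp x (a.2.1 : Ω → ℚ) + permOp (x * y) (a.2.2 : Ω → ℚ)) := by
    intro a
    rfl
  have hcomp : ∀ v, Ψ (Φ v) = 0 := by
    intro v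
    rw [hΨ]
    show diffOp x v + (permOp x (diffOp y v) + permOp (x * y) (diffOp z v)) = 0
    rw [diffOp_apply, diffOp_apply, diffOp_apply, map_sub, map_sub, ← permOp_mul, ← permOp_mul,
      hxyz, permOp_one]
    abel
  have h1 : LinearMap.range Φ ≤ LinearMap.ker Ψ := by
    rintro _ ⟨v, rfl⟩
    exact hcomp v
  have h2 := LinearMap.finrank_range_add_finrank_ker Φ
  have h3 := LinearMap.finrank_range_add_finrank_ker Ψ
  have h4 : finrank ℚ (↥Rx × ↥Ry × ↥Rz) = finrank ℚ ↥Rx + (finrank ℚ ↥Ry + finrank ℚ ↥Rz) := by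
    rw [Module.finrank_prod, Module.finrank_prod]
  have h5 : finrank ℚ ↥(LinearMap.range Φ) ≤ finrank ℚ ↥(LinearMap.ker Ψ) :=
    Submodule.finrank_mono h1
  have h6 : LinearMap.ker Φ ≤ LinearMap.ker (diffOp x) ⊓ LinearMap.ker (diffOp y) := by
    intro v hv
    rw [LinearMap.mem_ker] at hv
    have e1 : (Φ v).1 = 0 := by rw [hv]; rfl
    have e2 : (Φ v).2.1 = 0 := by rw [hv]; rfl
    refine Submodule.mem_inf.mpr ⟨?_, ?_⟩
    · rw [LinearMap.mem_ker]
      exact congrArg Subtype.val e1
    · rw [LinearMap.mem_ker]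
      exact congrArg Subtype.val e2
  have h7 : Rx ⊔ Ry ≤ LinearMap.range Ψ := by
    have hx : ∀ v, diffOp x v ∈ LinearMap.range Ψ := by
      intro v
      refine ⟨(⟨diffOp x v, LinearMap.mem_range_self _ v⟩, 0, 0), ?_⟩
      rw [hΨ]
      simp
    refine sup_le ?_ ?_
    · rintro _ ⟨v, rfl⟩
      exact hx v
    · rintro _ ⟨v, rfl⟩
      have e : diffOp y v = permOp x (diffOp y v) + diffOp x (diffOp y v) := by
        rw [diffOp_apply x]
        abel
      rw [e]
      refine Submodule.add_mem _ ?_ (hx _)
      refine ⟨(0, ⟨diffOp y v, LinearMap.mem_range_self _ v⟩, 0), ?_⟩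
      rw [hΨ]
      simp
  have h8 := Submodule.finrank_mono h6
  have h9 := Submodule.finrank_mono h7
  omega

/-- The number of cycles of a permutation, fixed points included. -/
noncomputable def cycCount (g : Equiv.Perm Ω) : ℕ :=
  Nat.card (MulAction.orbitRel.Quotient ↥(Subgroup.zpowers g) Ω)

omit [Fintype Ω] [DecidableEq Ω] in
theorem mk_apply_eq (g : Equiv.Perm Ω) (j : Ω) :
    (Quotient.mk'' (g j) : MulAction.orbitRel.Quotient ↥(Subgroup.zpowers g) Ω)
      = Quotient.mk'' j := by
  apply Quotient.sound'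
  show g j ∈ MulAction.orbit ↥(Subgroup.zpowers g) j
  exact ⟨⟨g, Subgroup.mem_zpowers g⟩, rfl⟩

/-- The rank of the difference operator is at most the number of points minus the number of
cycles. -/
theorem finrank_range_diffOp_le (g : Equiv.Perm Ω) :
    finrank ℚ ↥(LinearMap.range (diffOp g)) + cycCount g ≤ Fintype.card Ω := by
  classical
  have : Fintype (MulAction.orbitRel.Quotient ↥(Subgroup.zpowers g) Ω) := Fintype.ofFinite _
  let L : (Ω → ℚ) →ₗ[ℚ] (MulAction.orbitRel.Quotient ↥(Subgroup.zpowers g) Ω → ℚ) :=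
    { toFun := fun v q => ∑ i, if Quotient.mk'' i = q then v i else 0
      map_add' := by
        intro v w
        funext q
        show (∑ i, if Quotient.mk'' i = q then (v i + w i) else 0)
          = (∑ i, if Quotient.mk'' i = q then v i else 0)
            + ∑ i, if Quotient.mk'' i = q then w i else 0
        rw [← Finset.sum_add_distrib]
        refine Finset.sum_congr rfl (fun i _ => ?_)
        split_ifs
        · rfl
        · rw [add_zero]
      map_smul' := by
        intro c v
        funext q
        show (∑ i, if Quotient.mk'' i = q then (c * v i) else 0)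
          = c * ∑ i, if Quotient.mk'' i = q then v i else 0
        rw [Finset.mul_sum]
        refine Finset.sum_congr rfl (fun i _ => ?_)
        split_ifs
        · rfl
        · rw [mul_zero] }
  have hL : ∀ v q, L v q = ∑ i, if Quotient.mk'' i = q then v i else 0 := fun _ _ => rfl
  have hL0 : ∀ v, L (diffOp g v) = 0 := by
    intro v
    funext q
    rw [hL]
    show (∑ i, if Quotient.mk'' i = q then (v i - v (g⁻¹ i)) else 0) = 0
    have e1 : (∑ i, if (Quotient.mk'' i : MulAction.orbitRel.Quotient ↥(Subgroup.zpowers g) Ω)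
        = q then (v i - v (g⁻¹ i)) else 0)
        = (∑ i, if (Quotient.mk'' i : MulAction.orbitRel.Quotient ↥(Subgroup.zpowers g) Ω)
          = q then v i else 0)
          - ∑ i, if (Quotient.mk'' i : MulAction.orbitRel.Quotient ↥(Subgroup.zpowers g) Ω)
            = q then v (g⁻¹ i) else 0 := by
      rw [← Finset.sum_sub_distrib]
      refine Finset.sum_congr rfl (fun i _ => ?_)
      split_ifs
      · rfl
      · rw [sub_zero]
    have e2 : (∑ i, if (Quotient.mk'' i : MulAction.orbitRel.Quotient ↥(Subgroup.zpowers g) Ω)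
        = q then v (g⁻¹ i) else 0)
        = ∑ i, if (Quotient.mk'' i : MulAction.orbitRel.Quotient ↥(Subgroup.zpowers g) Ω)
          = q then v i else 0 := by
      rw [← Equiv.sum_comp g]
      refine Finset.sum_congr rfl (fun j _ => ?_)
      rw [mk_apply_eq]
      have e3 : g⁻¹ (g j) = j := g.symm_apply_apply j
      rw [e3]
    rw [e1, e2, sub_self]
  have hsurj : Function.Surjective L := by
    intro φ
    refine ⟨fun i => if i = (Quotient.mk'' i :
      MulAction.orbitRel.Quotient ↥(Subgroup.zpowers g) Ω).out then φ (Quotient.mk'' i) else 0, ?_⟩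
    funext q
    rw [hL, Finset.sum_eq_single q.out]
    · have e : (Quotient.mk'' q.out : MulAction.orbitRel.Quotient ↥(Subgroup.zpowers g) Ω) = q :=
        Quotient.out_eq' q
      rw [if_pos e, e, if_pos rfl]
    · intro i _ hi
      by_cases h : (Quotient.mk'' i : MulAction.orbitRel.Quotient ↥(Subgroup.zpowers g) Ω) = q
      · rw [if_pos h, h, if_neg hi]
      · rw [if_neg h]
    · intro h
      exact absurd (Finset.mem_univ _) h
  have h1 : LinearMap.range (diffOp g) ≤ LinearMap.ker L := by
    rintro _ ⟨v, rfl⟩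
    exact hL0 v
  have h2 := LinearMap.finrank_range_add_finrank_ker L
  have h3 : finrank ℚ ↥(LinearMap.range L)
      = Fintype.card (MulAction.orbitRel.Quotient ↥(Subgroup.zpowers g) Ω) := by
    rw [LinearMap.range_eq_top.mpr hsurj, finrank_top, Module.finrank_fintype_fun_eq_card]
  have h4 : finrank ℚ (Ω → ℚ) = Fintype.card Ω := Module.finrank_fintype_fun_eq_card ℚ
  have h5 := Submodule.finrank_mono h1
  have h6 : cycCount g = Fintype.card (MulAction.orbitRel.Quotient ↥(Subgroup.zpowers g) Ω) :=
    Nat.card_eq_fintype_card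
  omega

/-- The number of cycles of a permutation of prime order, by the lemma of Burnside. -/
theorem cycCount_prime (g : Equiv.Perm Ω) (p : ℕ) (hp : p.Prime) (hg : orderOf g = p) :
    cycCount g * p = Fintype.card Ω + (p - 1) * (Finset.univ.filter (fun i => g i = i)).card := by
  classical
  have : Fact p.Prime := ⟨hp⟩
  have : Fintype ↥(Subgroup.zpowers g) := Fintype.ofFinite _
  have : Fintype (MulAction.orbitRel.Quotient ↥(Subgroup.zpowers g) Ω) := Fintype.ofFinite _
  have hB := MulAction.sum_card_fixedBy_eq_card_orbits_mul_card_group ↥(Subgroup.zpowers g) Ω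
  have hcardG : Nat.card ↥(Subgroup.zpowers g) = p := by rw [Nat.card_zpowers, hg]
  have hcardG' : Fintype.card ↥(Subgroup.zpowers g) = p := by
    rw [Fintype.card_eq_nat_card, hcardG]
  have hfix1 : Fintype.card (MulAction.fixedBy Ω (1 : ↥(Subgroup.zpowers g)))
      = Fintype.card Ω := by
    rw [← Finset.card_univ]
    exact Fintype.card_of_subtype Finset.univ (fun i => by
      simp)
  have hfix : ∀ a : ↥(Subgroup.zpowers g), a ≠ 1 → Fintype.card (MulAction.fixedBy Ω a)
      = (Finset.univ.filter (fun i => g i = i)).card := by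
    intro a ha
    refine Fintype.card_of_subtype _ (fun i => ?_)
    rw [Finset.mem_filter, MulAction.mem_fixedBy]
    simp only [Finset.mem_univ, true_and]
    constructor
    · intro hi
      obtain ⟨k, hk⟩ := Subgroup.mem_zpowers_iff.mp a.2
      show (a : Equiv.Perm Ω) i = i
      rw [← hk]
      exact Equiv.Perm.zpow_apply_eq_self_of_apply_eq_self hi k
    · intro hi
      have hmem : (⟨g, Subgroup.mem_zpowers g⟩ : ↥(Subgroup.zpowers g)) ∈ Subgroup.zpowers a :=
        mem_zpowers_of_prime_card hcardG ha
      obtain ⟨k, hk⟩ := Subgroup.mem_zpowers_iff.mp hmem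
      have hk' : ((a : Equiv.Perm Ω)) ^ k = g := by
        have := congrArg Subtype.val hk
        simpa using this
      rw [← hk']
      exact Equiv.Perm.zpow_apply_eq_self_of_apply_eq_self hi k
  rw [← Finset.add_sum_erase Finset.univ _ (Finset.mem_univ (1 : ↥(Subgroup.zpowers g))),
    Finset.sum_congr rfl (fun a ha => hfix a (Finset.ne_of_mem_erase ha)),
    Finset.sum_const, Finset.card_erase_of_mem (Finset.mem_univ _), Finset.card_univ, hcardG',
    hfix1, smul_eq_mul] at hB
  have h6 : cycCount g = Fintype.card (MulAction.orbitRel.Quotient ↥(Subgroup.zpowers g) Ω) :=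
    Nat.card_eq_fintype_card
  rw [h6, ← hB]

/-- The permutations fixing a function. -/
def fixerOf (v : Ω → ℚ) : Subgroup (Equiv.Perm Ω) where
  carrier := {g | permOp g v = v}
  mul_mem' := by
    intro g h hg hh
    show permOp (g * h) v = v
    rw [permOp_mul, show permOp h v = v from hh]
    exact hg
  one_mem' := permOp_one v
  inv_mem' := by
    intro g hg
    show permOp g⁻¹ v = v
    have h1 : permOp g⁻¹ (permOp g v) = v := by
      rw [← permOp_mul, inv_mul_cancel, permOp_one]
    rw [show permOp g v = v from hg] at h1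
    exact h1

/-- The permutations moving every function by an element of a subspace. -/
def moverOf (W : Submodule ℚ (Ω → ℚ)) : Subgroup (Equiv.Perm Ω) where
  carrier := {g | ∀ v, diffOp g v ∈ W}
  mul_mem' := by
    intro g h hg hh v
    have e : diffOp (g * h) v = diffOp g v + diffOp h v - diffOp g (diffOp h v) := by
      rw [diffOp_apply, diffOp_apply, diffOp_apply, diffOp_apply, permOp_mul, map_sub]
      abel
    rw [e]
    exact W.sub_mem (W.add_mem (hg v) (hh v)) (hg _)
  one_mem' := by
    intro v
    rw [diffOp_apply, permOp_one, sub_self]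
    exact W.zero_mem
  inv_mem' := by
    intro g hg v
    have e : diffOp g⁻¹ v = -diffOp g (permOp g⁻¹ v) := by
      rw [diffOp_apply, diffOp_apply, ← permOp_mul, mul_inv_cancel, permOp_one]
      abel
    rw [e]
    exact W.neg_mem (hg _)

/-- The inequality of Ree for three permutations with product one generating a group with at
most two orbits. -/
theorem ree_two_orbits (x y z : Equiv.Perm Ω) (hxyz : x * y * z = 1) (a b : Ω)
    (horb : ∀ i, ∃ g ∈ Subgroup.closure ({x, y} : Set (Equiv.Perm Ω)), g a = i ∨ g b = i) :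
    cycCount x + cycCount y + cycCount z ≤ Fintype.card Ω + 4 := by
  have hs := scott_three x y z hxyz
  have hn : finrank ℚ (Ω → ℚ) = Fintype.card Ω := Module.finrank_fintype_fun_eq_card ℚ
  have hx := finrank_range_diffOp_le x
  have hy := finrank_range_diffOp_le y
  have hz := finrank_range_diffOp_le z
  -- the common fixed functions
  have hC : finrank ℚ ↥(LinearMap.ker (diffOp x) ⊓ LinearMap.ker (diffOp y)) ≤ 2 := by
    let E : ↥(LinearMap.ker (diffOp x) ⊓ LinearMap.ker (diffOp y)) →ₗ[ℚ] ℚ × ℚ :=
      ((LinearMap.proj a).prod (LinearMap.proj b)).comp (Submodule.subtype _)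
    have hE : ∀ v : ↥(LinearMap.ker (diffOp x) ⊓ LinearMap.ker (diffOp y)),
        E v = ((v : Ω → ℚ) a, (v : Ω → ℚ) b) := fun _ => rfl
    have hinj : Function.Injective E := by
      rw [← LinearMap.ker_eq_bot, LinearMap.ker_eq_bot']
      intro v hv
      rw [hE, Prod.mk_eq_zero] at hv
      obtain ⟨hva, hvb⟩ := hv
      have hvx : permOp x (v : Ω → ℚ) = v := by
        have h1 : diffOp x (v : Ω → ℚ) = 0 := LinearMap.mem_ker.mp (Submodule.mem_inf.mp v.2).1
        rw [diffOp_apply, sub_eq_zero] at h1
        exact h1.symm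
      have hvy : permOp y (v : Ω → ℚ) = v := by
        have h1 : diffOp y (v : Ω → ℚ) = 0 := LinearMap.mem_ker.mp (Submodule.mem_inf.mp v.2).2
        rw [diffOp_apply, sub_eq_zero] at h1
        exact h1.symm
      have hle : Subgroup.closure ({x, y} : Set (Equiv.Perm Ω)) ≤ fixerOf (v : Ω → ℚ) := by
        refine (Subgroup.closure_le _).mpr ?_
        intro g hg
        rcases hg with rfl | hg
        · exact hvx
        · rw [Set.mem_singleton_iff] at hg
          rw [hg]
          exact hvy
      apply Subtype.ext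
      funext i
      obtain ⟨g, hg, hi⟩ := horb i
      have h2 : permOp g (v : Ω → ℚ) = v := hle hg
      have h3 : ∀ j, (v : Ω → ℚ) (g j) = (v : Ω → ℚ) j := by
        intro j
        have h4 := congrFun h2 (g j)
        rw [permOp_apply] at h4
        have e3 : g⁻¹ (g j) = j := g.symm_apply_apply j
        rw [e3] at h4
        exact h4.symm
      rcases hi with hi | hi
      · rw [← hi, h3, hva]
        rfl
      · rw [← hi, h3, hvb]
        rfl
    have h1 := LinearMap.finrank_le_finrank_of_injective hinj
    rw [Module.finrank_prod, Module.finrank_self] at h1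
    exact h1
  -- the span of the differences
  have hW : Fintype.card Ω
      ≤ finrank ℚ ↥(LinearMap.range (diffOp x) ⊔ LinearMap.range (diffOp y)) + 2 := by
    set W := LinearMap.range (diffOp x) ⊔ LinearMap.range (diffOp y) with hWdef
    have hle : Subgroup.closure ({x, y} : Set (Equiv.Perm Ω)) ≤ moverOf W := by
      refine (Subgroup.closure_le _).mpr ?_
      intro g hg v
      rcases hg with rfl | hg
      · exact (le_sup_left : LinearMap.range (diffOp g) ≤ W) (LinearMap.mem_range_self _ v)
      · rw [Set.mem_singleton_iff] at hg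
        rw [hg]
        exact (le_sup_right : LinearMap.range (diffOp y) ≤ W) (LinearMap.mem_range_self _ v)
    let T : Finset (Ω → ℚ) := {Pi.single a (1 : ℚ), Pi.single b (1 : ℚ)}
    have hTa : Pi.single a (1 : ℚ) ∈ Submodule.span ℚ (T : Set (Ω → ℚ)) :=
      Submodule.subset_span (by simp [T])
    have hTb : Pi.single b (1 : ℚ) ∈ Submodule.span ℚ (T : Set (Ω → ℚ)) :=
      Submodule.subset_span (by simp [T])
    have hsingle : ∀ i, Pi.single i (1 : ℚ) ∈ W ⊔ Submodule.span ℚ (T : Set (Ω → ℚ)) := by
      intro i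
      obtain ⟨g, hg, hi⟩ := horb i
      have hmov : ∀ j, Pi.single j (1 : ℚ) - Pi.single (g j) (1 : ℚ) ∈ W := by
        intro j
        have h1 := hle hg (Pi.single j (1 : ℚ))
        rw [diffOp_apply, permOp_single] at h1
        exact h1
      rcases hi with hi | hi
      · have e : (Pi.single i (1 : ℚ) : Ω → ℚ)
            = -((Pi.single a (1 : ℚ) : Ω → ℚ) - (Pi.single (g a) (1 : ℚ) : Ω → ℚ))
              + (Pi.single a (1 : ℚ) : Ω → ℚ) := by
          rw [hi]
          abel
        rw [e]
        exact Submodule.add_mem_sup (W.neg_mem (hmov a)) hTa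
      · have e : (Pi.single i (1 : ℚ) : Ω → ℚ)
            = -((Pi.single b (1 : ℚ) : Ω → ℚ) - (Pi.single (g b) (1 : ℚ) : Ω → ℚ))
              + (Pi.single b (1 : ℚ) : Ω → ℚ) := by
          rw [hi]
          abel
        rw [e]
        exact Submodule.add_mem_sup (W.neg_mem (hmov b)) hTb
    have htop : W ⊔ Submodule.span ℚ (T : Set (Ω → ℚ)) = ⊤ := by
      rw [eq_top_iff]
      intro v _
      rw [← Finset.univ_sum_single v]
      refine Submodule.sum_mem _ (fun i _ => ?_)
      have e : Pi.single i (v i) = v i • Pi.single i (1 : ℚ) := by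
        rw [← Pi.single_smul, smul_eq_mul, mul_one]
      rw [e]
      exact Submodule.smul_mem _ _ (hsingle i)
    have h1 := Submodule.finrank_sup_add_finrank_inf_eq W (Submodule.span ℚ (T : Set (Ω → ℚ)))
    rw [htop, finrank_top, hn] at h1
    have h2 : finrank ℚ ↥(Submodule.span ℚ (T : Set (Ω → ℚ))) ≤ 2 :=
      (finrank_span_finset_le_card T).trans Finset.card_le_two
    omega
  omega

end Ree

end Cfsg.Agent.Lib.Helper26
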