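import Mathlib
import Cfsg.Agent.Lib.Helper7.GolayTrans
import Cfsg.Agent.Lib.Helper7.GolayWeights

set_option autoImplicit false

open scoped Pointwise

namespace Cfsg.Agent.Lib.Helper26

open Cfsg.Agent.Lib.Helper7

/-- Five-fold transitivity, for lists. -/
theorem M24_lists_map {L L' : List Cfsg.GolayPt} (hL : L.Nodup) (hL' : L'.Nodup)
    (hlen : L.length = L'.length) (h5 : L.length ≤ 5) :
    ∃ g ∈ Cfsg.M24, L.map (fun p => g p) = L' := by
  let x : Fin L.length ↪ Cfsg.GolayPt := ⟨fun i => L[i.val], fun i j hij =>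
    Fin.ext ((List.Nodup.getElem_inj_iff hL).mp hij)⟩
  let y : Fin L.length ↪ Cfsg.GolayPt := ⟨fun i => L'[i.val]'(by have := i.isLt; omega),
    fun i j hij => Fin.ext ((List.Nodup.getElem_inj_iff hL').mp hij)⟩
  obtain ⟨g, hg, hgxy⟩ := M24_exists_smul_eq h5 x y
  refine ⟨g, hg, List.ext_getElem (by simp [hlen]) (fun j h1 h2 => ?_)⟩
  rw [List.getElem_map]
  exact hgxy ⟨j, by simpa using h1⟩

theorem smul_eq_of_toList_map {g : Equiv.Perm Cfsg.GolayPt} {A A' : Finset Cfsg.GolayPt}
    (h : A.toList.map (fun p => g p) = A'.toList) : g • A = A' := by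
  ext p
  rw [← Finset.mem_toList (s := A'), ← h, List.mem_map]
  constructor
  · intro hp
    obtain ⟨q, hq, rfl⟩ := Finset.mem_smul_finset.mp hp
    exact ⟨q, Finset.mem_toList.mpr hq, rfl⟩
  · rintro ⟨q, hq, rfl⟩
    exact Finset.smul_mem_smul_finset (Finset.mem_toList.mp hq)

/-- Five-fold transitivity, for three disjoint blocks of points. -/
theorem M24_three_blocks {A B C A' B' C' : Finset Cfsg.GolayPt} (hAB : Disjoint A B)
    (hAC : Disjoint A C) (hBC : Disjoint B C) (hAB' : Disjoint A' B') (hAC' : Disjoint A' C')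
    (hBC' : Disjoint B' C') (ha : A.card = A'.card) (hb : B.card = B'.card)
    (hc : C.card = C'.card) (h5 : A.card + B.card + C.card ≤ 5) :
    ∃ g ∈ Cfsg.M24, g • A = A' ∧ g • B = B' ∧ g • C = C' := by
  have key : ∀ {A B C : Finset Cfsg.GolayPt}, Disjoint A B → Disjoint A C → Disjoint B C →
      (A.toList ++ (B.toList ++ C.toList)).Nodup := by
    intro A B C hAB hAC hBC
    rw [List.nodup_append, List.nodup_append]
    refine ⟨A.nodup_toList, ⟨B.nodup_toList, C.nodup_toList, ?_⟩, ?_⟩
    · intro a ha b hb hab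
      rw [Finset.mem_toList] at ha hb
      rw [← hab] at hb
      exact Finset.disjoint_left.mp hBC ha hb
    · intro a ha b hb hab
      rw [Finset.mem_toList] at ha
      rw [List.mem_append, Finset.mem_toList, Finset.mem_toList] at hb
      rw [← hab] at hb
      rcases hb with hb | hb
      · exact Finset.disjoint_left.mp hAB ha hb
      · exact Finset.disjoint_left.mp hAC ha hb
  obtain ⟨g, hg, hmap⟩ := M24_lists_map (key hAB hAC hBC) (key hAB' hAC' hBC')
    (by simp [ha, hb, hc]) (by simp; omega)
  rw [List.map_append, List.map_append] at hmap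
  obtain ⟨h1, h23⟩ := List.append_inj hmap (by simp [ha])
  obtain ⟨h2, h3⟩ := List.append_inj h23 (by simp [hb])
  exact ⟨g, hg, smul_eq_of_toList_map h1, smul_eq_of_toList_map h2, smul_eq_of_toList_map h3⟩

/-- A set of points can be fixed while carrying a second set to a third that meets the first in
equally many points, provided at most five points are involved. -/
theorem M24_pair_transport {s y z : Finset Cfsg.GolayPt} (hyz : y.card = z.card)
    (h : (s ∩ y).card = (s ∩ z).card) (h5 : (s ∪ y).card ≤ 5) :
    ∃ g ∈ Cfsg.M24, g • s = s ∧ g • y = z := by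
  have e1 := Finset.card_sdiff_add_card_inter s y
  have e2 := Finset.card_sdiff_add_card_inter s z
  have e3 := Finset.card_sdiff_add_card_inter y s
  have e4 := Finset.card_sdiff_add_card_inter z s
  rw [Finset.inter_comm] at e3 e4
  have e5 := Finset.card_union_add_card_inter s y
  obtain ⟨g, hg, h1, h2, h3⟩ := M24_three_blocks (A := s ∩ y) (B := s \ y) (C := y \ s)
    (A' := s ∩ z) (B' := s \ z) (C' := z \ s)
    (Finset.disjoint_left.mpr fun p hp hp' =>
      (Finset.mem_sdiff.mp hp').2 (Finset.mem_inter.mp hp).2)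
    (Finset.disjoint_left.mpr fun p hp hp' =>
      (Finset.mem_sdiff.mp hp').2 (Finset.mem_inter.mp hp).1)
    (Finset.disjoint_left.mpr fun p hp hp' =>
      (Finset.mem_sdiff.mp hp').2 (Finset.mem_sdiff.mp hp).1)
    (Finset.disjoint_left.mpr fun p hp hp' =>
      (Finset.mem_sdiff.mp hp').2 (Finset.mem_inter.mp hp).2)
    (Finset.disjoint_left.mpr fun p hp hp' =>
      (Finset.mem_sdiff.mp hp').2 (Finset.mem_inter.mp hp).1)
    (Finset.disjoint_left.mpr fun p hp hp' =>
      (Finset.mem_sdiff.mp hp').2 (Finset.mem_sdiff.mp hp).1)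
    h (by omega) (by omega) (by omega)
  refine ⟨g, hg, ?_, ?_⟩
  · have hs : s = s ∩ y ∪ s \ y := by
      ext p
      simp only [Finset.mem_union, Finset.mem_inter, Finset.mem_sdiff]
      tauto
    have hs' : s = s ∩ z ∪ s \ z := by
      ext p
      simp only [Finset.mem_union, Finset.mem_inter, Finset.mem_sdiff]
      tauto
    conv_lhs => rw [hs]
    rw [Finset.smul_finset_union, h1, h2, ← hs']
  · have hy : y = s ∩ y ∪ y \ s := by
      ext p
      simp only [Finset.mem_union, Finset.mem_inter, Finset.mem_sdiff]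
      tauto
    have hz : z = s ∩ z ∪ z \ s := by
      ext p
      simp only [Finset.mem_union, Finset.mem_inter, Finset.mem_sdiff]
      tauto
    conv_lhs => rw [hy]
    rw [Finset.smul_finset_union, h1, h3, ← hz]

/-- The number of `w`-subsets meeting a given set in `i` points. -/
theorem card_filter_inter {α : Type*} [Fintype α] [DecidableEq α] (s : Finset α) (w i : ℕ)
    (hi : i ≤ w) :
    ((Finset.powersetCard w Finset.univ).filter (fun y => (s ∩ y).card = i)).card
      = s.card.choose i * (Fintype.card α - s.card).choose (w - i) := by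
  have hcompl : (sᶜ).card = Fintype.card α - s.card := Finset.card_compl s
  rw [← hcompl, ← Finset.card_powersetCard, ← Finset.card_powersetCard, ← Finset.card_product]
  refine Finset.card_nbij' (fun y => (s ∩ y, y \ s)) (fun ab => ab.1 ∪ ab.2) ?_ ?_ ?_ ?_
  · intro y hy
    simp only [Finset.mem_coe, Finset.mem_filter, Finset.mem_powersetCard, Finset.subset_univ, true_and] at hy
    simp only [Finset.mem_coe, Finset.mem_product, Finset.mem_powersetCard]
    refine ⟨⟨Finset.inter_subset_left, hy.2⟩, ⟨?_, ?_⟩⟩
    · intro p hp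
      rw [Finset.mem_compl]
      exact (Finset.mem_sdiff.mp hp).2
    · have := Finset.card_sdiff_add_card_inter y s
      rw [Finset.inter_comm] at this
      omega
  · intro ab hab
    simp only [Finset.mem_coe, Finset.mem_product, Finset.mem_powersetCard] at hab
    obtain ⟨⟨ha1, ha2⟩, ⟨hb1, hb2⟩⟩ := hab
    have hdisj : Disjoint ab.1 ab.2 := Finset.disjoint_left.mpr fun p hp hp' =>
      Finset.mem_compl.mp (hb1 hp') (ha1 hp)
    simp only [Finset.mem_coe, Finset.mem_filter, Finset.mem_powersetCard, Finset.subset_univ, true_and]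
    refine ⟨?_, ?_⟩
    · rw [Finset.card_union_of_disjoint hdisj, ha2, hb2]
      omega
    · have : s ∩ (ab.1 ∪ ab.2) = ab.1 := by
        ext p
        simp only [Finset.mem_inter, Finset.mem_union]
        constructor
        · rintro ⟨hp, hp1 | hp2⟩
          · exact hp1
          · exact absurd hp (Finset.mem_compl.mp (hb1 hp2))
        · intro hp
          exact ⟨ha1 hp, Or.inl hp⟩
      rw [this, ha2]
  · intro y _
    ext p
    simp only [Finset.mem_union, Finset.mem_inter, Finset.mem_sdiff]
    tauto
  · intro ab hab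
    simp only [Finset.mem_coe, Finset.mem_product, Finset.mem_powersetCard] at hab
    obtain ⟨⟨ha1, ha2⟩, ⟨hb1, hb2⟩⟩ := hab
    apply Prod.ext
    · ext p
      simp only [Finset.mem_inter, Finset.mem_union]
      constructor
      · rintro ⟨hp, hp1 | hp2⟩
        · exact hp1
        · exact absurd hp (Finset.mem_compl.mp (hb1 hp2))
      · intro hp
        exact ⟨ha1 hp, Or.inl hp⟩
    · ext p
      simp only [Finset.mem_sdiff, Finset.mem_union]
      constructor
      · rintro ⟨hp1 | hp2, hp⟩
        · exact absurd (ha1 hp1) hp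
        · exact hp2
      · intro hp
        exact ⟨Or.inr hp, Finset.mem_compl.mp (hb1 hp)⟩

/-- The number of `w`-subsets of the 24 points meeting a given set in `i` points. -/
theorem ncard_inter_eq (s : Finset Cfsg.GolayPt) (w i : ℕ) (hi : i ≤ w) :
    {y : Finset Cfsg.GolayPt | y.card = w ∧ (s ∩ y).card = i}.ncard
      = s.card.choose i * (24 - s.card).choose (w - i) := by
  have h24 : Fintype.card Cfsg.GolayPt = 24 := by
    rw [Fintype.card_option, ZMod.card]
  rw [← h24, ← card_filter_inter s w i hi, ← Set.ncard_coe_finset]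
  congr 1
  ext y
  simp

end Cfsg.Agent.Lib.Helper26
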