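import Cfsg.Agent.Lib.Helper26.TabGrp
import Cfsg.Agent.Lib.Helper26.SylData

set_option autoImplicit false

namespace Cfsg.Agent.Lib.Helper26

open Cfsg.Agent.Lib.Helper7

/-! ### A Sylow 2-subgroup of the Mathieu group of degree 24: tables and their checks -/

/-- Words (in the letters of the Mathieu group) of four generators of the Sylow subgroup. -/
def sylWs : List (List ℕ) := [[9, 2, 0, 1, 0, 17, 2, 9, 3, 10, 6, 11, 9], [2, 0, 1, 0, 17, 2, 4, 17, 9, 8, 7], [6, 2, 7, 16, 18, 5, 11, 10, 9, 7], [17, 12, 8, 14, 15, 11, 17, 23, 9, 8]]

/-- Tables of the four generators. -/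
def sylGt : List ℕ := [402016831818963973964020563772147744, 754653228850258680897336050584752160, 980396787561598970936339623786416672, 957388335653139618606774591402969349]

/-- Words of six generators of the subgroup that is abelian modulo the centre. -/
def sylAWs : List (List ℕ) := [[3, 12, 1, 12, 8, 2, 10, 3, 17, 23, 10, 8, 7], [15, 12, 1, 12, 8, 2, 3, 3, 6, 6, 10, 7], [6, 12, 1, 12, 6, 14, 7, 16, 11, 5, 23, 9, 8], [0, 10, 2, 15, 15, 11, 6, 6, 10, 9], [0, 0, 0, 2, 2, 18, 15, 11, 5, 23, 7], [6, 12, 1, 4, 12, 6, 14, 10, 3, 11, 9, 8, 7]]

/-- Tables of the six generators. -/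
def sylAGt : List ℕ := [194310060109064839548570020087474208, 526638165913923057791751431574896672, 444797377377960873524712563374952992, 972844729594116903785669970159175681, 980379050898699508729736784555018467, 425095908972501407309932575400071429]

/-- Table of the central involution. -/
def sylZT : ℕ := 983538748705957021171695317848558118

/-- Positions in the large table of representatives of the eight cosets of the subgroup. -/
def sylRho (k : ℕ) : ℕ := ([1023, 0, 1, 2, 3, 4, 6, 7] : List ℕ).getD k 1023

/-- Positions in the large table of the test elements. -/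
def sylTl (q : ℕ) : ℕ := ([152, 158, 176, 194, 281, 153, 28, 26, 154, 157, 24, 27, 131, 132, 0, 1, 128, 130, 4, 3] : List ℕ).getD q 1023

/-- Positions in the large table of the six generators of the subgroup. -/
def sylAIdx (s : ℕ) : ℕ := ([242, 631, 506, 965, 995, 427] : List ℕ).getD s 1023
/-- Entry of the large table. -/
def sylTab (i : ℕ) : ℕ := fld sylBig 192 0 120 i

/-- Parent of an entry. -/
def sylPar (i : ℕ) : ℕ := fld sylBig 192 120 10 i

/-- Generator carrying the parent to an entry. -/
def sylGen (i : ℕ) : ℕ := fld sylBig 192 130 2 i

/-- Depth of an entry. -/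
def sylDep (i : ℕ) : ℕ := fld sylBig 192 132 6 i

/-- Position of the product of a generator with an entry. -/
def sylNxt (s i : ℕ) : ℕ := fld sylBig 192 (138 + 10 * s) 10 i

/-- Parities of the numbers of the four generators in an entry. -/
def sylCb (i : ℕ) : ℕ := fld sylBig 192 178 4 i

/-- Position in the small table of the factor of an entry in the subgroup. -/
def sylJa (i : ℕ) : ℕ := fld sylBig 192 182 7 i

/-- Number of the coset of an entry. -/
def sylKc (i : ℕ) : ℕ := fld sylBig 192 189 3 i

/-- Entry of the small table. -/
def sylATab (j : ℕ) : ℕ := fld sylABig 193 0 120 j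

/-- Parent of an entry. -/
def sylAPar (j : ℕ) : ℕ := fld sylABig 193 120 7 j

/-- Generator carrying the parent to an entry. -/
def sylAGen (j : ℕ) : ℕ := fld sylABig 193 127 3 j

/-- Depth of an entry. -/
def sylADep (j : ℕ) : ℕ := fld sylABig 193 130 5 j

/-- Position of the product of a generator with an entry. -/
def sylANxt (s j : ℕ) : ℕ := fld sylABig 193 (135 + 7 * s) 7 j

/-- Bits `0..7`: commutation modulo the centre with the coset representatives; bit `8`: the
entry is the smaller one of its class modulo the centre. -/
def sylACm (j : ℕ) : ℕ := fld sylABig 193 184 9 j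

/-- Some `i < n` has `f i`. -/
def someB (f : ℕ → Bool) : ℕ → Bool
  | 0 => false
  | n + 1 => f n || someB f n

theorem someB_spec {f : ℕ → Bool} {n : ℕ} (h : someB f n = true) : ∃ i < n, f i = true := by
  induction n with
  | zero => simp [someB] at h
  | succ n ih =>
    simp only [someB, Bool.or_eq_true] at h
    rcases h with h | h
    · exact ⟨n, Nat.lt_succ_self n, h⟩
    · obtain ⟨i, hi, h⟩ := ih h
      exact ⟨i, Nat.lt_succ_of_lt hi, h⟩

/-- Two tables commute, or commute up to the central involution. -/
def commZAux (a b : ℕ) : Bool := (a == b) || (a == mulT sylZT b)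

/-- Two tables commute, or commute up to the central involution. -/
def commZ (s t : ℕ) : Bool := commZAux (mulT s t) (mulT t s)

/-- The entry is the smaller one of its class modulo the centre. -/
def sylCanon (t : ℕ) : Bool := decide (canonT t ≤ mulT sylZT t)

/-- Membership of an entry in the maximal subgroup with pattern `v`. -/
def sylInM (v i : ℕ) : Bool :=
  !(((v.testBit 0 && (sylCb i).testBit 0) != (v.testBit 1 && (sylCb i).testBit 1)) !=
    ((v.testBit 2 && (sylCb i).testBit 2) != (v.testBit 3 && (sylCb i).testBit 3)))

/-- The entry lies in the maximal subgroup with pattern `v`, commutes modulo the centre with the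
test elements of that subgroup and is the smaller one of its class. -/
def sylGoodZ (v i : ℕ) : Bool :=
  sylInM v i && allB (fun q => !(sylInM v (sylTl q)) || commZ (sylTab i) (sylTab (sylTl q))) 20 &&
    sylCanon (sylTab i)

theorem sylGt_eq : sylWs.map (evalT ltabs2) = sylGt := by decide +kernel

theorem sylAGt_eq : sylAWs.map (evalT ltabs2) = sylAGt := by decide +kernel

set_option maxRecDepth 1000000 in
theorem syl_nxt : allB (fun i => allB (fun s => decide (sylNxt s i < 1024) &&
    (mulT (sylGt.getD s idT) (sylTab i) == sylTab (sylNxt s i))) sylGt.length) 1024 = true := by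
  decide +kernel

set_option maxRecDepth 1000000 in
theorem syl_reach : allB (fun i => (i == 1023) || (decide (sylPar i < 1024) &&
    decide (sylDep (sylPar i) < sylDep i) && decide (sylGen i < sylGt.length) &&
    (sylNxt (sylGen i) (sylPar i) == i))) 1024 = true := by
  decide +kernel

set_option maxRecDepth 1000000 in
theorem syl_sorted : allB (fun i => decide (canonT (sylTab i) < canonT (sylTab (i + 1))))
    (1024 - 1) = true := by
  decide +kernel

theorem syl_root : sylTab 1023 = idT := by decide +kernel

set_option maxRecDepth 1000000 in
theorem sylA_nxt : allB (fun i => allB (fun s => decide (sylANxt s i < 128) &&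
    (mulT (sylAGt.getD s idT) (sylATab i) == sylATab (sylANxt s i))) sylAGt.length) 128 = true := by
  decide +kernel

set_option maxRecDepth 1000000 in
theorem sylA_reach : allB (fun i => (i == 127) || (decide (sylAPar i < 128) &&
    decide (sylADep (sylAPar i) < sylADep i) && decide (sylAGen i < sylAGt.length) &&
    (sylANxt (sylAGen i) (sylAPar i) == i))) 128 = true := by
  decide +kernel

set_option maxRecDepth 1000000 in
theorem sylA_sorted : allB (fun i => decide (canonT (sylATab i) < canonT (sylATab (i + 1))))
    (128 - 1) = true := by
  decide +kernel

theorem sylA_root : sylATab 127 = idT := by decide +kernel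

theorem syl_z : sylTab 1010 = sylZT := by decide +kernel

theorem sylA_z : sylATab 126 = sylZT := by decide +kernel

theorem syl_z_sq : mulT sylZT sylZT = idT := by decide +kernel

theorem syl_z_ne : canonT sylZT ≠ canonT idT := by decide +kernel

/-- The involution commutes with the generators. -/
theorem syl_z_central : allB (fun s => mulT sylZT (sylGt.getD s idT) ==
    mulT (sylGt.getD s idT) sylZT) 4 = true := by
  decide +kernel

set_option maxRecDepth 1000000 in
/-- Every other entry fails to commute with some generator. -/
theorem syl_centre : allB (fun i => (i == 1023) || (i == 1010) ||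
    someB (fun s => mulT (sylTab i) (sylGt.getD s idT) != mulT (sylGt.getD s idT) (sylTab i)) 4)
    1024 = true := by
  decide +kernel

/-- The generators of the subgroup are entries of the large table. -/
theorem sylA_gens : allB (fun s => decide (sylAIdx s < 1024) &&
    (sylAGt.getD s idT == sylTab (sylAIdx s))) 6 = true := by
  decide +kernel

set_option maxRecDepth 1000000 in
/-- The subgroup is abelian modulo the centre. -/
theorem sylA_comm : allB (fun j => allB (fun j' => commZ (sylATab j) (sylATab j')) j) 128
    = true := by
  decide +kernel

set_option maxRecDepth 1000000 in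
/-- The squares of the subgroup are central. -/
theorem sylA_sq : allB (fun j => commZAux idT (mulT (sylATab j) (sylATab j))) 128 = true := by
  decide +kernel

theorem sylRho_lt : allB (fun k => decide (sylRho k < 1024)) 8 = true := by decide +kernel

theorem sylTl_lt : allB (fun q => decide (sylTl q < 1024)) 20 = true := by decide +kernel

set_option maxRecDepth 1000000 in
/-- Every entry is the product of an entry of the small table and a coset representative. -/
theorem syl_coset : allB (fun i => decide (sylJa i < 128) && decide (sylKc i < 8) &&
    (mulT (sylATab (sylJa i)) (sylTab (sylRho (sylKc i))) == sylTab i)) 1024 = true := by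
  decide +kernel

set_option maxRecDepth 1000000 in
/-- The bits of the small table are what they are said to be. -/
theorem sylA_cm : allB (fun j => allB (fun k =>
    commZ (sylATab j) (sylTab (sylRho k)) == (sylACm j).testBit k) 8 &&
    (sylCanon (sylATab j) == (sylACm j).testBit 8)) 128 = true := by
  decide +kernel

set_option maxRecDepth 1000000 in
theorem sylA_cnt1 : allB (fun k => (k == 0) || decide (cntL (fun j =>
    (sylACm j).testBit 8 && (sylACm j).testBit k) 128 ≤ 16)) 8 = true := by
  decide +kernel

set_option maxRecDepth 1000000 in
theorem sylA_cnt2 : allB (fun k => allB (fun l => (k == 0) || (l == 0) || (k == l) ||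
    decide (cntL (fun j => (sylACm j).testBit 8 && (sylACm j).testBit k &&
      (sylACm j).testBit l) 128 ≤ 8)) 8) 8 = true := by
  decide +kernel

set_option maxRecDepth 1000000 in
theorem sylA_cnt3 : decide (cntL (fun j => (sylACm j).testBit 8 &&
    allB (fun k => (sylACm j).testBit k) 8) 128 ≤ 4) = true := by
  decide +kernel

theorem syl_cb_root : sylCb 1023 = 0 := by decide +kernel

set_option maxRecDepth 1000000 in
/-- The parities follow the tree of the table. -/
theorem syl_cb : allB (fun i => (i == 1023) || allB (fun s => (sylCb i).testBit s ==
    ((sylCb (sylPar i)).testBit s != (s == sylGen i))) 4) 1024 = true := by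
  decide +kernel

set_option maxRecDepth 1000000 in
/-- The centre of each maximal subgroup has at most eight classes. -/
theorem syl_max : allB (fun v => (v == 0) || decide (cntL (sylGoodZ v) 1024 ≤ 8)) 16 = true := by
  decide +kernel

end Cfsg.Agent.Lib.Helper26
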