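import Cfsg.Agent.Lib.Helper26.Cert2

set_option autoImplicit false

open scoped Pointwise

namespace Cfsg.Agent.Lib.Helper26

open Cfsg.Agent.Lib.Helper7

/-- The canonical packed table with the same normalised entries. -/
def canonT (t : ℕ) : ℕ := packTab (fun i => nlane t i) 24

theorem packTab_congr {f g : ℕ → ℕ} (n : ℕ) (h : ∀ i < n, f i = g i) :
    packTab f n = packTab g n := by
  induction n with
  | zero => rfl
  | succ n ih =>
    rw [packTab_succ, packTab_succ, h n (Nat.lt_succ_self n),
      ih (fun i hi => h i (Nat.lt_succ_of_lt hi))]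

theorem canonT_eq_of_repT {σ : Equiv.Perm Cfsg.GolayPt} {t t' : ℕ} (h : RepT σ t)
    (h' : RepT σ t') : canonT t = canonT t' := by
  unfold canonT
  apply packTab_congr
  intro i hi
  have h1 := h (pt i)
  rw [h' (pt i), idx_pt hi] at h1
  have h2 := congrArg idx h1
  rw [idx_pt (nlane_lt _ _), idx_pt (nlane_lt _ _)] at h2
  exact h2.symm

theorem getD_mem_of_lt {α : Type*} (L : List α) (d : α) {s : ℕ} (hs : s < L.length) :
    L.getD s d ∈ L := by
  rw [List.getD_eq_getElem _ _ hs]
  exact List.getElem_mem hs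

theorem exists_getD_of_mem {α : Type*} {L : List α} (d : α) {x : α} (hx : x ∈ L) :
    ∃ s < L.length, L.getD s d = x := by
  obtain ⟨s, hs, rfl⟩ := List.mem_iff_getElem.mp hx
  exact ⟨s, hs, List.getD_eq_getElem _ _ hs⟩

/-- A group generated by a list of permutations, enumerated by a table closed under left
multiplication by the generators in which every entry is reached from the identity. -/
theorem table_group {gens : List (Equiv.Perm Cfsg.GolayPt)} {gtabs : List ℕ}
    (hrep : List.Forall₂ RepT gens gtabs)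
    (n : ℕ) (tab : ℕ → ℕ) (nxt : ℕ → ℕ → ℕ) (par gen dep : ℕ → ℕ) (root : ℕ)
    (hroot : root < n) (hroot' : tab root = idT)
    (hnxt : allB (fun i => allB (fun s => decide (nxt s i < n) &&
      (mulT (gtabs.getD s idT) (tab i) == tab (nxt s i))) gtabs.length) n = true)
    (hreach : allB (fun i => (i == root) || (decide (par i < n) && decide (dep (par i) < dep i) &&
      decide (gen i < gtabs.length) && (nxt (gen i) (par i) == i))) n = true)
    (hsorted : allB (fun i => decide (canonT (tab i) < canonT (tab (i + 1)))) (n - 1) = true) :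
    (∀ σ, σ ∈ Subgroup.closure {g | g ∈ gens} ↔ ∃ i < n, RepT σ (tab i)) ∧
      Nat.card ↥(Subgroup.closure {g | g ∈ gens}) = n := by
  classical
  have hlen : gens.length = gtabs.length := hrep.length_eq
  have hstep : ∀ i < n, ∀ s < gtabs.length, nxt s i < n ∧
      mulT (gtabs.getD s idT) (tab i) = tab (nxt s i) := by
    intro i hi s hs
    have h := allB_spec (allB_spec hnxt i hi) s hs
    simpa using h
  -- every entry is reached
  have reach : ∀ d, ∀ i < n, dep i = d →
      ∃ σ ∈ Subgroup.closure {g | g ∈ gens}, RepT σ (tab i) := by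
    intro d
    induction d using Nat.strong_induction_on with
    | _ d ih =>
      intro i hi hd
      have h := allB_spec hreach i hi
      rw [Bool.or_eq_true] at h
      rcases h with h | h
      · rw [beq_iff_eq] at h
        rw [h, hroot']
        exact ⟨1, Subgroup.one_mem _, repT_one⟩
      · simp only [Bool.and_eq_true, decide_eq_true_eq, beq_iff_eq] at h
        obtain ⟨⟨⟨h1, h2⟩, h3⟩, h4⟩ := h
        obtain ⟨σ, hσ, hσ2⟩ := ih (dep (par i)) (by omega) (par i) h1 rfl
        have hg : gens.getD (gen i) 1 ∈ Subgroup.closure {g | g ∈ gens} :=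
          Subgroup.subset_closure (getD_mem_of_lt gens 1 (by omega))
        refine ⟨gens.getD (gen i) 1 * σ, Subgroup.mul_mem _ hg hσ, ?_⟩
        have h5 := (repT_getD hrep (gen i)).mul hσ2
        rw [(hstep (par i) h1 (gen i) h3).2, h4] at h5
        exact h5
  -- the set of permutations in the table
  have closedL : ∀ g ∈ gens, ∀ σ, (∃ i < n, RepT σ (tab i)) → ∃ i < n, RepT (g * σ) (tab i) := by
    intro g hg σ hσ
    obtain ⟨i, hi, hσi⟩ := hσ
    obtain ⟨s, hs, rfl⟩ := exists_getD_of_mem 1 hg
    have h5 := (repT_getD hrep s).mul hσi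
    rw [(hstep i hi s (by omega)).2] at h5
    exact ⟨nxt s i, (hstep i hi s (by omega)).1, h5⟩
  have closedInv : ∀ g ∈ gens, ∀ σ, (∃ i < n, RepT σ (tab i)) →
      ∃ i < n, RepT (g⁻¹ * σ) (tab i) := by
    intro g hg σ hσ
    let X : Set (Equiv.Perm Cfsg.GolayPt) := {σ | ∃ i < n, RepT σ (tab i)}
    let φ : ↥X → ↥X := fun y => ⟨g * y.1, closedL g hg y.1 y.2⟩
    have hinj : Function.Injective φ := by
      intro y y' e
      have e1 : g * y.1 = g * y'.1 := congrArg Subtype.val e
      exact Subtype.ext (mul_left_cancel e1)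
    have hsurj : Function.Surjective φ := Finite.surjective_of_injective hinj
    obtain ⟨y, hy⟩ := hsurj ⟨σ, hσ⟩
    have e1 : g * y.1 = σ := congrArg Subtype.val hy
    have e2 : g⁻¹ * σ = y.1 := by rw [← e1, inv_mul_cancel_left]
    rw [e2]
    exact y.2
  have hmem : ∀ σ, σ ∈ Subgroup.closure {g | g ∈ gens} ↔ ∃ i < n, RepT σ (tab i) := by
    intro σ
    constructor
    · intro hσ
      induction hσ using Subgroup.closure_induction_left with
      | one => exact ⟨root, hroot, by rw [hroot']; exact repT_one⟩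
      | mul_left x hx y _ ih => exact closedL x hx y ih
      | inv_mul_cancel x hx y _ ih => exact closedInv x hx y ih
    · rintro ⟨i, hi, hσi⟩
      obtain ⟨σ', hσ', hσ2⟩ := reach _ i hi rfl
      rw [hσi.ext hσ2]
      exact hσ'
  refine ⟨hmem, ?_⟩
  have hinjT := inj_of_sorted hsorted
  let f : Fin n → ↥(Subgroup.closure {g | g ∈ gens}) := fun i =>
    ⟨Classical.choose (reach _ i.1 i.2 rfl), (Classical.choose_spec (reach _ i.1 i.2 rfl)).1⟩
  have hf : ∀ i : Fin n, RepT (f i).1 (tab i.1) := fun i =>
    (Classical.choose_spec (reach _ i.1 i.2 rfl)).2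
  have hfinj : Function.Injective f := by
    intro i j e
    have h1 := hf i
    rw [e] at h1
    exact Fin.ext (hinjT i.1 i.2 j.1 j.2 (canonT_eq_of_repT h1 (hf j)))
  have hfsurj : Function.Surjective f := by
    intro σ
    obtain ⟨i, hi, hσi⟩ := (hmem σ.1).mp σ.2
    exact ⟨⟨i, hi⟩, Subtype.ext ((hf ⟨i, hi⟩).ext hσi)⟩
  rw [← Nat.card_congr (Equiv.ofBijective f ⟨hfinj, hfsurj⟩), Nat.card_fin]

end Cfsg.Agent.Lib.Helper26
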