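import Mathlib
import Cfsg.Agent.Lib.Helper26.SetTrans
import Cfsg.Agent.Lib.Helper93.Sextets
import Cfsg.Agent.S1553
import Cfsg.Agent.S1554

set_option autoImplicit false

open scoped Pointwise

namespace Cfsg.Agent.Lib.Helper26

open Cfsg.Agent.Lib.Helper7 Cfsg.Agent.Lib.Helper93

theorem smul_eq_self_of_fix {h : Equiv.Perm Cfsg.GolayPt} {A : Finset Cfsg.GolayPt}
    (hfix : ∀ x ∈ A, h x = x) : h • A = A := by
  ext p
  constructor
  · intro hp
    obtain ⟨q, hq, rfl⟩ := Finset.mem_smul_finset.mp hp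
    rw [show h • q = q from hfix q hq]
    exact hq
  · intro hp
    rw [← hfix p hp]
    exact Finset.smul_mem_smul_finset hp

/-- The stabiliser of an octad contains an element inducing a prescribed 3-cycle on it. -/
theorem exists_three_cycle {o : Finset Cfsg.GolayPt} (ho : o ∈ Cfsg.octads)
    {p q r : Cfsg.GolayPt} (hp : p ∈ o) (hq : q ∈ o) (hr : r ∈ o) (hpq : p ≠ q) (hqr : q ≠ r)
    (hpr : p ≠ r) :
    ∃ g ∈ Cfsg.M24, g • o = o ∧ g p = q ∧ ∀ x ∈ o, x ≠ p → x ≠ q → x ≠ r → g x = x := by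
  classical
  have hpq' : (⟨p, hp⟩ : ↥o) ≠ ⟨q, hq⟩ := fun h => hpq (Subtype.ext_iff.mp h)
  have hqr' : (⟨q, hq⟩ : ↥o) ≠ ⟨r, hr⟩ := fun h => hqr (Subtype.ext_iff.mp h)
  have hpr' : (⟨p, hp⟩ : ↥o) ≠ ⟨r, hr⟩ := fun h => hpr (Subtype.ext_iff.mp h)
  have hπ : Equiv.swap (⟨p, hp⟩ : ↥o) ⟨q, hq⟩ * Equiv.swap ⟨q, hq⟩ ⟨r, hr⟩
      ∈ alternatingGroup ↥o := by
    rw [Equiv.Perm.mem_alternatingGroup, map_mul, Equiv.Perm.sign_swap hpq',
      Equiv.Perm.sign_swap hqr']
    rfl
  rw [← Cfsg.Agent.S1553.range_resHom o ho] at hπ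
  obtain ⟨g, hg⟩ := hπ
  refine ⟨g.1, g.2.1, g.2.2, ?_, ?_⟩
  · have h1 := congrArg (fun e : Equiv.Perm ↥o => (e ⟨p, hp⟩ : Cfsg.GolayPt)) hg
    simp only [Cfsg.Agent.S1553.resHom_apply] at h1
    rw [h1, Equiv.Perm.mul_apply, Equiv.swap_apply_of_ne_of_ne hpq' hpr', Equiv.swap_apply_left]
  · intro x hx hxp hxq hxr
    have hxp' : (⟨x, hx⟩ : ↥o) ≠ ⟨p, hp⟩ := fun h => hxp (Subtype.ext_iff.mp h)
    have hxq' : (⟨x, hx⟩ : ↥o) ≠ ⟨q, hq⟩ := fun h => hxq (Subtype.ext_iff.mp h)
    have hxr' : (⟨x, hx⟩ : ↥o) ≠ ⟨r, hr⟩ := fun h => hxr (Subtype.ext_iff.mp h)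
    have h1 := congrArg (fun e : Equiv.Perm ↥o => (e ⟨x, hx⟩ : Cfsg.GolayPt)) hg
    simp only [Cfsg.Agent.S1553.resHom_apply] at h1
    rw [h1, Equiv.Perm.mul_apply, Equiv.swap_apply_of_ne_of_ne hxq' hxr',
      Equiv.swap_apply_of_ne_of_ne hxp' hxq']

/-- The stabiliser of a triad is transitive on the disjoint triads lying with it in an octad, and
on those that do not. -/
theorem triad_trans {T U U' : Finset Cfsg.GolayPt} (hT : T.card = 3) (hU : U.card = 3)
    (hU' : U'.card = 3) (hTU : Disjoint T U) (hTU' : Disjoint T U')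
    (hiff : (∃ o ∈ Cfsg.octads, T ∪ U ⊆ o) ↔ (∃ o ∈ Cfsg.octads, T ∪ U' ⊆ o)) :
    ∃ g ∈ Cfsg.M24, g • T = T ∧ g • U = U' := by
  classical
  obtain ⟨f, hf⟩ : ∃ f, f ∈ U := Finset.card_pos.mp (by omega)
  obtain ⟨f', hf'⟩ : ∃ f', f' ∈ U' := Finset.card_pos.mp (by omega)
  set P := U.erase f with hPdef
  set P' := U'.erase f' with hP'def
  have hP : P.card = 2 := by rw [Finset.card_erase_of_mem hf, hU]
  have hP' : P'.card = 2 := by rw [Finset.card_erase_of_mem hf', hU']
  have hTP : Disjoint T P := hTU.mono_right (Finset.erase_subset _ _)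
  have hTP' : Disjoint T P' := hTU'.mono_right (Finset.erase_subset _ _)
  obtain ⟨g₁, hg₁, h1, h2, -⟩ := M24_three_blocks (A := T) (B := P) (C := ∅) (A' := T) (B' := P')
    (C' := ∅) hTP (by simp) (by simp) hTP' (by simp) (by simp) rfl (hP.trans hP'.symm) rfl
    (by simp; omega)
  have h5 : (T ∪ P').card = 5 := by rw [Finset.card_union_of_disjoint hTP', hT, hP']
  obtain ⟨o', ho', hWo'⟩ := octad_exists h5
  have hU_eq : U = insert f P := (Finset.insert_erase hf).symm
  have hU'_eq : U' = insert f' P' := (Finset.insert_erase hf').symm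
  have hg₁U : g₁ • U = insert (g₁ f) P' := by
    rw [hU_eq, Finset.smul_finset_insert, h2]
    rfl
  have hfT : f ∉ T := fun h => Finset.disjoint_left.mp hTU h hf
  have hfP : f ∉ P := Finset.notMem_erase f U
  have hf'T : f' ∉ T := fun h => Finset.disjoint_left.mp hTU' h hf'
  have hf'P : f' ∉ P' := Finset.notMem_erase f' U'
  have hf₁W : g₁ f ∉ T ∪ P' := by
    intro h
    rw [Finset.mem_union] at h
    rcases h with h | h
    · rw [← h1] at h
      exact hfT ((Finset.smul_mem_smul_finset_iff g₁).mp h)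
    · rw [← h2] at h
      exact hfP ((Finset.smul_mem_smul_finset_iff g₁).mp h)
  have hf'W : f' ∉ T ∪ P' := by
    intro h
    rw [Finset.mem_union] at h
    exact h.elim hf'T hf'P
  suffices hsuff : ∃ h ∈ Cfsg.M24, (∀ x ∈ T ∪ P', h x = x) ∧ h (g₁ f) = f' by
    obtain ⟨h, hh, hfix, hhf⟩ := hsuff
    refine ⟨h * g₁, Cfsg.M24.mul_mem hh hg₁, ?_, ?_⟩
    · rw [mul_smul, h1]
      exact smul_eq_self_of_fix (fun x hx => hfix x (Finset.mem_union_left _ hx))
    · rw [mul_smul, hg₁U, Finset.smul_finset_insert, hU'_eq,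
        smul_eq_self_of_fix (fun x hx => hfix x (Finset.mem_union_right _ hx))]
      congr 1
  by_cases hoct : ∃ o ∈ Cfsg.octads, T ∪ U ⊆ o
  · obtain ⟨o, ho, hTUo⟩ := hoct
    obtain ⟨o₂, ho₂, hTUo₂⟩ := hiff.mp ⟨o, ho, hTUo⟩
    have hWo₂ : T ∪ P' ⊆ o₂ := fun x hx => hTUo₂ (by
      rw [Finset.mem_union] at hx ⊢
      exact hx.imp id (fun h => Finset.mem_of_mem_erase h))
    have ho₂' : o₂ = o' := octad_eq_of_inter_ge ho₂ ho' (by
      have := Finset.card_le_card (Finset.subset_inter hWo₂ hWo')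
      omega)
    have hWgo : T ∪ P' ⊆ g₁ • o := by
      intro x hx
      rw [Finset.mem_union] at hx
      rcases hx with hx | hx
      · rw [← h1] at hx
        exact Finset.smul_finset_subset_smul_finset
          (Finset.union_subset_left hTUo) hx
      · rw [← h2] at hx
        exact Finset.smul_finset_subset_smul_finset
          (fun y hy => hTUo (Finset.mem_union_right _ (Finset.mem_of_mem_erase hy))) hx
    have hgo : g₁ • o = o' := octad_eq_of_inter_ge (smul_mem_octads hg₁ ho) ho' (by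
      have := Finset.card_le_card (Finset.subset_inter hWgo hWo')
      omega)
    have hf₁o' : g₁ f ∈ o' := by
      rw [← hgo]
      exact Finset.smul_mem_smul_finset (hTUo (Finset.mem_union_right _ hf))
    have hf'o' : f' ∈ o' := by
      rw [← ho₂']
      exact hTUo₂ (Finset.mem_union_right _ hf')
    by_cases hff : g₁ f = f'
    · exact ⟨1, Cfsg.M24.one_mem, fun x _ => rfl, hff⟩
    · have hex : ∃ r ∈ o', r ∉ T ∪ P' ∧ r ≠ g₁ f ∧ r ≠ f' := by
        have hc : 1 ≤ ((o' \ (T ∪ P')) \ {g₁ f, f'}).card := by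
          have e1 := Finset.card_sdiff_of_subset hWo'
          have e2 := Finset.le_card_sdiff {g₁ f, f'} (o' \ (T ∪ P'))
          have e3 := Finset.card_le_two (a := g₁ f) (b := f')
          have e4 := ho'.2
          omega
        obtain ⟨r, hr⟩ := Finset.card_pos.mp hc
        simp only [Finset.mem_sdiff, Finset.mem_insert, Finset.mem_singleton, not_or] at hr
        exact ⟨r, hr.1.1, hr.1.2, hr.2.1, hr.2.2⟩
      obtain ⟨r, hro', hrW, hrf₁, hrf'⟩ := hex
      obtain ⟨h, hh, -, hhf, hfix⟩ :=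
        exists_three_cycle ho' hf₁o' hf'o' hro' hff (Ne.symm hrf') (Ne.symm hrf₁)
      refine ⟨h, hh, fun x hx => hfix x (hWo' hx) ?_ ?_ ?_, hhf⟩
      · rintro rfl
        exact hf₁W hx
      · rintro rfl
        exact hf'W hx
      · rintro rfl
        exact hrW hx
  · have hoct' : ¬ ∃ o ∈ Cfsg.octads, T ∪ U' ⊆ o := fun h => hoct (hiff.mpr h)
    have hf₁o' : g₁ f ∉ o' := by
      intro hmem
      apply hoct
      refine ⟨g₁⁻¹ • o', smul_mem_octads (Cfsg.M24.inv_mem hg₁) ho', ?_⟩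
      rw [← Finset.smul_finset_subset_iff, Finset.smul_finset_union, h1, hg₁U]
      intro x hx
      rw [Finset.mem_union, Finset.mem_insert] at hx
      rcases hx with hx | rfl | hx
      · exact hWo' (Finset.mem_union_left _ hx)
      · exact hmem
      · exact hWo' (Finset.mem_union_right _ hx)
    have hf'o' : f' ∉ o' := by
      intro hmem
      apply hoct'
      refine ⟨o', ho', ?_⟩
      rw [hU'_eq]
      intro x hx
      rw [Finset.mem_union, Finset.mem_insert] at hx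
      rcases hx with hx | rfl | hx
      · exact hWo' (Finset.mem_union_left _ hx)
      · exact hmem
      · exact hWo' (Finset.mem_union_right _ hx)
    obtain ⟨h, ⟨hh1, hh2⟩, hhf⟩ := Cfsg.Agent.S1554.pointwise_trans ho' hf₁o' hf'o'
    exact ⟨h, hh1, fun x hx => (mem_fixingSubgroup_iff _).mp hh2 x (hWo' hx), hhf⟩

/-- A triad lies in an octad with 210 of the triads disjoint from it. -/
theorem triad_count_oct (T : Finset Cfsg.GolayPt) (hT : T.card = 3) :
    {U : Finset Cfsg.GolayPt | U.card = 3 ∧ Disjoint T U ∧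
      (∃ o ∈ Cfsg.octads, T ∪ U ⊆ o)}.ncard = 210 := by
  classical
  have hlam := steiner_lambda octads_steiner octadFinset mem_octadFinset T (by omega)
  rw [hT, card_golayPt] at hlam
  have h21 : (octadFinset.filter (fun o => T ⊆ o)).card = 21 := by
    norm_num [Nat.choose] at hlam
    omega
  have hset : {U : Finset Cfsg.GolayPt | U.card = 3 ∧ Disjoint T U ∧
      (∃ o ∈ Cfsg.octads, T ∪ U ⊆ o)} = ↑((octadFinset.filter (fun o => T ⊆ o)).biUnion
        (fun o => Finset.powersetCard 3 (o \ T))) := by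
    ext U
    simp only [Set.mem_ofPred_eq, Finset.coe_biUnion, Set.mem_iUnion, Finset.mem_coe,
      Finset.mem_filter, mem_octadFinset, Finset.mem_powersetCard, exists_prop]
    constructor
    · rintro ⟨hU, hd, o, ho, hsub⟩
      exact ⟨o, ⟨ho, Finset.union_subset_left hsub⟩, ⟨fun p hp => Finset.mem_sdiff.mpr
        ⟨hsub (Finset.mem_union_right _ hp), fun hpT => Finset.disjoint_left.mp hd hpT hp⟩, hU⟩⟩
    · rintro ⟨o, ⟨ho, hTo⟩, hUo, hU⟩
      exact ⟨hU, Finset.disjoint_right.mpr fun p hp => (Finset.mem_sdiff.mp (hUo hp)).2, o, ho,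
        Finset.union_subset hTo (fun p hp => (Finset.mem_sdiff.mp (hUo hp)).1)⟩
  rw [hset, Set.ncard_coe_finset, Finset.card_biUnion]
  · rw [Finset.sum_congr rfl (g := fun _ => 10), Finset.sum_const, h21]
    · rfl
    · intro o ho
      rw [Finset.mem_filter, mem_octadFinset] at ho
      rw [Finset.card_powersetCard, Finset.card_sdiff_of_subset ho.2, octad_card ho.1, hT]
      rfl
  · intro o ho o' ho' hne
    simp only [Finset.coe_filter, mem_octadFinset, Set.mem_ofPred_eq] at ho ho'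
    rw [Function.onFun, Finset.disjoint_left]
    intro U hU hU'
    rw [Finset.mem_powersetCard] at hU hU'
    apply hne
    apply octad_eq_of_inter_ge ho.1 ho'.1
    have hd : Disjoint T U :=
      Finset.disjoint_right.mpr fun p hp => (Finset.mem_sdiff.mp (hU.1 hp)).2
    have hsub : T ∪ U ⊆ o ∩ o' := by
      intro p hp
      rw [Finset.mem_union] at hp
      rw [Finset.mem_inter]
      rcases hp with hp | hp
      · exact ⟨ho.2 hp, ho'.2 hp⟩
      · exact ⟨(Finset.mem_sdiff.mp (hU.1 hp)).1, (Finset.mem_sdiff.mp (hU'.1 hp)).1⟩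
    have hcard : (T ∪ U).card = 6 := by rw [Finset.card_union_of_disjoint hd, hT, hU.2]
    have := Finset.card_le_card hsub
    omega

/-- A triad lies in no octad with 1120 of the triads disjoint from it. -/
theorem triad_count_non (T : Finset Cfsg.GolayPt) (hT : T.card = 3) :
    {U : Finset Cfsg.GolayPt | U.card = 3 ∧ Disjoint T U ∧
      ¬ (∃ o ∈ Cfsg.octads, T ∪ U ⊆ o)}.ncard = 1120 := by
  classical
  have h1 := ncard_inter_eq T 3 0 (by omega)
  rw [hT] at h1
  have h2 : {y : Finset Cfsg.GolayPt | y.card = 3 ∧ (T ∩ y).card = 0}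
      = {U : Finset Cfsg.GolayPt | U.card = 3 ∧ Disjoint T U ∧
          (∃ o ∈ Cfsg.octads, T ∪ U ⊆ o)} ∪
        {U : Finset Cfsg.GolayPt | U.card = 3 ∧ Disjoint T U ∧
          ¬ (∃ o ∈ Cfsg.octads, T ∪ U ⊆ o)} := by
    ext U
    simp only [Set.mem_ofPred_eq, Set.mem_union, Finset.card_eq_zero,
      ← Finset.disjoint_iff_inter_eq_empty]
    constructor
    · rintro ⟨hU, hd⟩
      by_cases hex : ∃ o ∈ Cfsg.octads, T ∪ U ⊆ o
      · exact Or.inl ⟨hU, hd, hex⟩
      · exact Or.inr ⟨hU, hd, hex⟩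
    · rintro (⟨hU, hd, -⟩ | ⟨hU, hd, -⟩) <;> exact ⟨hU, hd⟩
  have h3 : Disjoint {U : Finset Cfsg.GolayPt | U.card = 3 ∧ Disjoint T U ∧
        (∃ o ∈ Cfsg.octads, T ∪ U ⊆ o)}
      {U : Finset Cfsg.GolayPt | U.card = 3 ∧ Disjoint T U ∧
        ¬ (∃ o ∈ Cfsg.octads, T ∪ U ⊆ o)} := by
    rw [Set.disjoint_left]
    rintro U ⟨-, -, h⟩ ⟨-, -, h'⟩
    exact h' h
  rw [h2, Set.ncard_union_eq h3 (Set.toFinite _) (Set.toFinite _), triad_count_oct T hT] at h1
  have h4 : (Nat.choose 3 0 * Nat.choose (24 - 3) (3 - 0)) = 1330 := by decide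
  omega

end Cfsg.Agent.Lib.Helper26
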